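import Cfsg.Agent.Lib.TC.SubGen

namespace Cfsg.Agent.Lib.TC.D.XE6.Rels

open Cfsg.Agent.Lib.TC.Core Cfsg.Agent.Lib.TC.Enc Cfsg.Agent.Lib.TC.Pres Cfsg.Agent.Lib.TC.Perm Cfsg.Agent.Lib.TC.Main Cfsg.Agent.Lib.TC.Chain Cfsg.Agent.Lib.TC.SubPres Cfsg.Agent.Lib.TC.Iso

set_option maxRecDepth 100000

/-- The relators. -/
def relsH : List (List Nat) :=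
  [[0,0],
   [1,1],
   [2,2],
   [3,3],
   [4,4],
   [5,5],
   [6,6],
   [0,1,0,1,0,1],
   [0,2,0,2],
   [0,3,0,3],
   [0,4,0,4],
   [0,5,0,5],
   [0,6,0,6],
   [1,2,1,2,1,2],
   [1,3,1,3],
   [1,4,1,4],
   [1,5,1,5],
   [1,6,1,6],
   [2,3,2,3,2,3],
   [2,4,2,4],
   [2,5,2,5,2,5],
   [2,6,2,6],
   [3,4,3,4,3,4],
   [3,5,3,5],
   [3,6,3,6],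
   [4,5,4,5],
   [4,6,4,6],
   [5,6,5,6,5,6],
   [6,5,2,1,0,3,2,1,4,3,2,5,2,3,4,1,2,3,0,1,2,5,6,5,2,1,0,3,2,1,4,3,2,5,2,3,4,1,2,3,0,1,2,5,6,5,2,1,0,3,2,1,4,3,2,5,2,3,4,1,2,3,0,1,2,5,0,5,2,1,0,3,2,1,4,3,2,5,2,3,4,1,2,3,0,1,2,5,6,5,2,1,0,3,2,1,4,3,2,5,2,3,4,1,2,3,0,1,2,5,6,5,2,1,0,3,2,1,4,3,2,5,2,3,4,1,2,3,0,1,2,5,6,0],
   [6,5,2,1,0,3,2,1,4,3,2,5,2,3,4,1,2,3,0,1,2,5,6,5,2,1,0,3,2,1,4,3,2,5,2,3,4,1,2,3,0,1,2,5,6,5,2,1,0,3,2,1,4,3,2,5,2,3,4,1,2,3,0,1,2,5,1,5,2,1,0,3,2,1,4,3,2,5,2,3,4,1,2,3,0,1,2,5,6,5,2,1,0,3,2,1,4,3,2,5,2,3,4,1,2,3,0,1,2,5,6,5,2,1,0,3,2,1,4,3,2,5,2,3,4,1,2,3,0,1,2,5,6,1],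
   [6,5,2,1,0,3,2,1,4,3,2,5,2,3,4,1,2,3,0,1,2,5,6,5,2,1,0,3,2,1,4,3,2,5,2,3,4,1,2,3,0,1,2,5,6,5,2,1,0,3,2,1,4,3,2,5,2,3,4,1,2,3,0,1,2,5,2,5,2,1,0,3,2,1,4,3,2,5,2,3,4,1,2,3,0,1,2,5,6,5,2,1,0,3,2,1,4,3,2,5,2,3,4,1,2,3,0,1,2,5,6,5,2,1,0,3,2,1,4,3,2,5,2,3,4,1,2,3,0,1,2,5,6,2],
   [6,5,2,1,0,3,2,1,4,3,2,5,2,3,4,1,2,3,0,1,2,5,6,5,2,1,0,3,2,1,4,3,2,5,2,3,4,1,2,3,0,1,2,5,6,5,2,1,0,3,2,1,4,3,2,5,2,3,4,1,2,3,0,1,2,5,3,5,2,1,0,3,2,1,4,3,2,5,2,3,4,1,2,3,0,1,2,5,6,5,2,1,0,3,2,1,4,3,2,5,2,3,4,1,2,3,0,1,2,5,6,5,2,1,0,3,2,1,4,3,2,5,2,3,4,1,2,3,0,1,2,5,6,3],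
   [6,5,2,1,0,3,2,1,4,3,2,5,2,3,4,1,2,3,0,1,2,5,6,5,2,1,0,3,2,1,4,3,2,5,2,3,4,1,2,3,0,1,2,5,6,5,2,1,0,3,2,1,4,3,2,5,2,3,4,1,2,3,0,1,2,5,4,5,2,1,0,3,2,1,4,3,2,5,2,3,4,1,2,3,0,1,2,5,6,5,2,1,0,3,2,1,4,3,2,5,2,3,4,1,2,3,0,1,2,5,6,5,2,1,0,3,2,1,4,3,2,5,2,3,4,1,2,3,0,1,2,5,6,4],
   [6,5,2,1,0,3,2,1,4,3,2,5,2,3,4,1,2,3,0,1,2,5,6,5,2,1,0,3,2,1,4,3,2,5,2,3,4,1,2,3,0,1,2,5,6,5,2,1,0,3,2,1,4,3,2,5,2,3,4,1,2,3,0,1,2,5,5,5,2,1,0,3,2,1,4,3,2,5,2,3,4,1,2,3,0,1,2,5,6,5,2,1,0,3,2,1,4,3,2,5,2,3,4,1,2,3,0,1,2,5,6,5,2,1,0,3,2,1,4,3,2,5,2,3,4,1,2,3,0,1,2,5,6,5],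
   [6,5,2,1,0,3,2,1,4,3,2,5,2,3,4,1,2,3,0,1,2,5,6,5,2,1,0,3,2,1,4,3,2,5,2,3,4,1,2,3,0,1,2,5,6,5,2,1,0,3,2,1,4,3,2,5,2,3,4,1,2,3,0,1,2,5,6,5,2,1,0,3,2,1,4,3,2,5,2,3,4,1,2,3,0,1,2,5,6,5,2,1,0,3,2,1,4,3,2,5,2,3,4,1,2,3,0,1,2,5,6,5,2,1,0,3,2,1,4,3,2,5,2,3,4,1,2,3,0,1,2,5,6,6]]

/-- The columns. -/
abbrev Kp : Cols (Fin 7) := K 7

/-- The relators of the presented group. -/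
abbrev Rp : Set (FreeGroup (Fin 7)) := R 7 relsH

theorem hk : ∀ l ∈ relsH, ∀ z ∈ l, z < 7 := by decide +kernel

theorem hsq : ∀ c, c < 7 → [c, c] ∈ relsH := by decide +kernel

theorem hv : Kp.Valid (R := Rp) := valid 7 relsH hsq

theorem hrelsp : ∀ l ∈ relsH, ∃ L, FreeGroup.mk L ∈ Rp ∧ l = Kp.word L := SubPres.hrels 7 relsH hk

end Cfsg.Agent.Lib.TC.D.XE6.Rels
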