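import Cfsg.Agent.Lib.TC.D.XE6.Rels
import Cfsg.Agent.Lib.TC.Chain
import Cfsg.Agent.Lib.TC.D.XE6.S1_T0

namespace Cfsg.Agent.Lib.TC.D.XE6.S1_Tab

open Cfsg.Agent.Lib.TC.Core Cfsg.Agent.Lib.TC.Enc Cfsg.Agent.Lib.TC.Pres Cfsg.Agent.Lib.TC.Perm Cfsg.Agent.Lib.TC.Main Cfsg.Agent.Lib.TC.Chain

set_option maxRecDepth 100000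

/-- The chunks of the certificate. -/
noncomputable def ctree : Tr Nat := Cfsg.Agent.Lib.TC.D.XE6.S1_T0.tree

/-- The relator rotations. -/
noncomputable def rotT : Tr (List Nat) := (Tr.node (Tr.node (Tr.node (Tr.node (Tr.node (Tr.node (Tr.node (Tr.node (Tr.node (Tr.node (Tr.leaf [])
 (Tr.leaf [1,2,3,0,1,2,5,3,5,2,1,0,3,2,1,4,3,2,5,2,3,4,1,2,3,0,1,2,5,6,5,2,1,0,3,2,1,4,3,2,5,2,3,4,1,2,3,0,1,2,5,6,5,2,1,0,3,2,1,4,3,2,5,2,3,4,1,2,3,0,1,2,5,6,3,6,5,2,1,0,3,2,1,4,3,2,5,2,3,4,1,2,3,0,1,2,5,6,5,2,1,0,3,2,1,4,3,2,5,2,3,4,1,2,3,0,1,2,5,6,5,2,1,0,3,2,1,4,3,2,5,2,3,4]))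
 (Tr.node (Tr.leaf [3,2,1,4,3,2,5,2,3,4,1,2,3,0,1,2,5,6,5,2,1,0,3,2,1,4,3,2,5,2,3,4,1,2,3,0,1,2,5,6,5,2,1,0,3,2,1,4,3,2,5,2,3,4,1,2,3,0,1,2,5,6,1,6,5,2,1,0,3,2,1,4,3,2,5,2,3,4,1,2,3,0,1,2,5,6,5,2,1,0,3,2,1,4,3,2,5,2,3,4,1,2,3,0,1,2,5,6,5,2,1,0,3,2,1,4,3,2,5,2,3,4,1,2,3,0,1,2,5,1,5,2,1,0])
 (Tr.leaf [1,0,3,2,1,4,3,2,5,2,3,4,1,2,3,0,1,2,5,5,5,2,1,0,3,2,1,4,3,2,5,2,3,4,1,2,3,0,1,2,5,6,5,2,1,0,3,2,1,4,3,2,5,2,3,4,1,2,3,0,1,2,5,6,5,2,1,0,3,2,1,4,3,2,5,2,3,4,1,2,3,0,1,2,5,6,5,6,5,2,1,0,3,2,1,4,3,2,5,2,3,4,1,2,3,0,1,2,5,6,5,2,1,0,3,2,1,4,3,2,5,2,3,4,1,2,3,0,1,2,5,6,5,2])))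
 (Tr.node (Tr.node (Tr.leaf [5,2,3,4,1,2,3,0,1,2,5,6,5,2,1,0,3,2,1,4,3,2,5,2,3,4,1,2,3,0,1,2,5,6,5,2,1,0,3,2,1,4,3,2,5,2,3,4,1,2,3,0,1,2,5,6,0,6,5,2,1,0,3,2,1,4,3,2,5,2,3,4,1,2,3,0,1,2,5,6,5,2,1,0,3,2,1,4,3,2,5,2,3,4,1,2,3,0,1,2,5,6,5,2,1,0,3,2,1,4,3,2,5,2,3,4,1,2,3,0,1,2,5,0,5,2,1,0,3,2,1,4,3,2])
 (Tr.leaf [3,2,5,2,3,4,1,2,3,0,1,2,5,4,5,2,1,0,3,2,1,4,3,2,5,2,3,4,1,2,3,0,1,2,5,6,5,2,1,0,3,2,1,4,3,2,5,2,3,4,1,2,3,0,1,2,5,6,5,2,1,0,3,2,1,4,3,2,5,2,3,4,1,2,3,0,1,2,5,6,4,6,5,2,1,0,3,2,1,4,3,2,5,2,3,4,1,2,3,0,1,2,5,6,5,2,1,0,3,2,1,4,3,2,5,2,3,4,1,2,3,0,1,2,5,6,5,2,1,0,3,2,1,4]))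
 (Tr.node (Tr.leaf [5,2,5,2,1,0,3,2,1,4,3,2,5,2,3,4,1,2,3,0,1,2,5,6,5,2,1,0,3,2,1,4,3,2,5,2,3,4,1,2,3,0,1,2,5,6,5,2,1,0,3,2,1,4,3,2,5,2,3,4,1,2,3,0,1,2,5,6,2,6,5,2,1,0,3,2,1,4,3,2,5,2,3,4,1,2,3,0,1,2,5,6,5,2,1,0,3,2,1,4,3,2,5,2,3,4,1,2,3,0,1,2,5,6,5,2,1,0,3,2,1,4,3,2,5,2,3,4,1,2,3,0,1,2])
 (Tr.leaf [1,2,5,6,5,2,1,0,3,2,1,4,3,2,5,2,3,4,1,2,3,0,1,2,5,6,5,2,1,0,3,2,1,4,3,2,5,2,3,4,1,2,3,0,1,2,5,6,5,2,1,0,3,2,1,4,3,2,5,2,3,4,1,2,3,0,1,2,5,6,5,2,1,0,3,2,1,4,3,2,5,2,3,4,1,2,3,0,1,2,5,6,6,6,5,2,1,0,3,2,1,4,3,2,5,2,3,4,1,2,3,0,1,2,5,6,5,2,1,0,3,2,1,4,3,2,5,2,3,4,1,2,3,0]))))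
 (Tr.node (Tr.node (Tr.node (Tr.leaf [3,4,1,2,3,0,1,2,5,6,5,2,1,0,3,2,1,4,3,2,5,2,3,4,1,2,3,0,1,2,5,6,5,2,1,0,3,2,1,4,3,2,5,2,3,4,1,2,3,0,1,2,5,0,5,2,1,0,3,2,1,4,3,2,5,2,3,4,1,2,3,0,1,2,5,6,5,2,1,0,3,2,1,4,3,2,5,2,3,4,1,2,3,0,1,2,5,6,5,2,1,0,3,2,1,4,3,2,5,2,3,4,1,2,3,0,1,2,5,6,0,6,5,2,1,0,3,2,1,4,3,2,5,2])
 (Tr.leaf [3,4,1,2,3,0,1,2,5,6,3,6,5,2,1,0,3,2,1,4,3,2,5,2,3,4,1,2,3,0,1,2,5,6,5,2,1,0,3,2,1,4,3,2,5,2,3,4,1,2,3,0,1,2,5,6,5,2,1,0,3,2,1,4,3,2,5,2,3,4,1,2,3,0,1,2,5,3,5,2,1,0,3,2,1,4,3,2,5,2,3,4,1,2,3,0,1,2,5,6,5,2,1,0,3,2,1,4,3,2,5,2,3,4,1,2,3,0,1,2,5,6,5,2,1,0,3,2,1,4,3,2,5,2]))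
 (Tr.node (Tr.leaf [5,2,1,0,3,2,1,4,3,2,5,2,3,4,1,2,3,0,1,2,5,6,5,2,1,0,3,2,1,4,3,2,5,2,3,4,1,2,3,0,1,2,5,6,5,2,1,0,3,2,1,4,3,2,5,2,3,4,1,2,3,0,1,2,5,2,5,2,1,0,3,2,1,4,3,2,5,2,3,4,1,2,3,0,1,2,5,6,5,2,1,0,3,2,1,4,3,2,5,2,3,4,1,2,3,0,1,2,5,6,5,2,1,0,3,2,1,4,3,2,5,2,3,4,1,2,3,0,1,2,5,6,2,6])
 (Tr.leaf [5,2,1,0,3,2,1,4,3,2,5,2,3,4,1,2,3,0,1,2,5,6,5,6,5,2,1,0,3,2,1,4,3,2,5,2,3,4,1,2,3,0,1,2,5,6,5,2,1,0,3,2,1,4,3,2,5,2,3,4,1,2,3,0,1,2,5,6,5,2,1,0,3,2,1,4,3,2,5,2,3,4,1,2,3,0,1,2,5,5,5,2,1,0,3,2,1,4,3,2,5,2,3,4,1,2,3,0,1,2,5,6,5,2,1,0,3,2,1,4,3,2,5,2,3,4,1,2,3,0,1,2,5,6])))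
 (Tr.node (Tr.node (Tr.leaf [1,4,3,2,5,2,3,4,1,2,3,0,1,2,5,6,5,2,1,0,3,2,1,4,3,2,5,2,3,4,1,2,3,0,1,2,5,6,5,2,1,0,3,2,1,4,3,2,5,2,3,4,1,2,3,0,1,2,5,1,5,2,1,0,3,2,1,4,3,2,5,2,3,4,1,2,3,0,1,2,5,6,5,2,1,0,3,2,1,4,3,2,5,2,3,4,1,2,3,0,1,2,5,6,5,2,1,0,3,2,1,4,3,2,5,2,3,4,1,2,3,0,1,2,5,6,1,6,5,2,1,0,3,2])
 (Tr.leaf [1,4,3,2,5,2,3,4,1,2,3,0,1,2,5,6,4,6,5,2,1,0,3,2,1,4,3,2,5,2,3,4,1,2,3,0,1,2,5,6,5,2,1,0,3,2,1,4,3,2,5,2,3,4,1,2,3,0,1,2,5,6,5,2,1,0,3,2,1,4,3,2,5,2,3,4,1,2,3,0,1,2,5,4,5,2,1,0,3,2,1,4,3,2,5,2,3,4,1,2,3,0,1,2,5,6,5,2,1,0,3,2,1,4,3,2,5,2,3,4,1,2,3,0,1,2,5,6,5,2,1,0,3,2]))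
 (Tr.node (Tr.leaf [1,2,5,6,2,6,5,2,1,0,3,2,1,4,3,2,5,2,3,4,1,2,3,0,1,2,5,6,5,2,1,0,3,2,1,4,3,2,5,2,3,4,1,2,3,0,1,2,5,6,5,2,1,0,3,2,1,4,3,2,5,2,3,4,1,2,3,0,1,2,5,2,5,2,1,0,3,2,1,4,3,2,5,2,3,4,1,2,3,0,1,2,5,6,5,2,1,0,3,2,1,4,3,2,5,2,3,4,1,2,3,0,1,2,5,6,5,2,1,0,3,2,1,4,3,2,5,2,3,4,1,2,3,0])
 (Tr.leaf [3,0,1,2,5,6,5,2,1,0,3,2,1,4,3,2,5,2,3,4,1,2,3,0,1,2,5,6,6,6,5,2,1,0,3,2,1,4,3,2,5,2,3,4,1,2,3,0,1,2,5,6,5,2,1,0,3,2,1,4,3,2,5,2,3,4,1,2,3,0,1,2,5,6,5,2,1,0,3,2,1,4,3,2,5,2,3,4,1,2,3,0,1,2,5,6,5,2,1,0,3,2,1,4,3,2,5,2,3,4,1,2,3,0,1,2,5,6,5,2,1,0,3,2,1,4,3,2,5,2,3,4,1,2])))))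
 (Tr.node (Tr.node (Tr.node (Tr.node (Tr.leaf [2,4,2,4])
 (Tr.leaf [1,0,3,2,1,4,3,2,5,2,3,4,1,2,3,0,1,2,5,6,5,2,1,0,3,2,1,4,3,2,5,2,3,4,1,2,3,0,1,2,5,6,3,6,5,2,1,0,3,2,1,4,3,2,5,2,3,4,1,2,3,0,1,2,5,6,5,2,1,0,3,2,1,4,3,2,5,2,3,4,1,2,3,0,1,2,5,6,5,2,1,0,3,2,1,4,3,2,5,2,3,4,1,2,3,0,1,2,5,3,5,2,1,0,3,2,1,4,3,2,5,2,3,4,1,2,3,0,1,2,5,6,5,2]))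
 (Tr.node (Tr.leaf [1,2,3,0,1,2,5,6,5,2,1,0,3,2,1,4,3,2,5,2,3,4,1,2,3,0,1,2,5,6,1,6,5,2,1,0,3,2,1,4,3,2,5,2,3,4,1,2,3,0,1,2,5,6,5,2,1,0,3,2,1,4,3,2,5,2,3,4,1,2,3,0,1,2,5,6,5,2,1,0,3,2,1,4,3,2,5,2,3,4,1,2,3,0,1,2,5,1,5,2,1,0,3,2,1,4,3,2,5,2,3,4,1,2,3,0,1,2,5,6,5,2,1,0,3,2,1,4,3,2,5,2,3,4])
 (Tr.leaf [3,4,1,2,3,0,1,2,5,6,5,2,1,0,3,2,1,4,3,2,5,2,3,4,1,2,3,0,1,2,5,6,5,2,1,0,3,2,1,4,3,2,5,2,3,4,1,2,3,0,1,2,5,6,5,6,5,2,1,0,3,2,1,4,3,2,5,2,3,4,1,2,3,0,1,2,5,6,5,2,1,0,3,2,1,4,3,2,5,2,3,4,1,2,3,0,1,2,5,6,5,2,1,0,3,2,1,4,3,2,5,2,3,4,1,2,3,0,1,2,5,5,5,2,1,0,3,2,1,4,3,2,5,2])))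
 (Tr.node (Tr.node (Tr.leaf [5,6,5,2,1,0,3,2,1,4,3,2,5,2,3,4,1,2,3,0,1,2,5,6,0,6,5,2,1,0,3,2,1,4,3,2,5,2,3,4,1,2,3,0,1,2,5,6,5,2,1,0,3,2,1,4,3,2,5,2,3,4,1,2,3,0,1,2,5,6,5,2,1,0,3,2,1,4,3,2,5,2,3,4,1,2,3,0,1,2,5,0,5,2,1,0,3,2,1,4,3,2,5,2,3,4,1,2,3,0,1,2,5,6,5,2,1,0,3,2,1,4,3,2,5,2,3,4,1,2,3,0,1,2])
 (Tr.leaf [1,2,5,6,5,2,1,0,3,2,1,4,3,2,5,2,3,4,1,2,3,0,1,2,5,6,5,2,1,0,3,2,1,4,3,2,5,2,3,4,1,2,3,0,1,2,5,6,4,6,5,2,1,0,3,2,1,4,3,2,5,2,3,4,1,2,3,0,1,2,5,6,5,2,1,0,3,2,1,4,3,2,5,2,3,4,1,2,3,0,1,2,5,6,5,2,1,0,3,2,1,4,3,2,5,2,3,4,1,2,3,0,1,2,5,4,5,2,1,0,3,2,1,4,3,2,5,2,3,4,1,2,3,0]))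
 (Tr.node (Tr.leaf [3,2,5,2,3,4,1,2,3,0,1,2,5,6,5,2,1,0,3,2,1,4,3,2,5,2,3,4,1,2,3,0,1,2,5,6,2,6,5,2,1,0,3,2,1,4,3,2,5,2,3,4,1,2,3,0,1,2,5,6,5,2,1,0,3,2,1,4,3,2,5,2,3,4,1,2,3,0,1,2,5,6,5,2,1,0,3,2,1,4,3,2,5,2,3,4,1,2,3,0,1,2,5,2,5,2,1,0,3,2,1,4,3,2,5,2,3,4,1,2,3,0,1,2,5,6,5,2,1,0,3,2,1,4])
 (Tr.leaf [1,4,3,2,5,2,3,4,1,2,3,0,1,2,5,6,5,2,1,0,3,2,1,4,3,2,5,2,3,4,1,2,3,0,1,2,5,6,5,2,1,0,3,2,1,4,3,2,5,2,3,4,1,2,3,0,1,2,5,6,6,6,5,2,1,0,3,2,1,4,3,2,5,2,3,4,1,2,3,0,1,2,5,6,5,2,1,0,3,2,1,4,3,2,5,2,3,4,1,2,3,0,1,2,5,6,5,2,1,0,3,2,1,4,3,2,5,2,3,4,1,2,3,0,1,2,5,6,5,2,1,0,3,2]))))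
 (Tr.node (Tr.node (Tr.node (Tr.leaf [5,2,1,0,3,2,1,4,3,2,5,2,3,4,1,2,3,0,1,2,5,0,5,2,1,0,3,2,1,4,3,2,5,2,3,4,1,2,3,0,1,2,5,6,5,2,1,0,3,2,1,4,3,2,5,2,3,4,1,2,3,0,1,2,5,6,5,2,1,0,3,2,1,4,3,2,5,2,3,4,1,2,3,0,1,2,5,6,0,6,5,2,1,0,3,2,1,4,3,2,5,2,3,4,1,2,3,0,1,2,5,6,5,2,1,0,3,2,1,4,3,2,5,2,3,4,1,2,3,0,1,2,5,6])
 (Tr.leaf [5,6,5,2,1,0,3,2,1,4,3,2,5,2,3,4,1,2,3,0,1,2,5,6,5,2,1,0,3,2,1,4,3,2,5,2,3,4,1,2,3,0,1,2,5,4,5,2,1,0,3,2,1,4,3,2,5,2,3,4,1,2,3,0,1,2,5,6,5,2,1,0,3,2,1,4,3,2,5,2,3,4,1,2,3,0,1,2,5,6,5,2,1,0,3,2,1,4,3,2,5,2,3,4,1,2,3,0,1,2,5,6,4,6,5,2,1,0,3,2,1,4,3,2,5,2,3,4,1,2,3,0,1,2]))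
 (Tr.node (Tr.leaf [5,2,3,4,1,2,3,0,1,2,5,6,5,2,1,0,3,2,1,4,3,2,5,2,3,4,1,2,3,0,1,2,5,2,5,2,1,0,3,2,1,4,3,2,5,2,3,4,1,2,3,0,1,2,5,6,5,2,1,0,3,2,1,4,3,2,5,2,3,4,1,2,3,0,1,2,5,6,5,2,1,0,3,2,1,4,3,2,5,2,3,4,1,2,3,0,1,2,5,6,2,6,5,2,1,0,3,2,1,4,3,2,5,2,3,4,1,2,3,0,1,2,5,6,5,2,1,0,3,2,1,4,3,2])
 (Tr.leaf [3,2,5,2,3,4,1,2,3,0,1,2,5,6,5,2,1,0,3,2,1,4,3,2,5,2,3,4,1,2,3,0,1,2,5,6,5,2,1,0,3,2,1,4,3,2,5,2,3,4,1,2,3,0,1,2,5,6,5,2,1,0,3,2,1,4,3,2,5,2,3,4,1,2,3,0,1,2,5,6,5,2,1,0,3,2,1,4,3,2,5,2,3,4,1,2,3,0,1,2,5,6,5,2,1,0,3,2,1,4,3,2,5,2,3,4,1,2,3,0,1,2,5,6,6,6,5,2,1,0,3,2,1,4])))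
 (Tr.node (Tr.node (Tr.leaf [3,0,1,2,5,6,5,2,1,0,3,2,1,4,3,2,5,2,3,4,1,2,3,0,1,2,5,1,5,2,1,0,3,2,1,4,3,2,5,2,3,4,1,2,3,0,1,2,5,6,5,2,1,0,3,2,1,4,3,2,5,2,3,4,1,2,3,0,1,2,5,6,5,2,1,0,3,2,1,4,3,2,5,2,3,4,1,2,3,0,1,2,5,6,1,6,5,2,1,0,3,2,1,4,3,2,5,2,3,4,1,2,3,0,1,2,5,6,5,2,1,0,3,2,1,4,3,2,5,2,3,4,1,2])
 (Tr.leaf [1,2,3,0,1,2,5,6,5,2,1,0,3,2,1,4,3,2,5,2,3,4,1,2,3,0,1,2,5,6,5,2,1,0,3,2,1,4,3,2,5,2,3,4,1,2,3,0,1,2,5,5,5,2,1,0,3,2,1,4,3,2,5,2,3,4,1,2,3,0,1,2,5,6,5,2,1,0,3,2,1,4,3,2,5,2,3,4,1,2,3,0,1,2,5,6,5,2,1,0,3,2,1,4,3,2,5,2,3,4,1,2,3,0,1,2,5,6,5,6,5,2,1,0,3,2,1,4,3,2,5,2,3,4]))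
 (Tr.node (Tr.leaf [3,2,1,4,3,2,5,2,3,4,1,2,3,0,1,2,5,6,5,2,1,0,3,2,1,4,3,2,5,2,3,4,1,2,3,0,1,2,5,3,5,2,1,0,3,2,1,4,3,2,5,2,3,4,1,2,3,0,1,2,5,6,5,2,1,0,3,2,1,4,3,2,5,2,3,4,1,2,3,0,1,2,5,6,5,2,1,0,3,2,1,4,3,2,5,2,3,4,1,2,3,0,1,2,5,6,3,6,5,2,1,0,3,2,1,4,3,2,5,2,3,4,1,2,3,0,1,2,5,6,5,2,1,0])
 (Tr.leaf [6,6,6,5,2,1,0,3,2,1,4,3,2,5,2,3,4,1,2,3,0,1,2,5,6,5,2,1,0,3,2,1,4,3,2,5,2,3,4,1,2,3,0,1,2,5,6,5,2,1,0,3,2,1,4,3,2,5,2,3,4,1,2,3,0,1,2,5,6,5,2,1,0,3,2,1,4,3,2,5,2,3,4,1,2,3,0,1,2,5,6,5,2,1,0,3,2,1,4,3,2,5,2,3,4,1,2,3,0,1,2,5,6,5,2,1,0,3,2,1,4,3,2,5,2,3,4,1,2,3,0,1,2,5]))))))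
 (Tr.node (Tr.node (Tr.node (Tr.node (Tr.node (Tr.leaf [0,5,0,5])
 (Tr.leaf [3,2,5,2,3,4,1,2,3,0,1,2,5,6,5,2,1,0,3,2,1,4,3,2,5,2,3,4,1,2,3,0,1,2,5,6,5,2,1,0,3,2,1,4,3,2,5,2,3,4,1,2,3,0,1,2,5,6,3,6,5,2,1,0,3,2,1,4,3,2,5,2,3,4,1,2,3,0,1,2,5,6,5,2,1,0,3,2,1,4,3,2,5,2,3,4,1,2,3,0,1,2,5,6,5,2,1,0,3,2,1,4,3,2,5,2,3,4,1,2,3,0,1,2,5,3,5,2,1,0,3,2,1,4]))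
 (Tr.node (Tr.leaf [5,6,5,2,1,0,3,2,1,4,3,2,5,2,3,4,1,2,3,0,1,2,5,6,5,2,1,0,3,2,1,4,3,2,5,2,3,4,1,2,3,0,1,2,5,6,1,6,5,2,1,0,3,2,1,4,3,2,5,2,3,4,1,2,3,0,1,2,5,6,5,2,1,0,3,2,1,4,3,2,5,2,3,4,1,2,3,0,1,2,5,6,5,2,1,0,3,2,1,4,3,2,5,2,3,4,1,2,3,0,1,2,5,1,5,2,1,0,3,2,1,4,3,2,5,2,3,4,1,2,3,0,1,2])
 (Tr.leaf [1,2,5,5,5,2,1,0,3,2,1,4,3,2,5,2,3,4,1,2,3,0,1,2,5,6,5,2,1,0,3,2,1,4,3,2,5,2,3,4,1,2,3,0,1,2,5,6,5,2,1,0,3,2,1,4,3,2,5,2,3,4,1,2,3,0,1,2,5,6,5,6,5,2,1,0,3,2,1,4,3,2,5,2,3,4,1,2,3,0,1,2,5,6,5,2,1,0,3,2,1,4,3,2,5,2,3,4,1,2,3,0,1,2,5,6,5,2,1,0,3,2,1,4,3,2,5,2,3,4,1,2,3,0])))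
 (Tr.node (Tr.node (Tr.leaf [3,2,1,4,3,2,5,2,3,4,1,2,3,0,1,2,5,6,5,2,1,0,3,2,1,4,3,2,5,2,3,4,1,2,3,0,1,2,5,6,0,6,5,2,1,0,3,2,1,4,3,2,5,2,3,4,1,2,3,0,1,2,5,6,5,2,1,0,3,2,1,4,3,2,5,2,3,4,1,2,3,0,1,2,5,6,5,2,1,0,3,2,1,4,3,2,5,2,3,4,1,2,3,0,1,2,5,0,5,2,1,0,3,2,1,4,3,2,5,2,3,4,1,2,3,0,1,2,5,6,5,2,1,0])
 (Tr.leaf [1,0,3,2,1,4,3,2,5,2,3,4,1,2,3,0,1,2,5,6,5,2,1,0,3,2,1,4,3,2,5,2,3,4,1,2,3,0,1,2,5,6,5,2,1,0,3,2,1,4,3,2,5,2,3,4,1,2,3,0,1,2,5,6,4,6,5,2,1,0,3,2,1,4,3,2,5,2,3,4,1,2,3,0,1,2,5,6,5,2,1,0,3,2,1,4,3,2,5,2,3,4,1,2,3,0,1,2,5,6,5,2,1,0,3,2,1,4,3,2,5,2,3,4,1,2,3,0,1,2,5,4,5,2]))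
 (Tr.node (Tr.leaf [1,2,3,0,1,2,5,6,5,2,1,0,3,2,1,4,3,2,5,2,3,4,1,2,3,0,1,2,5,6,5,2,1,0,3,2,1,4,3,2,5,2,3,4,1,2,3,0,1,2,5,6,2,6,5,2,1,0,3,2,1,4,3,2,5,2,3,4,1,2,3,0,1,2,5,6,5,2,1,0,3,2,1,4,3,2,5,2,3,4,1,2,3,0,1,2,5,6,5,2,1,0,3,2,1,4,3,2,5,2,3,4,1,2,3,0,1,2,5,2,5,2,1,0,3,2,1,4,3,2,5,2,3,4])
 (Tr.leaf [3,4,1,2,3,0,1,2,5,6,5,2,1,0,3,2,1,4,3,2,5,2,3,4,1,2,3,0,1,2,5,6,5,2,1,0,3,2,1,4,3,2,5,2,3,4,1,2,3,0,1,2,5,6,5,2,1,0,3,2,1,4,3,2,5,2,3,4,1,2,3,0,1,2,5,6,6,6,5,2,1,0,3,2,1,4,3,2,5,2,3,4,1,2,3,0,1,2,5,6,5,2,1,0,3,2,1,4,3,2,5,2,3,4,1,2,3,0,1,2,5,6,5,2,1,0,3,2,1,4,3,2,5,2]))))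
 (Tr.node (Tr.node (Tr.node (Tr.leaf [1,4,3,2,5,2,3,4,1,2,3,0,1,2,5,6,5,2,1,0,3,2,1,4,3,2,5,2,3,4,1,2,3,0,1,2,5,0,5,2,1,0,3,2,1,4,3,2,5,2,3,4,1,2,3,0,1,2,5,6,5,2,1,0,3,2,1,4,3,2,5,2,3,4,1,2,3,0,1,2,5,6,5,2,1,0,3,2,1,4,3,2,5,2,3,4,1,2,3,0,1,2,5,6,0,6,5,2,1,0,3,2,1,4,3,2,5,2,3,4,1,2,3,0,1,2,5,6,5,2,1,0,3,2])
 (Tr.leaf [3,2,1,4,3,2,5,2,3,4,1,2,3,0,1,2,5,6,5,2,1,0,3,2,1,4,3,2,5,2,3,4,1,2,3,0,1,2,5,6,5,2,1,0,3,2,1,4,3,2,5,2,3,4,1,2,3,0,1,2,5,4,5,2,1,0,3,2,1,4,3,2,5,2,3,4,1,2,3,0,1,2,5,6,5,2,1,0,3,2,1,4,3,2,5,2,3,4,1,2,3,0,1,2,5,6,5,2,1,0,3,2,1,4,3,2,5,2,3,4,1,2,3,0,1,2,5,6,4,6,5,2,1,0]))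
 (Tr.node (Tr.leaf [3,0,1,2,5,6,5,2,1,0,3,2,1,4,3,2,5,2,3,4,1,2,3,0,1,2,5,6,5,2,1,0,3,2,1,4,3,2,5,2,3,4,1,2,3,0,1,2,5,2,5,2,1,0,3,2,1,4,3,2,5,2,3,4,1,2,3,0,1,2,5,6,5,2,1,0,3,2,1,4,3,2,5,2,3,4,1,2,3,0,1,2,5,6,5,2,1,0,3,2,1,4,3,2,5,2,3,4,1,2,3,0,1,2,5,6,2,6,5,2,1,0,3,2,1,4,3,2,5,2,3,4,1,2])
 (Tr.leaf [3,0,1,2,5,6,5,6,5,2,1,0,3,2,1,4,3,2,5,2,3,4,1,2,3,0,1,2,5,6,5,2,1,0,3,2,1,4,3,2,5,2,3,4,1,2,3,0,1,2,5,6,5,2,1,0,3,2,1,4,3,2,5,2,3,4,1,2,3,0,1,2,5,5,5,2,1,0,3,2,1,4,3,2,5,2,3,4,1,2,3,0,1,2,5,6,5,2,1,0,3,2,1,4,3,2,5,2,3,4,1,2,3,0,1,2,5,6,5,2,1,0,3,2,1,4,3,2,5,2,3,4,1,2])))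
 (Tr.node (Tr.node (Tr.leaf [5,2,1,0,3,2,1,4,3,2,5,2,3,4,1,2,3,0,1,2,5,6,5,2,1,0,3,2,1,4,3,2,5,2,3,4,1,2,3,0,1,2,5,1,5,2,1,0,3,2,1,4,3,2,5,2,3,4,1,2,3,0,1,2,5,6,5,2,1,0,3,2,1,4,3,2,5,2,3,4,1,2,3,0,1,2,5,6,5,2,1,0,3,2,1,4,3,2,5,2,3,4,1,2,3,0,1,2,5,6,1,6,5,2,1,0,3,2,1,4,3,2,5,2,3,4,1,2,3,0,1,2,5,6])
 (Tr.leaf [6,5,2,1,0,3,2,1,4,3,2,5,2,3,4,1,2,3,0,1,2,5,6,5,2,1,0,3,2,1,4,3,2,5,2,3,4,1,2,3,0,1,2,5,6,5,2,1,0,3,2,1,4,3,2,5,2,3,4,1,2,3,0,1,2,5,5,5,2,1,0,3,2,1,4,3,2,5,2,3,4,1,2,3,0,1,2,5,6,5,2,1,0,3,2,1,4,3,2,5,2,3,4,1,2,3,0,1,2,5,6,5,2,1,0,3,2,1,4,3,2,5,2,3,4,1,2,3,0,1,2,5,6,5]))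
 (Tr.node (Tr.leaf [5,2,3,4,1,2,3,0,1,2,5,6,5,2,1,0,3,2,1,4,3,2,5,2,3,4,1,2,3,0,1,2,5,6,5,2,1,0,3,2,1,4,3,2,5,2,3,4,1,2,3,0,1,2,5,3,5,2,1,0,3,2,1,4,3,2,5,2,3,4,1,2,3,0,1,2,5,6,5,2,1,0,3,2,1,4,3,2,5,2,3,4,1,2,3,0,1,2,5,6,5,2,1,0,3,2,1,4,3,2,5,2,3,4,1,2,3,0,1,2,5,6,3,6,5,2,1,0,3,2,1,4,3,2])
 (Tr.leaf [5,2,3,4,1,2,3,0,1,2,5,6,6,6,5,2,1,0,3,2,1,4,3,2,5,2,3,4,1,2,3,0,1,2,5,6,5,2,1,0,3,2,1,4,3,2,5,2,3,4,1,2,3,0,1,2,5,6,5,2,1,0,3,2,1,4,3,2,5,2,3,4,1,2,3,0,1,2,5,6,5,2,1,0,3,2,1,4,3,2,5,2,3,4,1,2,3,0,1,2,5,6,5,2,1,0,3,2,1,4,3,2,5,2,3,4,1,2,3,0,1,2,5,6,5,2,1,0,3,2,1,4,3,2])))))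
 (Tr.node (Tr.node (Tr.node (Tr.node (Tr.leaf [5,6,5,6,5,6])
 (Tr.leaf [1,2,5,6,5,2,1,0,3,2,1,4,3,2,5,2,3,4,1,2,3,0,1,2,5,6,3,6,5,2,1,0,3,2,1,4,3,2,5,2,3,4,1,2,3,0,1,2,5,6,5,2,1,0,3,2,1,4,3,2,5,2,3,4,1,2,3,0,1,2,5,6,5,2,1,0,3,2,1,4,3,2,5,2,3,4,1,2,3,0,1,2,5,3,5,2,1,0,3,2,1,4,3,2,5,2,3,4,1,2,3,0,1,2,5,6,5,2,1,0,3,2,1,4,3,2,5,2,3,4,1,2,3,0]))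
 (Tr.node (Tr.leaf [3,2,5,2,3,4,1,2,3,0,1,2,5,6,1,6,5,2,1,0,3,2,1,4,3,2,5,2,3,4,1,2,3,0,1,2,5,6,5,2,1,0,3,2,1,4,3,2,5,2,3,4,1,2,3,0,1,2,5,6,5,2,1,0,3,2,1,4,3,2,5,2,3,4,1,2,3,0,1,2,5,1,5,2,1,0,3,2,1,4,3,2,5,2,3,4,1,2,3,0,1,2,5,6,5,2,1,0,3,2,1,4,3,2,5,2,3,4,1,2,3,0,1,2,5,6,5,2,1,0,3,2,1,4])
 (Tr.leaf [1,4,3,2,5,2,3,4,1,2,3,0,1,2,5,6,5,2,1,0,3,2,1,4,3,2,5,2,3,4,1,2,3,0,1,2,5,6,5,6,5,2,1,0,3,2,1,4,3,2,5,2,3,4,1,2,3,0,1,2,5,6,5,2,1,0,3,2,1,4,3,2,5,2,3,4,1,2,3,0,1,2,5,6,5,2,1,0,3,2,1,4,3,2,5,2,3,4,1,2,3,0,1,2,5,5,5,2,1,0,3,2,1,4,3,2,5,2,3,4,1,2,3,0,1,2,5,6,5,2,1,0,3,2])))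
 (Tr.node (Tr.node (Tr.leaf [1,2,3,0,1,2,5,6,0,6,5,2,1,0,3,2,1,4,3,2,5,2,3,4,1,2,3,0,1,2,5,6,5,2,1,0,3,2,1,4,3,2,5,2,3,4,1,2,3,0,1,2,5,6,5,2,1,0,3,2,1,4,3,2,5,2,3,4,1,2,3,0,1,2,5,0,5,2,1,0,3,2,1,4,3,2,5,2,3,4,1,2,3,0,1,2,5,6,5,2,1,0,3,2,1,4,3,2,5,2,3,4,1,2,3,0,1,2,5,6,5,2,1,0,3,2,1,4,3,2,5,2,3,4])
 (Tr.leaf [3,4,1,2,3,0,1,2,5,6,5,2,1,0,3,2,1,4,3,2,5,2,3,4,1,2,3,0,1,2,5,6,4,6,5,2,1,0,3,2,1,4,3,2,5,2,3,4,1,2,3,0,1,2,5,6,5,2,1,0,3,2,1,4,3,2,5,2,3,4,1,2,3,0,1,2,5,6,5,2,1,0,3,2,1,4,3,2,5,2,3,4,1,2,3,0,1,2,5,4,5,2,1,0,3,2,1,4,3,2,5,2,3,4,1,2,3,0,1,2,5,6,5,2,1,0,3,2,1,4,3,2,5,2]))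
 (Tr.node (Tr.leaf [1,0,3,2,1,4,3,2,5,2,3,4,1,2,3,0,1,2,5,6,2,6,5,2,1,0,3,2,1,4,3,2,5,2,3,4,1,2,3,0,1,2,5,6,5,2,1,0,3,2,1,4,3,2,5,2,3,4,1,2,3,0,1,2,5,6,5,2,1,0,3,2,1,4,3,2,5,2,3,4,1,2,3,0,1,2,5,2,5,2,1,0,3,2,1,4,3,2,5,2,3,4,1,2,3,0,1,2,5,6,5,2,1,0,3,2,1,4,3,2,5,2,3,4,1,2,3,0,1,2,5,6,5,2])
 (Tr.leaf [5,2,1,0,3,2,1,4,3,2,5,2,3,4,1,2,3,0,1,2,5,6,5,2,1,0,3,2,1,4,3,2,5,2,3,4,1,2,3,0,1,2,5,6,6,6,5,2,1,0,3,2,1,4,3,2,5,2,3,4,1,2,3,0,1,2,5,6,5,2,1,0,3,2,1,4,3,2,5,2,3,4,1,2,3,0,1,2,5,6,5,2,1,0,3,2,1,4,3,2,5,2,3,4,1,2,3,0,1,2,5,6,5,2,1,0,3,2,1,4,3,2,5,2,3,4,1,2,3,0,1,2,5,6]))))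
 (Tr.node (Tr.node (Tr.node (Tr.leaf [3,0,1,2,5,0,5,2,1,0,3,2,1,4,3,2,5,2,3,4,1,2,3,0,1,2,5,6,5,2,1,0,3,2,1,4,3,2,5,2,3,4,1,2,3,0,1,2,5,6,5,2,1,0,3,2,1,4,3,2,5,2,3,4,1,2,3,0,1,2,5,6,0,6,5,2,1,0,3,2,1,4,3,2,5,2,3,4,1,2,3,0,1,2,5,6,5,2,1,0,3,2,1,4,3,2,5,2,3,4,1,2,3,0,1,2,5,6,5,2,1,0,3,2,1,4,3,2,5,2,3,4,1,2])
 (Tr.leaf [1,2,3,0,1,2,5,6,5,2,1,0,3,2,1,4,3,2,5,2,3,4,1,2,3,0,1,2,5,4,5,2,1,0,3,2,1,4,3,2,5,2,3,4,1,2,3,0,1,2,5,6,5,2,1,0,3,2,1,4,3,2,5,2,3,4,1,2,3,0,1,2,5,6,5,2,1,0,3,2,1,4,3,2,5,2,3,4,1,2,3,0,1,2,5,6,4,6,5,2,1,0,3,2,1,4,3,2,5,2,3,4,1,2,3,0,1,2,5,6,5,2,1,0,3,2,1,4,3,2,5,2,3,4]))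
 (Tr.node (Tr.leaf [3,2,1,4,3,2,5,2,3,4,1,2,3,0,1,2,5,2,5,2,1,0,3,2,1,4,3,2,5,2,3,4,1,2,3,0,1,2,5,6,5,2,1,0,3,2,1,4,3,2,5,2,3,4,1,2,3,0,1,2,5,6,5,2,1,0,3,2,1,4,3,2,5,2,3,4,1,2,3,0,1,2,5,6,2,6,5,2,1,0,3,2,1,4,3,2,5,2,3,4,1,2,3,0,1,2,5,6,5,2,1,0,3,2,1,4,3,2,5,2,3,4,1,2,3,0,1,2,5,6,5,2,1,0])
 (Tr.leaf [1,0,3,2,1,4,3,2,5,2,3,4,1,2,3,0,1,2,5,6,5,2,1,0,3,2,1,4,3,2,5,2,3,4,1,2,3,0,1,2,5,6,5,2,1,0,3,2,1,4,3,2,5,2,3,4,1,2,3,0,1,2,5,6,5,2,1,0,3,2,1,4,3,2,5,2,3,4,1,2,3,0,1,2,5,6,5,2,1,0,3,2,1,4,3,2,5,2,3,4,1,2,3,0,1,2,5,6,6,6,5,2,1,0,3,2,1,4,3,2,5,2,3,4,1,2,3,0,1,2,5,6,5,2])))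
 (Tr.node (Tr.node (Tr.leaf [5,2,3,4,1,2,3,0,1,2,5,1,5,2,1,0,3,2,1,4,3,2,5,2,3,4,1,2,3,0,1,2,5,6,5,2,1,0,3,2,1,4,3,2,5,2,3,4,1,2,3,0,1,2,5,6,5,2,1,0,3,2,1,4,3,2,5,2,3,4,1,2,3,0,1,2,5,6,1,6,5,2,1,0,3,2,1,4,3,2,5,2,3,4,1,2,3,0,1,2,5,6,5,2,1,0,3,2,1,4,3,2,5,2,3,4,1,2,3,0,1,2,5,6,5,2,1,0,3,2,1,4,3,2])
 (Tr.leaf [3,2,5,2,3,4,1,2,3,0,1,2,5,6,5,2,1,0,3,2,1,4,3,2,5,2,3,4,1,2,3,0,1,2,5,5,5,2,1,0,3,2,1,4,3,2,5,2,3,4,1,2,3,0,1,2,5,6,5,2,1,0,3,2,1,4,3,2,5,2,3,4,1,2,3,0,1,2,5,6,5,2,1,0,3,2,1,4,3,2,5,2,3,4,1,2,3,0,1,2,5,6,5,6,5,2,1,0,3,2,1,4,3,2,5,2,3,4,1,2,3,0,1,2,5,6,5,2,1,0,3,2,1,4]))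
 (Tr.node (Tr.leaf [5,6,5,2,1,0,3,2,1,4,3,2,5,2,3,4,1,2,3,0,1,2,5,3,5,2,1,0,3,2,1,4,3,2,5,2,3,4,1,2,3,0,1,2,5,6,5,2,1,0,3,2,1,4,3,2,5,2,3,4,1,2,3,0,1,2,5,6,5,2,1,0,3,2,1,4,3,2,5,2,3,4,1,2,3,0,1,2,5,6,3,6,5,2,1,0,3,2,1,4,3,2,5,2,3,4,1,2,3,0,1,2,5,6,5,2,1,0,3,2,1,4,3,2,5,2,3,4,1,2,3,0,1,2])
 (Tr.leaf [6,6,6,5,2,1,0,3,2,1,4,3,2,5,2,3,4,1,2,3,0,1,2,5,6,5,2,1,0,3,2,1,4,3,2,5,2,3,4,1,2,3,0,1,2,5,6,5,2,1,0,3,2,1,4,3,2,5,2,3,4,1,2,3,0,1,2,5,6,5,2,1,0,3,2,1,4,3,2,5,2,3,4,1,2,3,0,1,2,5,6,5,2,1,0,3,2,1,4,3,2,5,2,3,4,1,2,3,0,1,2,5,6,5,2,1,0,3,2,1,4,3,2,5,2,3,4,1,2,3,0,1,2,5])))))))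
 (Tr.node (Tr.node (Tr.node (Tr.node (Tr.node (Tr.node (Tr.leaf [0,1,0,1,0,1])
 (Tr.leaf [5,2,1,0,3,2,1,4,3,2,5,2,3,4,1,2,3,0,1,2,5,6,5,2,1,0,3,2,1,4,3,2,5,2,3,4,1,2,3,0,1,2,5,6,5,2,1,0,3,2,1,4,3,2,5,2,3,4,1,2,3,0,1,2,5,6,3,6,5,2,1,0,3,2,1,4,3,2,5,2,3,4,1,2,3,0,1,2,5,6,5,2,1,0,3,2,1,4,3,2,5,2,3,4,1,2,3,0,1,2,5,6,5,2,1,0,3,2,1,4,3,2,5,2,3,4,1,2,3,0,1,2,5,3]))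
 (Tr.node (Tr.leaf [3,4,1,2,3,0,1,2,5,6,5,2,1,0,3,2,1,4,3,2,5,2,3,4,1,2,3,0,1,2,5,6,5,2,1,0,3,2,1,4,3,2,5,2,3,4,1,2,3,0,1,2,5,6,1,6,5,2,1,0,3,2,1,4,3,2,5,2,3,4,1,2,3,0,1,2,5,6,5,2,1,0,3,2,1,4,3,2,5,2,3,4,1,2,3,0,1,2,5,6,5,2,1,0,3,2,1,4,3,2,5,2,3,4,1,2,3,0,1,2,5,1,5,2,1,0,3,2,1,4,3,2,5,2])
 (Tr.leaf [5,2,3,4,1,2,3,0,1,2,5,5,5,2,1,0,3,2,1,4,3,2,5,2,3,4,1,2,3,0,1,2,5,6,5,2,1,0,3,2,1,4,3,2,5,2,3,4,1,2,3,0,1,2,5,6,5,2,1,0,3,2,1,4,3,2,5,2,3,4,1,2,3,0,1,2,5,6,5,6,5,2,1,0,3,2,1,4,3,2,5,2,3,4,1,2,3,0,1,2,5,6,5,2,1,0,3,2,1,4,3,2,5,2,3,4,1,2,3,0,1,2,5,6,5,2,1,0,3,2,1,4,3,2])))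
 (Tr.node (Tr.node (Tr.leaf [1,2,5,6,5,2,1,0,3,2,1,4,3,2,5,2,3,4,1,2,3,0,1,2,5,6,5,2,1,0,3,2,1,4,3,2,5,2,3,4,1,2,3,0,1,2,5,6,0,6,5,2,1,0,3,2,1,4,3,2,5,2,3,4,1,2,3,0,1,2,5,6,5,2,1,0,3,2,1,4,3,2,5,2,3,4,1,2,3,0,1,2,5,6,5,2,1,0,3,2,1,4,3,2,5,2,3,4,1,2,3,0,1,2,5,0,5,2,1,0,3,2,1,4,3,2,5,2,3,4,1,2,3,0])
 (Tr.leaf [3,0,1,2,5,4,5,2,1,0,3,2,1,4,3,2,5,2,3,4,1,2,3,0,1,2,5,6,5,2,1,0,3,2,1,4,3,2,5,2,3,4,1,2,3,0,1,2,5,6,5,2,1,0,3,2,1,4,3,2,5,2,3,4,1,2,3,0,1,2,5,6,4,6,5,2,1,0,3,2,1,4,3,2,5,2,3,4,1,2,3,0,1,2,5,6,5,2,1,0,3,2,1,4,3,2,5,2,3,4,1,2,3,0,1,2,5,6,5,2,1,0,3,2,1,4,3,2,5,2,3,4,1,2]))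
 (Tr.node (Tr.leaf [1,4,3,2,5,2,3,4,1,2,3,0,1,2,5,6,5,2,1,0,3,2,1,4,3,2,5,2,3,4,1,2,3,0,1,2,5,6,5,2,1,0,3,2,1,4,3,2,5,2,3,4,1,2,3,0,1,2,5,6,2,6,5,2,1,0,3,2,1,4,3,2,5,2,3,4,1,2,3,0,1,2,5,6,5,2,1,0,3,2,1,4,3,2,5,2,3,4,1,2,3,0,1,2,5,6,5,2,1,0,3,2,1,4,3,2,5,2,3,4,1,2,3,0,1,2,5,2,5,2,1,0,3,2])
 (Tr.leaf [3,2,1,4,3,2,5,2,3,4,1,2,3,0,1,2,5,6,5,2,1,0,3,2,1,4,3,2,5,2,3,4,1,2,3,0,1,2,5,6,5,2,1,0,3,2,1,4,3,2,5,2,3,4,1,2,3,0,1,2,5,6,5,2,1,0,3,2,1,4,3,2,5,2,3,4,1,2,3,0,1,2,5,6,6,6,5,2,1,0,3,2,1,4,3,2,5,2,3,4,1,2,3,0,1,2,5,6,5,2,1,0,3,2,1,4,3,2,5,2,3,4,1,2,3,0,1,2,5,6,5,2,1,0]))))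
 (Tr.node (Tr.node (Tr.node (Tr.leaf [5,6,5,2,1,0,3,2,1,4,3,2,5,2,3,4,1,2,3,0,1,2,5,6,5,2,1,0,3,2,1,4,3,2,5,2,3,4,1,2,3,0,1,2,5,0,5,2,1,0,3,2,1,4,3,2,5,2,3,4,1,2,3,0,1,2,5,6,5,2,1,0,3,2,1,4,3,2,5,2,3,4,1,2,3,0,1,2,5,6,5,2,1,0,3,2,1,4,3,2,5,2,3,4,1,2,3,0,1,2,5,6,0,6,5,2,1,0,3,2,1,4,3,2,5,2,3,4,1,2,3,0,1,2])
 (Tr.leaf [5,6,3,6,5,2,1,0,3,2,1,4,3,2,5,2,3,4,1,2,3,0,1,2,5,6,5,2,1,0,3,2,1,4,3,2,5,2,3,4,1,2,3,0,1,2,5,6,5,2,1,0,3,2,1,4,3,2,5,2,3,4,1,2,3,0,1,2,5,3,5,2,1,0,3,2,1,4,3,2,5,2,3,4,1,2,3,0,1,2,5,6,5,2,1,0,3,2,1,4,3,2,5,2,3,4,1,2,3,0,1,2,5,6,5,2,1,0,3,2,1,4,3,2,5,2,3,4,1,2,3,0,1,2]))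
 (Tr.node (Tr.leaf [3,2,5,2,3,4,1,2,3,0,1,2,5,6,5,2,1,0,3,2,1,4,3,2,5,2,3,4,1,2,3,0,1,2,5,6,5,2,1,0,3,2,1,4,3,2,5,2,3,4,1,2,3,0,1,2,5,2,5,2,1,0,3,2,1,4,3,2,5,2,3,4,1,2,3,0,1,2,5,6,5,2,1,0,3,2,1,4,3,2,5,2,3,4,1,2,3,0,1,2,5,6,5,2,1,0,3,2,1,4,3,2,5,2,3,4,1,2,3,0,1,2,5,6,2,6,5,2,1,0,3,2,1,4])
 (Tr.leaf [3,2,5,2,3,4,1,2,3,0,1,2,5,6,5,6,5,2,1,0,3,2,1,4,3,2,5,2,3,4,1,2,3,0,1,2,5,6,5,2,1,0,3,2,1,4,3,2,5,2,3,4,1,2,3,0,1,2,5,6,5,2,1,0,3,2,1,4,3,2,5,2,3,4,1,2,3,0,1,2,5,5,5,2,1,0,3,2,1,4,3,2,5,2,3,4,1,2,3,0,1,2,5,6,5,2,1,0,3,2,1,4,3,2,5,2,3,4,1,2,3,0,1,2,5,6,5,2,1,0,3,2,1,4])))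
 (Tr.node (Tr.node (Tr.leaf [1,2,3,0,1,2,5,6,5,2,1,0,3,2,1,4,3,2,5,2,3,4,1,2,3,0,1,2,5,6,5,2,1,0,3,2,1,4,3,2,5,2,3,4,1,2,3,0,1,2,5,1,5,2,1,0,3,2,1,4,3,2,5,2,3,4,1,2,3,0,1,2,5,6,5,2,1,0,3,2,1,4,3,2,5,2,3,4,1,2,3,0,1,2,5,6,5,2,1,0,3,2,1,4,3,2,5,2,3,4,1,2,3,0,1,2,5,6,1,6,5,2,1,0,3,2,1,4,3,2,5,2,3,4])
 (Tr.leaf [1,2,3,0,1,2,5,6,4,6,5,2,1,0,3,2,1,4,3,2,5,2,3,4,1,2,3,0,1,2,5,6,5,2,1,0,3,2,1,4,3,2,5,2,3,4,1,2,3,0,1,2,5,6,5,2,1,0,3,2,1,4,3,2,5,2,3,4,1,2,3,0,1,2,5,4,5,2,1,0,3,2,1,4,3,2,5,2,3,4,1,2,3,0,1,2,5,6,5,2,1,0,3,2,1,4,3,2,5,2,3,4,1,2,3,0,1,2,5,6,5,2,1,0,3,2,1,4,3,2,5,2,3,4]))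
 (Tr.node (Tr.leaf [1,0,3,2,1,4,3,2,5,2,3,4,1,2,3,0,1,2,5,6,5,2,1,0,3,2,1,4,3,2,5,2,3,4,1,2,3,0,1,2,5,6,5,2,1,0,3,2,1,4,3,2,5,2,3,4,1,2,3,0,1,2,5,3,5,2,1,0,3,2,1,4,3,2,5,2,3,4,1,2,3,0,1,2,5,6,5,2,1,0,3,2,1,4,3,2,5,2,3,4,1,2,3,0,1,2,5,6,5,2,1,0,3,2,1,4,3,2,5,2,3,4,1,2,3,0,1,2,5,6,3,6,5,2])
 (Tr.leaf [1,0,3,2,1,4,3,2,5,2,3,4,1,2,3,0,1,2,5,6,6,6,5,2,1,0,3,2,1,4,3,2,5,2,3,4,1,2,3,0,1,2,5,6,5,2,1,0,3,2,1,4,3,2,5,2,3,4,1,2,3,0,1,2,5,6,5,2,1,0,3,2,1,4,3,2,5,2,3,4,1,2,3,0,1,2,5,6,5,2,1,0,3,2,1,4,3,2,5,2,3,4,1,2,3,0,1,2,5,6,5,2,1,0,3,2,1,4,3,2,5,2,3,4,1,2,3,0,1,2,5,6,5,2])))))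
 (Tr.node (Tr.node (Tr.node (Tr.node (Tr.leaf [3,5,3,5])
 (Tr.leaf [5,2,3,4,1,2,3,0,1,2,5,6,5,2,1,0,3,2,1,4,3,2,5,2,3,4,1,2,3,0,1,2,5,6,3,6,5,2,1,0,3,2,1,4,3,2,5,2,3,4,1,2,3,0,1,2,5,6,5,2,1,0,3,2,1,4,3,2,5,2,3,4,1,2,3,0,1,2,5,6,5,2,1,0,3,2,1,4,3,2,5,2,3,4,1,2,3,0,1,2,5,3,5,2,1,0,3,2,1,4,3,2,5,2,3,4,1,2,3,0,1,2,5,6,5,2,1,0,3,2,1,4,3,2]))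
 (Tr.node (Tr.leaf [5,2,1,0,3,2,1,4,3,2,5,2,3,4,1,2,3,0,1,2,5,6,1,6,5,2,1,0,3,2,1,4,3,2,5,2,3,4,1,2,3,0,1,2,5,6,5,2,1,0,3,2,1,4,3,2,5,2,3,4,1,2,3,0,1,2,5,6,5,2,1,0,3,2,1,4,3,2,5,2,3,4,1,2,3,0,1,2,5,1,5,2,1,0,3,2,1,4,3,2,5,2,3,4,1,2,3,0,1,2,5,6,5,2,1,0,3,2,1,4,3,2,5,2,3,4,1,2,3,0,1,2,5,6])
 (Tr.leaf [5,6,5,2,1,0,3,2,1,4,3,2,5,2,3,4,1,2,3,0,1,2,5,6,5,2,1,0,3,2,1,4,3,2,5,2,3,4,1,2,3,0,1,2,5,6,5,6,5,2,1,0,3,2,1,4,3,2,5,2,3,4,1,2,3,0,1,2,5,6,5,2,1,0,3,2,1,4,3,2,5,2,3,4,1,2,3,0,1,2,5,6,5,2,1,0,3,2,1,4,3,2,5,2,3,4,1,2,3,0,1,2,5,5,5,2,1,0,3,2,1,4,3,2,5,2,3,4,1,2,3,0,1,2])))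
 (Tr.node (Tr.node (Tr.leaf [1,4,3,2,5,2,3,4,1,2,3,0,1,2,5,6,0,6,5,2,1,0,3,2,1,4,3,2,5,2,3,4,1,2,3,0,1,2,5,6,5,2,1,0,3,2,1,4,3,2,5,2,3,4,1,2,3,0,1,2,5,6,5,2,1,0,3,2,1,4,3,2,5,2,3,4,1,2,3,0,1,2,5,0,5,2,1,0,3,2,1,4,3,2,5,2,3,4,1,2,3,0,1,2,5,6,5,2,1,0,3,2,1,4,3,2,5,2,3,4,1,2,3,0,1,2,5,6,5,2,1,0,3,2])
 (Tr.leaf [3,2,1,4,3,2,5,2,3,4,1,2,3,0,1,2,5,6,5,2,1,0,3,2,1,4,3,2,5,2,3,4,1,2,3,0,1,2,5,6,4,6,5,2,1,0,3,2,1,4,3,2,5,2,3,4,1,2,3,0,1,2,5,6,5,2,1,0,3,2,1,4,3,2,5,2,3,4,1,2,3,0,1,2,5,6,5,2,1,0,3,2,1,4,3,2,5,2,3,4,1,2,3,0,1,2,5,4,5,2,1,0,3,2,1,4,3,2,5,2,3,4,1,2,3,0,1,2,5,6,5,2,1,0]))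
 (Tr.node (Tr.leaf [3,0,1,2,5,6,5,2,1,0,3,2,1,4,3,2,5,2,3,4,1,2,3,0,1,2,5,6,2,6,5,2,1,0,3,2,1,4,3,2,5,2,3,4,1,2,3,0,1,2,5,6,5,2,1,0,3,2,1,4,3,2,5,2,3,4,1,2,3,0,1,2,5,6,5,2,1,0,3,2,1,4,3,2,5,2,3,4,1,2,3,0,1,2,5,2,5,2,1,0,3,2,1,4,3,2,5,2,3,4,1,2,3,0,1,2,5,6,5,2,1,0,3,2,1,4,3,2,5,2,3,4,1,2])
 (Tr.leaf [1,2,3,0,1,2,5,6,5,2,1,0,3,2,1,4,3,2,5,2,3,4,1,2,3,0,1,2,5,6,5,2,1,0,3,2,1,4,3,2,5,2,3,4,1,2,3,0,1,2,5,6,6,6,5,2,1,0,3,2,1,4,3,2,5,2,3,4,1,2,3,0,1,2,5,6,5,2,1,0,3,2,1,4,3,2,5,2,3,4,1,2,3,0,1,2,5,6,5,2,1,0,3,2,1,4,3,2,5,2,3,4,1,2,3,0,1,2,5,6,5,2,1,0,3,2,1,4,3,2,5,2,3,4]))))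
 (Tr.node (Tr.node (Tr.node (Tr.leaf [3,2,5,2,3,4,1,2,3,0,1,2,5,0,5,2,1,0,3,2,1,4,3,2,5,2,3,4,1,2,3,0,1,2,5,6,5,2,1,0,3,2,1,4,3,2,5,2,3,4,1,2,3,0,1,2,5,6,5,2,1,0,3,2,1,4,3,2,5,2,3,4,1,2,3,0,1,2,5,6,0,6,5,2,1,0,3,2,1,4,3,2,5,2,3,4,1,2,3,0,1,2,5,6,5,2,1,0,3,2,1,4,3,2,5,2,3,4,1,2,3,0,1,2,5,6,5,2,1,0,3,2,1,4])
 (Tr.leaf [1,4,3,2,5,2,3,4,1,2,3,0,1,2,5,6,5,2,1,0,3,2,1,4,3,2,5,2,3,4,1,2,3,0,1,2,5,4,5,2,1,0,3,2,1,4,3,2,5,2,3,4,1,2,3,0,1,2,5,6,5,2,1,0,3,2,1,4,3,2,5,2,3,4,1,2,3,0,1,2,5,6,5,2,1,0,3,2,1,4,3,2,5,2,3,4,1,2,3,0,1,2,5,6,4,6,5,2,1,0,3,2,1,4,3,2,5,2,3,4,1,2,3,0,1,2,5,6,5,2,1,0,3,2]))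
 (Tr.node (Tr.leaf [1,2,5,6,5,2,1,0,3,2,1,4,3,2,5,2,3,4,1,2,3,0,1,2,5,2,5,2,1,0,3,2,1,4,3,2,5,2,3,4,1,2,3,0,1,2,5,6,5,2,1,0,3,2,1,4,3,2,5,2,3,4,1,2,3,0,1,2,5,6,5,2,1,0,3,2,1,4,3,2,5,2,3,4,1,2,3,0,1,2,5,6,2,6,5,2,1,0,3,2,1,4,3,2,5,2,3,4,1,2,3,0,1,2,5,6,5,2,1,0,3,2,1,4,3,2,5,2,3,4,1,2,3,0])
 (Tr.leaf [3,0,1,2,5,6,5,2,1,0,3,2,1,4,3,2,5,2,3,4,1,2,3,0,1,2,5,6,5,2,1,0,3,2,1,4,3,2,5,2,3,4,1,2,3,0,1,2,5,6,5,2,1,0,3,2,1,4,3,2,5,2,3,4,1,2,3,0,1,2,5,6,5,2,1,0,3,2,1,4,3,2,5,2,3,4,1,2,3,0,1,2,5,6,5,2,1,0,3,2,1,4,3,2,5,2,3,4,1,2,3,0,1,2,5,6,6,6,5,2,1,0,3,2,1,4,3,2,5,2,3,4,1,2])))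
 (Tr.node (Tr.node (Tr.leaf [1,0,3,2,1,4,3,2,5,2,3,4,1,2,3,0,1,2,5,1,5,2,1,0,3,2,1,4,3,2,5,2,3,4,1,2,3,0,1,2,5,6,5,2,1,0,3,2,1,4,3,2,5,2,3,4,1,2,3,0,1,2,5,6,5,2,1,0,3,2,1,4,3,2,5,2,3,4,1,2,3,0,1,2,5,6,1,6,5,2,1,0,3,2,1,4,3,2,5,2,3,4,1,2,3,0,1,2,5,6,5,2,1,0,3,2,1,4,3,2,5,2,3,4,1,2,3,0,1,2,5,6,5,2])
 (Tr.leaf [5,2,1,0,3,2,1,4,3,2,5,2,3,4,1,2,3,0,1,2,5,6,5,2,1,0,3,2,1,4,3,2,5,2,3,4,1,2,3,0,1,2,5,5,5,2,1,0,3,2,1,4,3,2,5,2,3,4,1,2,3,0,1,2,5,6,5,2,1,0,3,2,1,4,3,2,5,2,3,4,1,2,3,0,1,2,5,6,5,2,1,0,3,2,1,4,3,2,5,2,3,4,1,2,3,0,1,2,5,6,5,6,5,2,1,0,3,2,1,4,3,2,5,2,3,4,1,2,3,0,1,2,5,6]))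
 (Tr.node (Tr.leaf [3,4,1,2,3,0,1,2,5,6,5,2,1,0,3,2,1,4,3,2,5,2,3,4,1,2,3,0,1,2,5,3,5,2,1,0,3,2,1,4,3,2,5,2,3,4,1,2,3,0,1,2,5,6,5,2,1,0,3,2,1,4,3,2,5,2,3,4,1,2,3,0,1,2,5,6,5,2,1,0,3,2,1,4,3,2,5,2,3,4,1,2,3,0,1,2,5,6,3,6,5,2,1,0,3,2,1,4,3,2,5,2,3,4,1,2,3,0,1,2,5,6,5,2,1,0,3,2,1,4,3,2,5,2])
 (Tr.leaf [6,6,6,5,2,1,0,3,2,1,4,3,2,5,2,3,4,1,2,3,0,1,2,5,6,5,2,1,0,3,2,1,4,3,2,5,2,3,4,1,2,3,0,1,2,5,6,5,2,1,0,3,2,1,4,3,2,5,2,3,4,1,2,3,0,1,2,5,6,5,2,1,0,3,2,1,4,3,2,5,2,3,4,1,2,3,0,1,2,5,6,5,2,1,0,3,2,1,4,3,2,5,2,3,4,1,2,3,0,1,2,5,6,5,2,1,0,3,2,1,4,3,2,5,2,3,4,1,2,3,0,1,2,5]))))))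
 (Tr.node (Tr.node (Tr.node (Tr.node (Tr.node (Tr.leaf [1,4,1,4])
 (Tr.leaf [3,0,1,2,5,6,5,2,1,0,3,2,1,4,3,2,5,2,3,4,1,2,3,0,1,2,5,6,5,2,1,0,3,2,1,4,3,2,5,2,3,4,1,2,3,0,1,2,5,6,3,6,5,2,1,0,3,2,1,4,3,2,5,2,3,4,1,2,3,0,1,2,5,6,5,2,1,0,3,2,1,4,3,2,5,2,3,4,1,2,3,0,1,2,5,6,5,2,1,0,3,2,1,4,3,2,5,2,3,4,1,2,3,0,1,2,5,3,5,2,1,0,3,2,1,4,3,2,5,2,3,4,1,2]))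
 (Tr.node (Tr.leaf [1,4,3,2,5,2,3,4,1,2,3,0,1,2,5,6,5,2,1,0,3,2,1,4,3,2,5,2,3,4,1,2,3,0,1,2,5,6,1,6,5,2,1,0,3,2,1,4,3,2,5,2,3,4,1,2,3,0,1,2,5,6,5,2,1,0,3,2,1,4,3,2,5,2,3,4,1,2,3,0,1,2,5,6,5,2,1,0,3,2,1,4,3,2,5,2,3,4,1,2,3,0,1,2,5,1,5,2,1,0,3,2,1,4,3,2,5,2,3,4,1,2,3,0,1,2,5,6,5,2,1,0,3,2])
 (Tr.leaf [3,2,1,4,3,2,5,2,3,4,1,2,3,0,1,2,5,6,5,2,1,0,3,2,1,4,3,2,5,2,3,4,1,2,3,0,1,2,5,6,5,2,1,0,3,2,1,4,3,2,5,2,3,4,1,2,3,0,1,2,5,6,5,6,5,2,1,0,3,2,1,4,3,2,5,2,3,4,1,2,3,0,1,2,5,6,5,2,1,0,3,2,1,4,3,2,5,2,3,4,1,2,3,0,1,2,5,6,5,2,1,0,3,2,1,4,3,2,5,2,3,4,1,2,3,0,1,2,5,5,5,2,1,0])))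
 (Tr.node (Tr.node (Tr.leaf [3,4,1,2,3,0,1,2,5,6,5,2,1,0,3,2,1,4,3,2,5,2,3,4,1,2,3,0,1,2,5,6,0,6,5,2,1,0,3,2,1,4,3,2,5,2,3,4,1,2,3,0,1,2,5,6,5,2,1,0,3,2,1,4,3,2,5,2,3,4,1,2,3,0,1,2,5,6,5,2,1,0,3,2,1,4,3,2,5,2,3,4,1,2,3,0,1,2,5,0,5,2,1,0,3,2,1,4,3,2,5,2,3,4,1,2,3,0,1,2,5,6,5,2,1,0,3,2,1,4,3,2,5,2])
 (Tr.leaf [5,2,3,4,1,2,3,0,1,2,5,6,5,2,1,0,3,2,1,4,3,2,5,2,3,4,1,2,3,0,1,2,5,6,5,2,1,0,3,2,1,4,3,2,5,2,3,4,1,2,3,0,1,2,5,6,4,6,5,2,1,0,3,2,1,4,3,2,5,2,3,4,1,2,3,0,1,2,5,6,5,2,1,0,3,2,1,4,3,2,5,2,3,4,1,2,3,0,1,2,5,6,5,2,1,0,3,2,1,4,3,2,5,2,3,4,1,2,3,0,1,2,5,4,5,2,1,0,3,2,1,4,3,2]))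
 (Tr.node (Tr.leaf [5,2,1,0,3,2,1,4,3,2,5,2,3,4,1,2,3,0,1,2,5,6,5,2,1,0,3,2,1,4,3,2,5,2,3,4,1,2,3,0,1,2,5,6,2,6,5,2,1,0,3,2,1,4,3,2,5,2,3,4,1,2,3,0,1,2,5,6,5,2,1,0,3,2,1,4,3,2,5,2,3,4,1,2,3,0,1,2,5,6,5,2,1,0,3,2,1,4,3,2,5,2,3,4,1,2,3,0,1,2,5,2,5,2,1,0,3,2,1,4,3,2,5,2,3,4,1,2,3,0,1,2,5,6])
 (Tr.leaf [5,6,5,2,1,0,3,2,1,4,3,2,5,2,3,4,1,2,3,0,1,2,5,6,5,2,1,0,3,2,1,4,3,2,5,2,3,4,1,2,3,0,1,2,5,6,5,2,1,0,3,2,1,4,3,2,5,2,3,4,1,2,3,0,1,2,5,6,6,6,5,2,1,0,3,2,1,4,3,2,5,2,3,4,1,2,3,0,1,2,5,6,5,2,1,0,3,2,1,4,3,2,5,2,3,4,1,2,3,0,1,2,5,6,5,2,1,0,3,2,1,4,3,2,5,2,3,4,1,2,3,0,1,2]))))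
 (Tr.node (Tr.node (Tr.node (Tr.leaf [1,2,3,0,1,2,5,6,5,2,1,0,3,2,1,4,3,2,5,2,3,4,1,2,3,0,1,2,5,0,5,2,1,0,3,2,1,4,3,2,5,2,3,4,1,2,3,0,1,2,5,6,5,2,1,0,3,2,1,4,3,2,5,2,3,4,1,2,3,0,1,2,5,6,5,2,1,0,3,2,1,4,3,2,5,2,3,4,1,2,3,0,1,2,5,6,0,6,5,2,1,0,3,2,1,4,3,2,5,2,3,4,1,2,3,0,1,2,5,6,5,2,1,0,3,2,1,4,3,2,5,2,3,4])
 (Tr.leaf [3,4,1,2,3,0,1,2,5,6,5,2,1,0,3,2,1,4,3,2,5,2,3,4,1,2,3,0,1,2,5,6,5,2,1,0,3,2,1,4,3,2,5,2,3,4,1,2,3,0,1,2,5,4,5,2,1,0,3,2,1,4,3,2,5,2,3,4,1,2,3,0,1,2,5,6,5,2,1,0,3,2,1,4,3,2,5,2,3,4,1,2,3,0,1,2,5,6,5,2,1,0,3,2,1,4,3,2,5,2,3,4,1,2,3,0,1,2,5,6,4,6,5,2,1,0,3,2,1,4,3,2,5,2]))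
 (Tr.node (Tr.leaf [1,0,3,2,1,4,3,2,5,2,3,4,1,2,3,0,1,2,5,6,5,2,1,0,3,2,1,4,3,2,5,2,3,4,1,2,3,0,1,2,5,2,5,2,1,0,3,2,1,4,3,2,5,2,3,4,1,2,3,0,1,2,5,6,5,2,1,0,3,2,1,4,3,2,5,2,3,4,1,2,3,0,1,2,5,6,5,2,1,0,3,2,1,4,3,2,5,2,3,4,1,2,3,0,1,2,5,6,2,6,5,2,1,0,3,2,1,4,3,2,5,2,3,4,1,2,3,0,1,2,5,6,5,2])
 (Tr.leaf [5,2,1,0,3,2,1,4,3,2,5,2,3,4,1,2,3,0,1,2,5,6,5,2,1,0,3,2,1,4,3,2,5,2,3,4,1,2,3,0,1,2,5,6,5,2,1,0,3,2,1,4,3,2,5,2,3,4,1,2,3,0,1,2,5,6,5,2,1,0,3,2,1,4,3,2,5,2,3,4,1,2,3,0,1,2,5,6,5,2,1,0,3,2,1,4,3,2,5,2,3,4,1,2,3,0,1,2,5,6,5,2,1,0,3,2,1,4,3,2,5,2,3,4,1,2,3,0,1,2,5,6,6,6])))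
 (Tr.node (Tr.node (Tr.leaf [3,2,5,2,3,4,1,2,3,0,1,2,5,6,5,2,1,0,3,2,1,4,3,2,5,2,3,4,1,2,3,0,1,2,5,1,5,2,1,0,3,2,1,4,3,2,5,2,3,4,1,2,3,0,1,2,5,6,5,2,1,0,3,2,1,4,3,2,5,2,3,4,1,2,3,0,1,2,5,6,5,2,1,0,3,2,1,4,3,2,5,2,3,4,1,2,3,0,1,2,5,6,1,6,5,2,1,0,3,2,1,4,3,2,5,2,3,4,1,2,3,0,1,2,5,6,5,2,1,0,3,2,1,4])
 (Tr.leaf [1,4,3,2,5,2,3,4,1,2,3,0,1,2,5,6,5,2,1,0,3,2,1,4,3,2,5,2,3,4,1,2,3,0,1,2,5,6,5,2,1,0,3,2,1,4,3,2,5,2,3,4,1,2,3,0,1,2,5,5,5,2,1,0,3,2,1,4,3,2,5,2,3,4,1,2,3,0,1,2,5,6,5,2,1,0,3,2,1,4,3,2,5,2,3,4,1,2,3,0,1,2,5,6,5,2,1,0,3,2,1,4,3,2,5,2,3,4,1,2,3,0,1,2,5,6,5,6,5,2,1,0,3,2]))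
 (Tr.node (Tr.leaf [1,2,5,6,5,2,1,0,3,2,1,4,3,2,5,2,3,4,1,2,3,0,1,2,5,6,5,2,1,0,3,2,1,4,3,2,5,2,3,4,1,2,3,0,1,2,5,3,5,2,1,0,3,2,1,4,3,2,5,2,3,4,1,2,3,0,1,2,5,6,5,2,1,0,3,2,1,4,3,2,5,2,3,4,1,2,3,0,1,2,5,6,5,2,1,0,3,2,1,4,3,2,5,2,3,4,1,2,3,0,1,2,5,6,3,6,5,2,1,0,3,2,1,4,3,2,5,2,3,4,1,2,3,0])
 (Tr.leaf [1,2,5,6,6,6,5,2,1,0,3,2,1,4,3,2,5,2,3,4,1,2,3,0,1,2,5,6,5,2,1,0,3,2,1,4,3,2,5,2,3,4,1,2,3,0,1,2,5,6,5,2,1,0,3,2,1,4,3,2,5,2,3,4,1,2,3,0,1,2,5,6,5,2,1,0,3,2,1,4,3,2,5,2,3,4,1,2,3,0,1,2,5,6,5,2,1,0,3,2,1,4,3,2,5,2,3,4,1,2,3,0,1,2,5,6,5,2,1,0,3,2,1,4,3,2,5,2,3,4,1,2,3,0])))))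
 (Tr.node (Tr.node (Tr.node (Tr.node (Tr.leaf [3,2,1,4,3,2,5,2,3,4,1,2,3,0,1,2,5,6,5,2,1,0,3,2,1,4,3,2,5,2,3,4,1,2,3,0,1,2,5,6,5,2,1,0,3,2,1,4,3,2,5,2,3,4,1,2,3,0,1,2,5,0,5,2,1,0,3,2,1,4,3,2,5,2,3,4,1,2,3,0,1,2,5,6,5,2,1,0,3,2,1,4,3,2,5,2,3,4,1,2,3,0,1,2,5,6,5,2,1,0,3,2,1,4,3,2,5,2,3,4,1,2,3,0,1,2,5,6,0,6,5,2,1,0])
 (Tr.leaf [3,2,1,4,3,2,5,2,3,4,1,2,3,0,1,2,5,6,3,6,5,2,1,0,3,2,1,4,3,2,5,2,3,4,1,2,3,0,1,2,5,6,5,2,1,0,3,2,1,4,3,2,5,2,3,4,1,2,3,0,1,2,5,6,5,2,1,0,3,2,1,4,3,2,5,2,3,4,1,2,3,0,1,2,5,3,5,2,1,0,3,2,1,4,3,2,5,2,3,4,1,2,3,0,1,2,5,6,5,2,1,0,3,2,1,4,3,2,5,2,3,4,1,2,3,0,1,2,5,6,5,2,1,0]))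
 (Tr.node (Tr.leaf [3,0,1,2,5,6,1,6,5,2,1,0,3,2,1,4,3,2,5,2,3,4,1,2,3,0,1,2,5,6,5,2,1,0,3,2,1,4,3,2,5,2,3,4,1,2,3,0,1,2,5,6,5,2,1,0,3,2,1,4,3,2,5,2,3,4,1,2,3,0,1,2,5,1,5,2,1,0,3,2,1,4,3,2,5,2,3,4,1,2,3,0,1,2,5,6,5,2,1,0,3,2,1,4,3,2,5,2,3,4,1,2,3,0,1,2,5,6,5,2,1,0,3,2,1,4,3,2,5,2,3,4,1,2])
 (Tr.leaf [1,2,3,0,1,2,5,6,5,2,1,0,3,2,1,4,3,2,5,2,3,4,1,2,3,0,1,2,5,6,5,6,5,2,1,0,3,2,1,4,3,2,5,2,3,4,1,2,3,0,1,2,5,6,5,2,1,0,3,2,1,4,3,2,5,2,3,4,1,2,3,0,1,2,5,6,5,2,1,0,3,2,1,4,3,2,5,2,3,4,1,2,3,0,1,2,5,5,5,2,1,0,3,2,1,4,3,2,5,2,3,4,1,2,3,0,1,2,5,6,5,2,1,0,3,2,1,4,3,2,5,2,3,4])))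
 (Tr.node (Tr.node (Tr.leaf [6,5,2,1,0,3,2,1,4,3,2,5,2,3,4,1,2,3,0,1,2,5,6,5,2,1,0,3,2,1,4,3,2,5,2,3,4,1,2,3,0,1,2,5,6,5,2,1,0,3,2,1,4,3,2,5,2,3,4,1,2,3,0,1,2,5,1,5,2,1,0,3,2,1,4,3,2,5,2,3,4,1,2,3,0,1,2,5,6,5,2,1,0,3,2,1,4,3,2,5,2,3,4,1,2,3,0,1,2,5,6,5,2,1,0,3,2,1,4,3,2,5,2,3,4,1,2,3,0,1,2,5,6,1])
 (Tr.leaf [5,6,5,2,1,0,3,2,1,4,3,2,5,2,3,4,1,2,3,0,1,2,5,6,4,6,5,2,1,0,3,2,1,4,3,2,5,2,3,4,1,2,3,0,1,2,5,6,5,2,1,0,3,2,1,4,3,2,5,2,3,4,1,2,3,0,1,2,5,6,5,2,1,0,3,2,1,4,3,2,5,2,3,4,1,2,3,0,1,2,5,4,5,2,1,0,3,2,1,4,3,2,5,2,3,4,1,2,3,0,1,2,5,6,5,2,1,0,3,2,1,4,3,2,5,2,3,4,1,2,3,0,1,2]))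
 (Tr.node (Tr.leaf [5,2,3,4,1,2,3,0,1,2,5,6,2,6,5,2,1,0,3,2,1,4,3,2,5,2,3,4,1,2,3,0,1,2,5,6,5,2,1,0,3,2,1,4,3,2,5,2,3,4,1,2,3,0,1,2,5,6,5,2,1,0,3,2,1,4,3,2,5,2,3,4,1,2,3,0,1,2,5,2,5,2,1,0,3,2,1,4,3,2,5,2,3,4,1,2,3,0,1,2,5,6,5,2,1,0,3,2,1,4,3,2,5,2,3,4,1,2,3,0,1,2,5,6,5,2,1,0,3,2,1,4,3,2])
 (Tr.leaf [3,2,5,2,3,4,1,2,3,0,1,2,5,6,5,2,1,0,3,2,1,4,3,2,5,2,3,4,1,2,3,0,1,2,5,6,6,6,5,2,1,0,3,2,1,4,3,2,5,2,3,4,1,2,3,0,1,2,5,6,5,2,1,0,3,2,1,4,3,2,5,2,3,4,1,2,3,0,1,2,5,6,5,2,1,0,3,2,1,4,3,2,5,2,3,4,1,2,3,0,1,2,5,6,5,2,1,0,3,2,1,4,3,2,5,2,3,4,1,2,3,0,1,2,5,6,5,2,1,0,3,2,1,4]))))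
 (Tr.node (Tr.node (Tr.node (Tr.leaf [1,0,3,2,1,4,3,2,5,2,3,4,1,2,3,0,1,2,5,6,5,2,1,0,3,2,1,4,3,2,5,2,3,4,1,2,3,0,1,2,5,6,5,2,1,0,3,2,1,4,3,2,5,2,3,4,1,2,3,0,1,2,5,6,0,6,5,2,1,0,3,2,1,4,3,2,5,2,3,4,1,2,3,0,1,2,5,6,5,2,1,0,3,2,1,4,3,2,5,2,3,4,1,2,3,0,1,2,5,6,5,2,1,0,3,2,1,4,3,2,5,2,3,4,1,2,3,0,1,2,5,0,5,2])
 (Tr.leaf [5,2,1,0,3,2,1,4,3,2,5,2,3,4,1,2,3,0,1,2,5,4,5,2,1,0,3,2,1,4,3,2,5,2,3,4,1,2,3,0,1,2,5,6,5,2,1,0,3,2,1,4,3,2,5,2,3,4,1,2,3,0,1,2,5,6,5,2,1,0,3,2,1,4,3,2,5,2,3,4,1,2,3,0,1,2,5,6,4,6,5,2,1,0,3,2,1,4,3,2,5,2,3,4,1,2,3,0,1,2,5,6,5,2,1,0,3,2,1,4,3,2,5,2,3,4,1,2,3,0,1,2,5,6]))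
 (Tr.node (Tr.leaf [3,4,1,2,3,0,1,2,5,2,5,2,1,0,3,2,1,4,3,2,5,2,3,4,1,2,3,0,1,2,5,6,5,2,1,0,3,2,1,4,3,2,5,2,3,4,1,2,3,0,1,2,5,6,5,2,1,0,3,2,1,4,3,2,5,2,3,4,1,2,3,0,1,2,5,6,2,6,5,2,1,0,3,2,1,4,3,2,5,2,3,4,1,2,3,0,1,2,5,6,5,2,1,0,3,2,1,4,3,2,5,2,3,4,1,2,3,0,1,2,5,6,5,2,1,0,3,2,1,4,3,2,5,2])
 (Tr.leaf [5,2,3,4,1,2,3,0,1,2,5,6,5,2,1,0,3,2,1,4,3,2,5,2,3,4,1,2,3,0,1,2,5,6,5,2,1,0,3,2,1,4,3,2,5,2,3,4,1,2,3,0,1,2,5,6,5,2,1,0,3,2,1,4,3,2,5,2,3,4,1,2,3,0,1,2,5,6,5,2,1,0,3,2,1,4,3,2,5,2,3,4,1,2,3,0,1,2,5,6,6,6,5,2,1,0,3,2,1,4,3,2,5,2,3,4,1,2,3,0,1,2,5,6,5,2,1,0,3,2,1,4,3,2])))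
 (Tr.node (Tr.node (Tr.leaf [1,2,5,1,5,2,1,0,3,2,1,4,3,2,5,2,3,4,1,2,3,0,1,2,5,6,5,2,1,0,3,2,1,4,3,2,5,2,3,4,1,2,3,0,1,2,5,6,5,2,1,0,3,2,1,4,3,2,5,2,3,4,1,2,3,0,1,2,5,6,1,6,5,2,1,0,3,2,1,4,3,2,5,2,3,4,1,2,3,0,1,2,5,6,5,2,1,0,3,2,1,4,3,2,5,2,3,4,1,2,3,0,1,2,5,6,5,2,1,0,3,2,1,4,3,2,5,2,3,4,1,2,3,0])
 (Tr.leaf [3,0,1,2,5,6,5,2,1,0,3,2,1,4,3,2,5,2,3,4,1,2,3,0,1,2,5,5,5,2,1,0,3,2,1,4,3,2,5,2,3,4,1,2,3,0,1,2,5,6,5,2,1,0,3,2,1,4,3,2,5,2,3,4,1,2,3,0,1,2,5,6,5,2,1,0,3,2,1,4,3,2,5,2,3,4,1,2,3,0,1,2,5,6,5,6,5,2,1,0,3,2,1,4,3,2,5,2,3,4,1,2,3,0,1,2,5,6,5,2,1,0,3,2,1,4,3,2,5,2,3,4,1,2]))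
 (Tr.node (Tr.leaf [1,4,3,2,5,2,3,4,1,2,3,0,1,2,5,3,5,2,1,0,3,2,1,4,3,2,5,2,3,4,1,2,3,0,1,2,5,6,5,2,1,0,3,2,1,4,3,2,5,2,3,4,1,2,3,0,1,2,5,6,5,2,1,0,3,2,1,4,3,2,5,2,3,4,1,2,3,0,1,2,5,6,3,6,5,2,1,0,3,2,1,4,3,2,5,2,3,4,1,2,3,0,1,2,5,6,5,2,1,0,3,2,1,4,3,2,5,2,3,4,1,2,3,0,1,2,5,6,5,2,1,0,3,2])
 (Tr.leaf [6,6,6,5,2,1,0,3,2,1,4,3,2,5,2,3,4,1,2,3,0,1,2,5,6,5,2,1,0,3,2,1,4,3,2,5,2,3,4,1,2,3,0,1,2,5,6,5,2,1,0,3,2,1,4,3,2,5,2,3,4,1,2,3,0,1,2,5,6,5,2,1,0,3,2,1,4,3,2,5,2,3,4,1,2,3,0,1,2,5,6,5,2,1,0,3,2,1,4,3,2,5,2,3,4,1,2,3,0,1,2,5,6,5,2,1,0,3,2,1,4,3,2,5,2,3,4,1,2,3,0,1,2,5]))))))))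
 (Tr.node (Tr.node (Tr.node (Tr.node (Tr.node (Tr.node (Tr.node (Tr.leaf [3,3])
 (Tr.leaf [1,2,5,3,5,2,1,0,3,2,1,4,3,2,5,2,3,4,1,2,3,0,1,2,5,6,5,2,1,0,3,2,1,4,3,2,5,2,3,4,1,2,3,0,1,2,5,6,5,2,1,0,3,2,1,4,3,2,5,2,3,4,1,2,3,0,1,2,5,6,3,6,5,2,1,0,3,2,1,4,3,2,5,2,3,4,1,2,3,0,1,2,5,6,5,2,1,0,3,2,1,4,3,2,5,2,3,4,1,2,3,0,1,2,5,6,5,2,1,0,3,2,1,4,3,2,5,2,3,4,1,2,3,0]))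
 (Tr.node (Tr.leaf [3,2,5,2,3,4,1,2,3,0,1,2,5,6,5,2,1,0,3,2,1,4,3,2,5,2,3,4,1,2,3,0,1,2,5,6,5,2,1,0,3,2,1,4,3,2,5,2,3,4,1,2,3,0,1,2,5,6,1,6,5,2,1,0,3,2,1,4,3,2,5,2,3,4,1,2,3,0,1,2,5,6,5,2,1,0,3,2,1,4,3,2,5,2,3,4,1,2,3,0,1,2,5,6,5,2,1,0,3,2,1,4,3,2,5,2,3,4,1,2,3,0,1,2,5,1,5,2,1,0,3,2,1,4])
 (Tr.leaf [1,4,3,2,5,2,3,4,1,2,3,0,1,2,5,5,5,2,1,0,3,2,1,4,3,2,5,2,3,4,1,2,3,0,1,2,5,6,5,2,1,0,3,2,1,4,3,2,5,2,3,4,1,2,3,0,1,2,5,6,5,2,1,0,3,2,1,4,3,2,5,2,3,4,1,2,3,0,1,2,5,6,5,6,5,2,1,0,3,2,1,4,3,2,5,2,3,4,1,2,3,0,1,2,5,6,5,2,1,0,3,2,1,4,3,2,5,2,3,4,1,2,3,0,1,2,5,6,5,2,1,0,3,2])))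
 (Tr.node (Tr.node (Tr.leaf [1,2,3,0,1,2,5,6,5,2,1,0,3,2,1,4,3,2,5,2,3,4,1,2,3,0,1,2,5,6,5,2,1,0,3,2,1,4,3,2,5,2,3,4,1,2,3,0,1,2,5,6,0,6,5,2,1,0,3,2,1,4,3,2,5,2,3,4,1,2,3,0,1,2,5,6,5,2,1,0,3,2,1,4,3,2,5,2,3,4,1,2,3,0,1,2,5,6,5,2,1,0,3,2,1,4,3,2,5,2,3,4,1,2,3,0,1,2,5,0,5,2,1,0,3,2,1,4,3,2,5,2,3,4])
 (Tr.leaf [3,4,1,2,3,0,1,2,5,4,5,2,1,0,3,2,1,4,3,2,5,2,3,4,1,2,3,0,1,2,5,6,5,2,1,0,3,2,1,4,3,2,5,2,3,4,1,2,3,0,1,2,5,6,5,2,1,0,3,2,1,4,3,2,5,2,3,4,1,2,3,0,1,2,5,6,4,6,5,2,1,0,3,2,1,4,3,2,5,2,3,4,1,2,3,0,1,2,5,6,5,2,1,0,3,2,1,4,3,2,5,2,3,4,1,2,3,0,1,2,5,6,5,2,1,0,3,2,1,4,3,2,5,2]))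
 (Tr.node (Tr.leaf [1,0,3,2,1,4,3,2,5,2,3,4,1,2,3,0,1,2,5,6,5,2,1,0,3,2,1,4,3,2,5,2,3,4,1,2,3,0,1,2,5,6,5,2,1,0,3,2,1,4,3,2,5,2,3,4,1,2,3,0,1,2,5,6,2,6,5,2,1,0,3,2,1,4,3,2,5,2,3,4,1,2,3,0,1,2,5,6,5,2,1,0,3,2,1,4,3,2,5,2,3,4,1,2,3,0,1,2,5,6,5,2,1,0,3,2,1,4,3,2,5,2,3,4,1,2,3,0,1,2,5,2,5,2])
 (Tr.leaf [5,2,1,0,3,2,1,4,3,2,5,2,3,4,1,2,3,0,1,2,5,6,5,2,1,0,3,2,1,4,3,2,5,2,3,4,1,2,3,0,1,2,5,6,5,2,1,0,3,2,1,4,3,2,5,2,3,4,1,2,3,0,1,2,5,6,5,2,1,0,3,2,1,4,3,2,5,2,3,4,1,2,3,0,1,2,5,6,6,6,5,2,1,0,3,2,1,4,3,2,5,2,3,4,1,2,3,0,1,2,5,6,5,2,1,0,3,2,1,4,3,2,5,2,3,4,1,2,3,0,1,2,5,6]))))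
 (Tr.node (Tr.node (Tr.node (Tr.leaf [3,0,1,2,5,6,5,2,1,0,3,2,1,4,3,2,5,2,3,4,1,2,3,0,1,2,5,6,5,2,1,0,3,2,1,4,3,2,5,2,3,4,1,2,3,0,1,2,5,0,5,2,1,0,3,2,1,4,3,2,5,2,3,4,1,2,3,0,1,2,5,6,5,2,1,0,3,2,1,4,3,2,5,2,3,4,1,2,3,0,1,2,5,6,5,2,1,0,3,2,1,4,3,2,5,2,3,4,1,2,3,0,1,2,5,6,0,6,5,2,1,0,3,2,1,4,3,2,5,2,3,4,1,2])
 (Tr.leaf [3,0,1,2,5,6,3,6,5,2,1,0,3,2,1,4,3,2,5,2,3,4,1,2,3,0,1,2,5,6,5,2,1,0,3,2,1,4,3,2,5,2,3,4,1,2,3,0,1,2,5,6,5,2,1,0,3,2,1,4,3,2,5,2,3,4,1,2,3,0,1,2,5,3,5,2,1,0,3,2,1,4,3,2,5,2,3,4,1,2,3,0,1,2,5,6,5,2,1,0,3,2,1,4,3,2,5,2,3,4,1,2,3,0,1,2,5,6,5,2,1,0,3,2,1,4,3,2,5,2,3,4,1,2]))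
 (Tr.node (Tr.leaf [3,2,1,4,3,2,5,2,3,4,1,2,3,0,1,2,5,6,5,2,1,0,3,2,1,4,3,2,5,2,3,4,1,2,3,0,1,2,5,6,5,2,1,0,3,2,1,4,3,2,5,2,3,4,1,2,3,0,1,2,5,2,5,2,1,0,3,2,1,4,3,2,5,2,3,4,1,2,3,0,1,2,5,6,5,2,1,0,3,2,1,4,3,2,5,2,3,4,1,2,3,0,1,2,5,6,5,2,1,0,3,2,1,4,3,2,5,2,3,4,1,2,3,0,1,2,5,6,2,6,5,2,1,0])
 (Tr.leaf [3,2,1,4,3,2,5,2,3,4,1,2,3,0,1,2,5,6,5,6,5,2,1,0,3,2,1,4,3,2,5,2,3,4,1,2,3,0,1,2,5,6,5,2,1,0,3,2,1,4,3,2,5,2,3,4,1,2,3,0,1,2,5,6,5,2,1,0,3,2,1,4,3,2,5,2,3,4,1,2,3,0,1,2,5,5,5,2,1,0,3,2,1,4,3,2,5,2,3,4,1,2,3,0,1,2,5,6,5,2,1,0,3,2,1,4,3,2,5,2,3,4,1,2,3,0,1,2,5,6,5,2,1,0])))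
 (Tr.node (Tr.node (Tr.leaf [5,2,3,4,1,2,3,0,1,2,5,6,5,2,1,0,3,2,1,4,3,2,5,2,3,4,1,2,3,0,1,2,5,6,5,2,1,0,3,2,1,4,3,2,5,2,3,4,1,2,3,0,1,2,5,1,5,2,1,0,3,2,1,4,3,2,5,2,3,4,1,2,3,0,1,2,5,6,5,2,1,0,3,2,1,4,3,2,5,2,3,4,1,2,3,0,1,2,5,6,5,2,1,0,3,2,1,4,3,2,5,2,3,4,1,2,3,0,1,2,5,6,1,6,5,2,1,0,3,2,1,4,3,2])
 (Tr.leaf [5,2,3,4,1,2,3,0,1,2,5,6,4,6,5,2,1,0,3,2,1,4,3,2,5,2,3,4,1,2,3,0,1,2,5,6,5,2,1,0,3,2,1,4,3,2,5,2,3,4,1,2,3,0,1,2,5,6,5,2,1,0,3,2,1,4,3,2,5,2,3,4,1,2,3,0,1,2,5,4,5,2,1,0,3,2,1,4,3,2,5,2,3,4,1,2,3,0,1,2,5,6,5,2,1,0,3,2,1,4,3,2,5,2,3,4,1,2,3,0,1,2,5,6,5,2,1,0,3,2,1,4,3,2]))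
 (Tr.node (Tr.leaf [6,5,2,1,0,3,2,1,4,3,2,5,2,3,4,1,2,3,0,1,2,5,6,5,2,1,0,3,2,1,4,3,2,5,2,3,4,1,2,3,0,1,2,5,6,5,2,1,0,3,2,1,4,3,2,5,2,3,4,1,2,3,0,1,2,5,3,5,2,1,0,3,2,1,4,3,2,5,2,3,4,1,2,3,0,1,2,5,6,5,2,1,0,3,2,1,4,3,2,5,2,3,4,1,2,3,0,1,2,5,6,5,2,1,0,3,2,1,4,3,2,5,2,3,4,1,2,3,0,1,2,5,6,3])
 (Tr.leaf [5,6,5,2,1,0,3,2,1,4,3,2,5,2,3,4,1,2,3,0,1,2,5,6,6,6,5,2,1,0,3,2,1,4,3,2,5,2,3,4,1,2,3,0,1,2,5,6,5,2,1,0,3,2,1,4,3,2,5,2,3,4,1,2,3,0,1,2,5,6,5,2,1,0,3,2,1,4,3,2,5,2,3,4,1,2,3,0,1,2,5,6,5,2,1,0,3,2,1,4,3,2,5,2,3,4,1,2,3,0,1,2,5,6,5,2,1,0,3,2,1,4,3,2,5,2,3,4,1,2,3,0,1,2])))))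
 (Tr.node (Tr.node (Tr.node (Tr.node (Tr.leaf [2,6,2,6])
 (Tr.leaf [1,4,3,2,5,2,3,4,1,2,3,0,1,2,5,6,5,2,1,0,3,2,1,4,3,2,5,2,3,4,1,2,3,0,1,2,5,6,3,6,5,2,1,0,3,2,1,4,3,2,5,2,3,4,1,2,3,0,1,2,5,6,5,2,1,0,3,2,1,4,3,2,5,2,3,4,1,2,3,0,1,2,5,6,5,2,1,0,3,2,1,4,3,2,5,2,3,4,1,2,3,0,1,2,5,3,5,2,1,0,3,2,1,4,3,2,5,2,3,4,1,2,3,0,1,2,5,6,5,2,1,0,3,2]))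
 (Tr.node (Tr.leaf [1,2,5,6,5,2,1,0,3,2,1,4,3,2,5,2,3,4,1,2,3,0,1,2,5,6,1,6,5,2,1,0,3,2,1,4,3,2,5,2,3,4,1,2,3,0,1,2,5,6,5,2,1,0,3,2,1,4,3,2,5,2,3,4,1,2,3,0,1,2,5,6,5,2,1,0,3,2,1,4,3,2,5,2,3,4,1,2,3,0,1,2,5,1,5,2,1,0,3,2,1,4,3,2,5,2,3,4,1,2,3,0,1,2,5,6,5,2,1,0,3,2,1,4,3,2,5,2,3,4,1,2,3,0])
 (Tr.leaf [3,0,1,2,5,6,5,2,1,0,3,2,1,4,3,2,5,2,3,4,1,2,3,0,1,2,5,6,5,2,1,0,3,2,1,4,3,2,5,2,3,4,1,2,3,0,1,2,5,6,5,6,5,2,1,0,3,2,1,4,3,2,5,2,3,4,1,2,3,0,1,2,5,6,5,2,1,0,3,2,1,4,3,2,5,2,3,4,1,2,3,0,1,2,5,6,5,2,1,0,3,2,1,4,3,2,5,2,3,4,1,2,3,0,1,2,5,5,5,2,1,0,3,2,1,4,3,2,5,2,3,4,1,2])))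
 (Tr.node (Tr.node (Tr.leaf [1,0,3,2,1,4,3,2,5,2,3,4,1,2,3,0,1,2,5,6,0,6,5,2,1,0,3,2,1,4,3,2,5,2,3,4,1,2,3,0,1,2,5,6,5,2,1,0,3,2,1,4,3,2,5,2,3,4,1,2,3,0,1,2,5,6,5,2,1,0,3,2,1,4,3,2,5,2,3,4,1,2,3,0,1,2,5,0,5,2,1,0,3,2,1,4,3,2,5,2,3,4,1,2,3,0,1,2,5,6,5,2,1,0,3,2,1,4,3,2,5,2,3,4,1,2,3,0,1,2,5,6,5,2])
 (Tr.leaf [5,2,1,0,3,2,1,4,3,2,5,2,3,4,1,2,3,0,1,2,5,6,5,2,1,0,3,2,1,4,3,2,5,2,3,4,1,2,3,0,1,2,5,6,4,6,5,2,1,0,3,2,1,4,3,2,5,2,3,4,1,2,3,0,1,2,5,6,5,2,1,0,3,2,1,4,3,2,5,2,3,4,1,2,3,0,1,2,5,6,5,2,1,0,3,2,1,4,3,2,5,2,3,4,1,2,3,0,1,2,5,4,5,2,1,0,3,2,1,4,3,2,5,2,3,4,1,2,3,0,1,2,5,6]))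
 (Tr.node (Tr.leaf [3,4,1,2,3,0,1,2,5,6,5,2,1,0,3,2,1,4,3,2,5,2,3,4,1,2,3,0,1,2,5,6,2,6,5,2,1,0,3,2,1,4,3,2,5,2,3,4,1,2,3,0,1,2,5,6,5,2,1,0,3,2,1,4,3,2,5,2,3,4,1,2,3,0,1,2,5,6,5,2,1,0,3,2,1,4,3,2,5,2,3,4,1,2,3,0,1,2,5,2,5,2,1,0,3,2,1,4,3,2,5,2,3,4,1,2,3,0,1,2,5,6,5,2,1,0,3,2,1,4,3,2,5,2])
 (Tr.leaf [5,2,3,4,1,2,3,0,1,2,5,6,5,2,1,0,3,2,1,4,3,2,5,2,3,4,1,2,3,0,1,2,5,6,5,2,1,0,3,2,1,4,3,2,5,2,3,4,1,2,3,0,1,2,5,6,6,6,5,2,1,0,3,2,1,4,3,2,5,2,3,4,1,2,3,0,1,2,5,6,5,2,1,0,3,2,1,4,3,2,5,2,3,4,1,2,3,0,1,2,5,6,5,2,1,0,3,2,1,4,3,2,5,2,3,4,1,2,3,0,1,2,5,6,5,2,1,0,3,2,1,4,3,2]))))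
 (Tr.node (Tr.node (Tr.node (Tr.leaf [3,2,1,4,3,2,5,2,3,4,1,2,3,0,1,2,5,0,5,2,1,0,3,2,1,4,3,2,5,2,3,4,1,2,3,0,1,2,5,6,5,2,1,0,3,2,1,4,3,2,5,2,3,4,1,2,3,0,1,2,5,6,5,2,1,0,3,2,1,4,3,2,5,2,3,4,1,2,3,0,1,2,5,6,0,6,5,2,1,0,3,2,1,4,3,2,5,2,3,4,1,2,3,0,1,2,5,6,5,2,1,0,3,2,1,4,3,2,5,2,3,4,1,2,3,0,1,2,5,6,5,2,1,0])
 (Tr.leaf [1,0,3,2,1,4,3,2,5,2,3,4,1,2,3,0,1,2,5,6,5,2,1,0,3,2,1,4,3,2,5,2,3,4,1,2,3,0,1,2,5,4,5,2,1,0,3,2,1,4,3,2,5,2,3,4,1,2,3,0,1,2,5,6,5,2,1,0,3,2,1,4,3,2,5,2,3,4,1,2,3,0,1,2,5,6,5,2,1,0,3,2,1,4,3,2,5,2,3,4,1,2,3,0,1,2,5,6,4,6,5,2,1,0,3,2,1,4,3,2,5,2,3,4,1,2,3,0,1,2,5,6,5,2]))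
 (Tr.node (Tr.leaf [1,2,3,0,1,2,5,6,5,2,1,0,3,2,1,4,3,2,5,2,3,4,1,2,3,0,1,2,5,2,5,2,1,0,3,2,1,4,3,2,5,2,3,4,1,2,3,0,1,2,5,6,5,2,1,0,3,2,1,4,3,2,5,2,3,4,1,2,3,0,1,2,5,6,5,2,1,0,3,2,1,4,3,2,5,2,3,4,1,2,3,0,1,2,5,6,2,6,5,2,1,0,3,2,1,4,3,2,5,2,3,4,1,2,3,0,1,2,5,6,5,2,1,0,3,2,1,4,3,2,5,2,3,4])
 (Tr.leaf [3,4,1,2,3,0,1,2,5,6,5,2,1,0,3,2,1,4,3,2,5,2,3,4,1,2,3,0,1,2,5,6,5,2,1,0,3,2,1,4,3,2,5,2,3,4,1,2,3,0,1,2,5,6,5,2,1,0,3,2,1,4,3,2,5,2,3,4,1,2,3,0,1,2,5,6,5,2,1,0,3,2,1,4,3,2,5,2,3,4,1,2,3,0,1,2,5,6,5,2,1,0,3,2,1,4,3,2,5,2,3,4,1,2,3,0,1,2,5,6,6,6,5,2,1,0,3,2,1,4,3,2,5,2])))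
 (Tr.node (Tr.node (Tr.leaf [5,6,5,2,1,0,3,2,1,4,3,2,5,2,3,4,1,2,3,0,1,2,5,1,5,2,1,0,3,2,1,4,3,2,5,2,3,4,1,2,3,0,1,2,5,6,5,2,1,0,3,2,1,4,3,2,5,2,3,4,1,2,3,0,1,2,5,6,5,2,1,0,3,2,1,4,3,2,5,2,3,4,1,2,3,0,1,2,5,6,1,6,5,2,1,0,3,2,1,4,3,2,5,2,3,4,1,2,3,0,1,2,5,6,5,2,1,0,3,2,1,4,3,2,5,2,3,4,1,2,3,0,1,2])
 (Tr.leaf [1,2,5,6,5,2,1,0,3,2,1,4,3,2,5,2,3,4,1,2,3,0,1,2,5,6,5,2,1,0,3,2,1,4,3,2,5,2,3,4,1,2,3,0,1,2,5,5,5,2,1,0,3,2,1,4,3,2,5,2,3,4,1,2,3,0,1,2,5,6,5,2,1,0,3,2,1,4,3,2,5,2,3,4,1,2,3,0,1,2,5,6,5,2,1,0,3,2,1,4,3,2,5,2,3,4,1,2,3,0,1,2,5,6,5,6,5,2,1,0,3,2,1,4,3,2,5,2,3,4,1,2,3,0]))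
 (Tr.node (Tr.leaf [3,2,5,2,3,4,1,2,3,0,1,2,5,6,5,2,1,0,3,2,1,4,3,2,5,2,3,4,1,2,3,0,1,2,5,3,5,2,1,0,3,2,1,4,3,2,5,2,3,4,1,2,3,0,1,2,5,6,5,2,1,0,3,2,1,4,3,2,5,2,3,4,1,2,3,0,1,2,5,6,5,2,1,0,3,2,1,4,3,2,5,2,3,4,1,2,3,0,1,2,5,6,3,6,5,2,1,0,3,2,1,4,3,2,5,2,3,4,1,2,3,0,1,2,5,6,5,2,1,0,3,2,1,4])
 (Tr.leaf [6,6,6,5,2,1,0,3,2,1,4,3,2,5,2,3,4,1,2,3,0,1,2,5,6,5,2,1,0,3,2,1,4,3,2,5,2,3,4,1,2,3,0,1,2,5,6,5,2,1,0,3,2,1,4,3,2,5,2,3,4,1,2,3,0,1,2,5,6,5,2,1,0,3,2,1,4,3,2,5,2,3,4,1,2,3,0,1,2,5,6,5,2,1,0,3,2,1,4,3,2,5,2,3,4,1,2,3,0,1,2,5,6,5,2,1,0,3,2,1,4,3,2,5,2,3,4,1,2,3,0,1,2,5]))))))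
 (Tr.node (Tr.node (Tr.node (Tr.node (Tr.node (Tr.leaf [1,2,1,2,1,2])
 (Tr.leaf [3,4,1,2,3,0,1,2,5,6,5,2,1,0,3,2,1,4,3,2,5,2,3,4,1,2,3,0,1,2,5,6,5,2,1,0,3,2,1,4,3,2,5,2,3,4,1,2,3,0,1,2,5,6,3,6,5,2,1,0,3,2,1,4,3,2,5,2,3,4,1,2,3,0,1,2,5,6,5,2,1,0,3,2,1,4,3,2,5,2,3,4,1,2,3,0,1,2,5,6,5,2,1,0,3,2,1,4,3,2,5,2,3,4,1,2,3,0,1,2,5,3,5,2,1,0,3,2,1,4,3,2,5,2]))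
 (Tr.node (Tr.leaf [1,0,3,2,1,4,3,2,5,2,3,4,1,2,3,0,1,2,5,6,5,2,1,0,3,2,1,4,3,2,5,2,3,4,1,2,3,0,1,2,5,6,1,6,5,2,1,0,3,2,1,4,3,2,5,2,3,4,1,2,3,0,1,2,5,6,5,2,1,0,3,2,1,4,3,2,5,2,3,4,1,2,3,0,1,2,5,6,5,2,1,0,3,2,1,4,3,2,5,2,3,4,1,2,3,0,1,2,5,1,5,2,1,0,3,2,1,4,3,2,5,2,3,4,1,2,3,0,1,2,5,6,5,2])
 (Tr.leaf [5,2,1,0,3,2,1,4,3,2,5,2,3,4,1,2,3,0,1,2,5,6,5,2,1,0,3,2,1,4,3,2,5,2,3,4,1,2,3,0,1,2,5,6,5,2,1,0,3,2,1,4,3,2,5,2,3,4,1,2,3,0,1,2,5,6,5,6,5,2,1,0,3,2,1,4,3,2,5,2,3,4,1,2,3,0,1,2,5,6,5,2,1,0,3,2,1,4,3,2,5,2,3,4,1,2,3,0,1,2,5,6,5,2,1,0,3,2,1,4,3,2,5,2,3,4,1,2,3,0,1,2,5,5])))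
 (Tr.node (Tr.node (Tr.leaf [3,2,5,2,3,4,1,2,3,0,1,2,5,6,5,2,1,0,3,2,1,4,3,2,5,2,3,4,1,2,3,0,1,2,5,6,0,6,5,2,1,0,3,2,1,4,3,2,5,2,3,4,1,2,3,0,1,2,5,6,5,2,1,0,3,2,1,4,3,2,5,2,3,4,1,2,3,0,1,2,5,6,5,2,1,0,3,2,1,4,3,2,5,2,3,4,1,2,3,0,1,2,5,0,5,2,1,0,3,2,1,4,3,2,5,2,3,4,1,2,3,0,1,2,5,6,5,2,1,0,3,2,1,4])
 (Tr.leaf [1,4,3,2,5,2,3,4,1,2,3,0,1,2,5,6,5,2,1,0,3,2,1,4,3,2,5,2,3,4,1,2,3,0,1,2,5,6,5,2,1,0,3,2,1,4,3,2,5,2,3,4,1,2,3,0,1,2,5,6,4,6,5,2,1,0,3,2,1,4,3,2,5,2,3,4,1,2,3,0,1,2,5,6,5,2,1,0,3,2,1,4,3,2,5,2,3,4,1,2,3,0,1,2,5,6,5,2,1,0,3,2,1,4,3,2,5,2,3,4,1,2,3,0,1,2,5,4,5,2,1,0,3,2]))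
 (Tr.node (Tr.leaf [1,2,5,6,5,2,1,0,3,2,1,4,3,2,5,2,3,4,1,2,3,0,1,2,5,6,5,2,1,0,3,2,1,4,3,2,5,2,3,4,1,2,3,0,1,2,5,6,2,6,5,2,1,0,3,2,1,4,3,2,5,2,3,4,1,2,3,0,1,2,5,6,5,2,1,0,3,2,1,4,3,2,5,2,3,4,1,2,3,0,1,2,5,6,5,2,1,0,3,2,1,4,3,2,5,2,3,4,1,2,3,0,1,2,5,2,5,2,1,0,3,2,1,4,3,2,5,2,3,4,1,2,3,0])
 (Tr.leaf [3,0,1,2,5,6,5,2,1,0,3,2,1,4,3,2,5,2,3,4,1,2,3,0,1,2,5,6,5,2,1,0,3,2,1,4,3,2,5,2,3,4,1,2,3,0,1,2,5,6,5,2,1,0,3,2,1,4,3,2,5,2,3,4,1,2,3,0,1,2,5,6,6,6,5,2,1,0,3,2,1,4,3,2,5,2,3,4,1,2,3,0,1,2,5,6,5,2,1,0,3,2,1,4,3,2,5,2,3,4,1,2,3,0,1,2,5,6,5,2,1,0,3,2,1,4,3,2,5,2,3,4,1,2]))))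
 (Tr.node (Tr.node (Tr.node (Tr.leaf [5,2,3,4,1,2,3,0,1,2,5,6,5,2,1,0,3,2,1,4,3,2,5,2,3,4,1,2,3,0,1,2,5,0,5,2,1,0,3,2,1,4,3,2,5,2,3,4,1,2,3,0,1,2,5,6,5,2,1,0,3,2,1,4,3,2,5,2,3,4,1,2,3,0,1,2,5,6,5,2,1,0,3,2,1,4,3,2,5,2,3,4,1,2,3,0,1,2,5,6,0,6,5,2,1,0,3,2,1,4,3,2,5,2,3,4,1,2,3,0,1,2,5,6,5,2,1,0,3,2,1,4,3,2])
 (Tr.leaf [3,2,5,2,3,4,1,2,3,0,1,2,5,6,5,2,1,0,3,2,1,4,3,2,5,2,3,4,1,2,3,0,1,2,5,6,5,2,1,0,3,2,1,4,3,2,5,2,3,4,1,2,3,0,1,2,5,4,5,2,1,0,3,2,1,4,3,2,5,2,3,4,1,2,3,0,1,2,5,6,5,2,1,0,3,2,1,4,3,2,5,2,3,4,1,2,3,0,1,2,5,6,5,2,1,0,3,2,1,4,3,2,5,2,3,4,1,2,3,0,1,2,5,6,4,6,5,2,1,0,3,2,1,4]))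
 (Tr.node (Tr.leaf [5,6,5,2,1,0,3,2,1,4,3,2,5,2,3,4,1,2,3,0,1,2,5,6,5,2,1,0,3,2,1,4,3,2,5,2,3,4,1,2,3,0,1,2,5,2,5,2,1,0,3,2,1,4,3,2,5,2,3,4,1,2,3,0,1,2,5,6,5,2,1,0,3,2,1,4,3,2,5,2,3,4,1,2,3,0,1,2,5,6,5,2,1,0,3,2,1,4,3,2,5,2,3,4,1,2,3,0,1,2,5,6,2,6,5,2,1,0,3,2,1,4,3,2,5,2,3,4,1,2,3,0,1,2])
 (Tr.leaf [5,6,5,6,5,2,1,0,3,2,1,4,3,2,5,2,3,4,1,2,3,0,1,2,5,6,5,2,1,0,3,2,1,4,3,2,5,2,3,4,1,2,3,0,1,2,5,6,5,2,1,0,3,2,1,4,3,2,5,2,3,4,1,2,3,0,1,2,5,5,5,2,1,0,3,2,1,4,3,2,5,2,3,4,1,2,3,0,1,2,5,6,5,2,1,0,3,2,1,4,3,2,5,2,3,4,1,2,3,0,1,2,5,6,5,2,1,0,3,2,1,4,3,2,5,2,3,4,1,2,3,0,1,2])))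
 (Tr.node (Tr.node (Tr.leaf [3,2,1,4,3,2,5,2,3,4,1,2,3,0,1,2,5,6,5,2,1,0,3,2,1,4,3,2,5,2,3,4,1,2,3,0,1,2,5,1,5,2,1,0,3,2,1,4,3,2,5,2,3,4,1,2,3,0,1,2,5,6,5,2,1,0,3,2,1,4,3,2,5,2,3,4,1,2,3,0,1,2,5,6,5,2,1,0,3,2,1,4,3,2,5,2,3,4,1,2,3,0,1,2,5,6,1,6,5,2,1,0,3,2,1,4,3,2,5,2,3,4,1,2,3,0,1,2,5,6,5,2,1,0])
 (Tr.leaf [1,0,3,2,1,4,3,2,5,2,3,4,1,2,3,0,1,2,5,6,5,2,1,0,3,2,1,4,3,2,5,2,3,4,1,2,3,0,1,2,5,6,5,2,1,0,3,2,1,4,3,2,5,2,3,4,1,2,3,0,1,2,5,5,5,2,1,0,3,2,1,4,3,2,5,2,3,4,1,2,3,0,1,2,5,6,5,2,1,0,3,2,1,4,3,2,5,2,3,4,1,2,3,0,1,2,5,6,5,2,1,0,3,2,1,4,3,2,5,2,3,4,1,2,3,0,1,2,5,6,5,6,5,2]))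
 (Tr.node (Tr.leaf [1,2,3,0,1,2,5,6,5,2,1,0,3,2,1,4,3,2,5,2,3,4,1,2,3,0,1,2,5,6,5,2,1,0,3,2,1,4,3,2,5,2,3,4,1,2,3,0,1,2,5,3,5,2,1,0,3,2,1,4,3,2,5,2,3,4,1,2,3,0,1,2,5,6,5,2,1,0,3,2,1,4,3,2,5,2,3,4,1,2,3,0,1,2,5,6,5,2,1,0,3,2,1,4,3,2,5,2,3,4,1,2,3,0,1,2,5,6,3,6,5,2,1,0,3,2,1,4,3,2,5,2,3,4])
 (Tr.leaf [1,2,3,0,1,2,5,6,6,6,5,2,1,0,3,2,1,4,3,2,5,2,3,4,1,2,3,0,1,2,5,6,5,2,1,0,3,2,1,4,3,2,5,2,3,4,1,2,3,0,1,2,5,6,5,2,1,0,3,2,1,4,3,2,5,2,3,4,1,2,3,0,1,2,5,6,5,2,1,0,3,2,1,4,3,2,5,2,3,4,1,2,3,0,1,2,5,6,5,2,1,0,3,2,1,4,3,2,5,2,3,4,1,2,3,0,1,2,5,6,5,2,1,0,3,2,1,4,3,2,5,2,3,4])))))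
 (Tr.node (Tr.node (Tr.node (Tr.node (Tr.leaf [5,2,1,0,3,2,1,4,3,2,5,2,3,4,1,2,3,0,1,2,5,6,5,2,1,0,3,2,1,4,3,2,5,2,3,4,1,2,3,0,1,2,5,6,5,2,1,0,3,2,1,4,3,2,5,2,3,4,1,2,3,0,1,2,5,0,5,2,1,0,3,2,1,4,3,2,5,2,3,4,1,2,3,0,1,2,5,6,5,2,1,0,3,2,1,4,3,2,5,2,3,4,1,2,3,0,1,2,5,6,5,2,1,0,3,2,1,4,3,2,5,2,3,4,1,2,3,0,1,2,5,6,0,6])
 (Tr.leaf [5,2,1,0,3,2,1,4,3,2,5,2,3,4,1,2,3,0,1,2,5,6,3,6,5,2,1,0,3,2,1,4,3,2,5,2,3,4,1,2,3,0,1,2,5,6,5,2,1,0,3,2,1,4,3,2,5,2,3,4,1,2,3,0,1,2,5,6,5,2,1,0,3,2,1,4,3,2,5,2,3,4,1,2,3,0,1,2,5,3,5,2,1,0,3,2,1,4,3,2,5,2,3,4,1,2,3,0,1,2,5,6,5,2,1,0,3,2,1,4,3,2,5,2,3,4,1,2,3,0,1,2,5,6]))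
 (Tr.node (Tr.leaf [3,4,1,2,3,0,1,2,5,6,1,6,5,2,1,0,3,2,1,4,3,2,5,2,3,4,1,2,3,0,1,2,5,6,5,2,1,0,3,2,1,4,3,2,5,2,3,4,1,2,3,0,1,2,5,6,5,2,1,0,3,2,1,4,3,2,5,2,3,4,1,2,3,0,1,2,5,1,5,2,1,0,3,2,1,4,3,2,5,2,3,4,1,2,3,0,1,2,5,6,5,2,1,0,3,2,1,4,3,2,5,2,3,4,1,2,3,0,1,2,5,6,5,2,1,0,3,2,1,4,3,2,5,2])
 (Tr.leaf [5,2,3,4,1,2,3,0,1,2,5,6,5,2,1,0,3,2,1,4,3,2,5,2,3,4,1,2,3,0,1,2,5,6,5,6,5,2,1,0,3,2,1,4,3,2,5,2,3,4,1,2,3,0,1,2,5,6,5,2,1,0,3,2,1,4,3,2,5,2,3,4,1,2,3,0,1,2,5,6,5,2,1,0,3,2,1,4,3,2,5,2,3,4,1,2,3,0,1,2,5,5,5,2,1,0,3,2,1,4,3,2,5,2,3,4,1,2,3,0,1,2,5,6,5,2,1,0,3,2,1,4,3,2])))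
 (Tr.node (Tr.node (Tr.leaf [1,2,5,6,0,6,5,2,1,0,3,2,1,4,3,2,5,2,3,4,1,2,3,0,1,2,5,6,5,2,1,0,3,2,1,4,3,2,5,2,3,4,1,2,3,0,1,2,5,6,5,2,1,0,3,2,1,4,3,2,5,2,3,4,1,2,3,0,1,2,5,0,5,2,1,0,3,2,1,4,3,2,5,2,3,4,1,2,3,0,1,2,5,6,5,2,1,0,3,2,1,4,3,2,5,2,3,4,1,2,3,0,1,2,5,6,5,2,1,0,3,2,1,4,3,2,5,2,3,4,1,2,3,0])
 (Tr.leaf [3,0,1,2,5,6,5,2,1,0,3,2,1,4,3,2,5,2,3,4,1,2,3,0,1,2,5,6,4,6,5,2,1,0,3,2,1,4,3,2,5,2,3,4,1,2,3,0,1,2,5,6,5,2,1,0,3,2,1,4,3,2,5,2,3,4,1,2,3,0,1,2,5,6,5,2,1,0,3,2,1,4,3,2,5,2,3,4,1,2,3,0,1,2,5,4,5,2,1,0,3,2,1,4,3,2,5,2,3,4,1,2,3,0,1,2,5,6,5,2,1,0,3,2,1,4,3,2,5,2,3,4,1,2]))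
 (Tr.node (Tr.leaf [1,4,3,2,5,2,3,4,1,2,3,0,1,2,5,6,2,6,5,2,1,0,3,2,1,4,3,2,5,2,3,4,1,2,3,0,1,2,5,6,5,2,1,0,3,2,1,4,3,2,5,2,3,4,1,2,3,0,1,2,5,6,5,2,1,0,3,2,1,4,3,2,5,2,3,4,1,2,3,0,1,2,5,2,5,2,1,0,3,2,1,4,3,2,5,2,3,4,1,2,3,0,1,2,5,6,5,2,1,0,3,2,1,4,3,2,5,2,3,4,1,2,3,0,1,2,5,6,5,2,1,0,3,2])
 (Tr.leaf [3,2,1,4,3,2,5,2,3,4,1,2,3,0,1,2,5,6,5,2,1,0,3,2,1,4,3,2,5,2,3,4,1,2,3,0,1,2,5,6,6,6,5,2,1,0,3,2,1,4,3,2,5,2,3,4,1,2,3,0,1,2,5,6,5,2,1,0,3,2,1,4,3,2,5,2,3,4,1,2,3,0,1,2,5,6,5,2,1,0,3,2,1,4,3,2,5,2,3,4,1,2,3,0,1,2,5,6,5,2,1,0,3,2,1,4,3,2,5,2,3,4,1,2,3,0,1,2,5,6,5,2,1,0]))))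
 (Tr.node (Tr.node (Tr.node (Tr.leaf [5,0,5,2,1,0,3,2,1,4,3,2,5,2,3,4,1,2,3,0,1,2,5,6,5,2,1,0,3,2,1,4,3,2,5,2,3,4,1,2,3,0,1,2,5,6,5,2,1,0,3,2,1,4,3,2,5,2,3,4,1,2,3,0,1,2,5,6,0,6,5,2,1,0,3,2,1,4,3,2,5,2,3,4,1,2,3,0,1,2,5,6,5,2,1,0,3,2,1,4,3,2,5,2,3,4,1,2,3,0,1,2,5,6,5,2,1,0,3,2,1,4,3,2,5,2,3,4,1,2,3,0,1,2])
 (Tr.leaf [1,2,5,6,5,2,1,0,3,2,1,4,3,2,5,2,3,4,1,2,3,0,1,2,5,4,5,2,1,0,3,2,1,4,3,2,5,2,3,4,1,2,3,0,1,2,5,6,5,2,1,0,3,2,1,4,3,2,5,2,3,4,1,2,3,0,1,2,5,6,5,2,1,0,3,2,1,4,3,2,5,2,3,4,1,2,3,0,1,2,5,6,4,6,5,2,1,0,3,2,1,4,3,2,5,2,3,4,1,2,3,0,1,2,5,6,5,2,1,0,3,2,1,4,3,2,5,2,3,4,1,2,3,0]))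
 (Tr.node (Tr.leaf [3,2,5,2,3,4,1,2,3,0,1,2,5,2,5,2,1,0,3,2,1,4,3,2,5,2,3,4,1,2,3,0,1,2,5,6,5,2,1,0,3,2,1,4,3,2,5,2,3,4,1,2,3,0,1,2,5,6,5,2,1,0,3,2,1,4,3,2,5,2,3,4,1,2,3,0,1,2,5,6,2,6,5,2,1,0,3,2,1,4,3,2,5,2,3,4,1,2,3,0,1,2,5,6,5,2,1,0,3,2,1,4,3,2,5,2,3,4,1,2,3,0,1,2,5,6,5,2,1,0,3,2,1,4])
 (Tr.leaf [1,4,3,2,5,2,3,4,1,2,3,0,1,2,5,6,5,2,1,0,3,2,1,4,3,2,5,2,3,4,1,2,3,0,1,2,5,6,5,2,1,0,3,2,1,4,3,2,5,2,3,4,1,2,3,0,1,2,5,6,5,2,1,0,3,2,1,4,3,2,5,2,3,4,1,2,3,0,1,2,5,6,5,2,1,0,3,2,1,4,3,2,5,2,3,4,1,2,3,0,1,2,5,6,6,6,5,2,1,0,3,2,1,4,3,2,5,2,3,4,1,2,3,0,1,2,5,6,5,2,1,0,3,2])))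
 (Tr.node (Tr.node (Tr.leaf [1,2,3,0,1,2,5,1,5,2,1,0,3,2,1,4,3,2,5,2,3,4,1,2,3,0,1,2,5,6,5,2,1,0,3,2,1,4,3,2,5,2,3,4,1,2,3,0,1,2,5,6,5,2,1,0,3,2,1,4,3,2,5,2,3,4,1,2,3,0,1,2,5,6,1,6,5,2,1,0,3,2,1,4,3,2,5,2,3,4,1,2,3,0,1,2,5,6,5,2,1,0,3,2,1,4,3,2,5,2,3,4,1,2,3,0,1,2,5,6,5,2,1,0,3,2,1,4,3,2,5,2,3,4])
 (Tr.leaf [3,4,1,2,3,0,1,2,5,6,5,2,1,0,3,2,1,4,3,2,5,2,3,4,1,2,3,0,1,2,5,5,5,2,1,0,3,2,1,4,3,2,5,2,3,4,1,2,3,0,1,2,5,6,5,2,1,0,3,2,1,4,3,2,5,2,3,4,1,2,3,0,1,2,5,6,5,2,1,0,3,2,1,4,3,2,5,2,3,4,1,2,3,0,1,2,5,6,5,6,5,2,1,0,3,2,1,4,3,2,5,2,3,4,1,2,3,0,1,2,5,6,5,2,1,0,3,2,1,4,3,2,5,2]))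
 (Tr.node (Tr.leaf [1,0,3,2,1,4,3,2,5,2,3,4,1,2,3,0,1,2,5,3,5,2,1,0,3,2,1,4,3,2,5,2,3,4,1,2,3,0,1,2,5,6,5,2,1,0,3,2,1,4,3,2,5,2,3,4,1,2,3,0,1,2,5,6,5,2,1,0,3,2,1,4,3,2,5,2,3,4,1,2,3,0,1,2,5,6,3,6,5,2,1,0,3,2,1,4,3,2,5,2,3,4,1,2,3,0,1,2,5,6,5,2,1,0,3,2,1,4,3,2,5,2,3,4,1,2,3,0,1,2,5,6,5,2])
 (Tr.leaf [6,6,6,5,2,1,0,3,2,1,4,3,2,5,2,3,4,1,2,3,0,1,2,5,6,5,2,1,0,3,2,1,4,3,2,5,2,3,4,1,2,3,0,1,2,5,6,5,2,1,0,3,2,1,4,3,2,5,2,3,4,1,2,3,0,1,2,5,6,5,2,1,0,3,2,1,4,3,2,5,2,3,4,1,2,3,0,1,2,5,6,5,2,1,0,3,2,1,4,3,2,5,2,3,4,1,2,3,0,1,2,5,6,5,2,1,0,3,2,1,4,3,2,5,2,3,4,1,2,3,0,1,2,5])))))))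
 (Tr.node (Tr.node (Tr.node (Tr.node (Tr.node (Tr.node (Tr.leaf [0,3,0,3])
 (Tr.leaf [3,2,1,4,3,2,5,2,3,4,1,2,3,0,1,2,5,6,5,2,1,0,3,2,1,4,3,2,5,2,3,4,1,2,3,0,1,2,5,6,5,2,1,0,3,2,1,4,3,2,5,2,3,4,1,2,3,0,1,2,5,6,3,6,5,2,1,0,3,2,1,4,3,2,5,2,3,4,1,2,3,0,1,2,5,6,5,2,1,0,3,2,1,4,3,2,5,2,3,4,1,2,3,0,1,2,5,6,5,2,1,0,3,2,1,4,3,2,5,2,3,4,1,2,3,0,1,2,5,3,5,2,1,0]))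
 (Tr.node (Tr.leaf [3,0,1,2,5,6,5,2,1,0,3,2,1,4,3,2,5,2,3,4,1,2,3,0,1,2,5,6,5,2,1,0,3,2,1,4,3,2,5,2,3,4,1,2,3,0,1,2,5,6,1,6,5,2,1,0,3,2,1,4,3,2,5,2,3,4,1,2,3,0,1,2,5,6,5,2,1,0,3,2,1,4,3,2,5,2,3,4,1,2,3,0,1,2,5,6,5,2,1,0,3,2,1,4,3,2,5,2,3,4,1,2,3,0,1,2,5,1,5,2,1,0,3,2,1,4,3,2,5,2,3,4,1,2])
 (Tr.leaf [1,2,3,0,1,2,5,5,5,2,1,0,3,2,1,4,3,2,5,2,3,4,1,2,3,0,1,2,5,6,5,2,1,0,3,2,1,4,3,2,5,2,3,4,1,2,3,0,1,2,5,6,5,2,1,0,3,2,1,4,3,2,5,2,3,4,1,2,3,0,1,2,5,6,5,6,5,2,1,0,3,2,1,4,3,2,5,2,3,4,1,2,3,0,1,2,5,6,5,2,1,0,3,2,1,4,3,2,5,2,3,4,1,2,3,0,1,2,5,6,5,2,1,0,3,2,1,4,3,2,5,2,3,4])))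
 (Tr.node (Tr.node (Tr.leaf [5,2,1,0,3,2,1,4,3,2,5,2,3,4,1,2,3,0,1,2,5,6,5,2,1,0,3,2,1,4,3,2,5,2,3,4,1,2,3,0,1,2,5,6,0,6,5,2,1,0,3,2,1,4,3,2,5,2,3,4,1,2,3,0,1,2,5,6,5,2,1,0,3,2,1,4,3,2,5,2,3,4,1,2,3,0,1,2,5,6,5,2,1,0,3,2,1,4,3,2,5,2,3,4,1,2,3,0,1,2,5,0,5,2,1,0,3,2,1,4,3,2,5,2,3,4,1,2,3,0,1,2,5,6])
 (Tr.leaf [5,4,5,2,1,0,3,2,1,4,3,2,5,2,3,4,1,2,3,0,1,2,5,6,5,2,1,0,3,2,1,4,3,2,5,2,3,4,1,2,3,0,1,2,5,6,5,2,1,0,3,2,1,4,3,2,5,2,3,4,1,2,3,0,1,2,5,6,4,6,5,2,1,0,3,2,1,4,3,2,5,2,3,4,1,2,3,0,1,2,5,6,5,2,1,0,3,2,1,4,3,2,5,2,3,4,1,2,3,0,1,2,5,6,5,2,1,0,3,2,1,4,3,2,5,2,3,4,1,2,3,0,1,2]))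
 (Tr.node (Tr.leaf [5,2,3,4,1,2,3,0,1,2,5,6,5,2,1,0,3,2,1,4,3,2,5,2,3,4,1,2,3,0,1,2,5,6,5,2,1,0,3,2,1,4,3,2,5,2,3,4,1,2,3,0,1,2,5,6,2,6,5,2,1,0,3,2,1,4,3,2,5,2,3,4,1,2,3,0,1,2,5,6,5,2,1,0,3,2,1,4,3,2,5,2,3,4,1,2,3,0,1,2,5,6,5,2,1,0,3,2,1,4,3,2,5,2,3,4,1,2,3,0,1,2,5,2,5,2,1,0,3,2,1,4,3,2])
 (Tr.leaf [3,2,5,2,3,4,1,2,3,0,1,2,5,6,5,2,1,0,3,2,1,4,3,2,5,2,3,4,1,2,3,0,1,2,5,6,5,2,1,0,3,2,1,4,3,2,5,2,3,4,1,2,3,0,1,2,5,6,5,2,1,0,3,2,1,4,3,2,5,2,3,4,1,2,3,0,1,2,5,6,6,6,5,2,1,0,3,2,1,4,3,2,5,2,3,4,1,2,3,0,1,2,5,6,5,2,1,0,3,2,1,4,3,2,5,2,3,4,1,2,3,0,1,2,5,6,5,2,1,0,3,2,1,4]))))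
 (Tr.node (Tr.node (Tr.node (Tr.leaf [1,0,3,2,1,4,3,2,5,2,3,4,1,2,3,0,1,2,5,6,5,2,1,0,3,2,1,4,3,2,5,2,3,4,1,2,3,0,1,2,5,0,5,2,1,0,3,2,1,4,3,2,5,2,3,4,1,2,3,0,1,2,5,6,5,2,1,0,3,2,1,4,3,2,5,2,3,4,1,2,3,0,1,2,5,6,5,2,1,0,3,2,1,4,3,2,5,2,3,4,1,2,3,0,1,2,5,6,0,6,5,2,1,0,3,2,1,4,3,2,5,2,3,4,1,2,3,0,1,2,5,6,5,2])
 (Tr.leaf [5,2,1,0,3,2,1,4,3,2,5,2,3,4,1,2,3,0,1,2,5,6,5,2,1,0,3,2,1,4,3,2,5,2,3,4,1,2,3,0,1,2,5,6,5,2,1,0,3,2,1,4,3,2,5,2,3,4,1,2,3,0,1,2,5,4,5,2,1,0,3,2,1,4,3,2,5,2,3,4,1,2,3,0,1,2,5,6,5,2,1,0,3,2,1,4,3,2,5,2,3,4,1,2,3,0,1,2,5,6,5,2,1,0,3,2,1,4,3,2,5,2,3,4,1,2,3,0,1,2,5,6,4,6]))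
 (Tr.node (Tr.leaf [3,4,1,2,3,0,1,2,5,6,5,2,1,0,3,2,1,4,3,2,5,2,3,4,1,2,3,0,1,2,5,6,5,2,1,0,3,2,1,4,3,2,5,2,3,4,1,2,3,0,1,2,5,2,5,2,1,0,3,2,1,4,3,2,5,2,3,4,1,2,3,0,1,2,5,6,5,2,1,0,3,2,1,4,3,2,5,2,3,4,1,2,3,0,1,2,5,6,5,2,1,0,3,2,1,4,3,2,5,2,3,4,1,2,3,0,1,2,5,6,2,6,5,2,1,0,3,2,1,4,3,2,5,2])
 (Tr.leaf [3,4,1,2,3,0,1,2,5,6,5,6,5,2,1,0,3,2,1,4,3,2,5,2,3,4,1,2,3,0,1,2,5,6,5,2,1,0,3,2,1,4,3,2,5,2,3,4,1,2,3,0,1,2,5,6,5,2,1,0,3,2,1,4,3,2,5,2,3,4,1,2,3,0,1,2,5,5,5,2,1,0,3,2,1,4,3,2,5,2,3,4,1,2,3,0,1,2,5,6,5,2,1,0,3,2,1,4,3,2,5,2,3,4,1,2,3,0,1,2,5,6,5,2,1,0,3,2,1,4,3,2,5,2])))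
 (Tr.node (Tr.node (Tr.leaf [1,2,5,6,5,2,1,0,3,2,1,4,3,2,5,2,3,4,1,2,3,0,1,2,5,6,5,2,1,0,3,2,1,4,3,2,5,2,3,4,1,2,3,0,1,2,5,1,5,2,1,0,3,2,1,4,3,2,5,2,3,4,1,2,3,0,1,2,5,6,5,2,1,0,3,2,1,4,3,2,5,2,3,4,1,2,3,0,1,2,5,6,5,2,1,0,3,2,1,4,3,2,5,2,3,4,1,2,3,0,1,2,5,6,1,6,5,2,1,0,3,2,1,4,3,2,5,2,3,4,1,2,3,0])
 (Tr.leaf [1,2,5,6,4,6,5,2,1,0,3,2,1,4,3,2,5,2,3,4,1,2,3,0,1,2,5,6,5,2,1,0,3,2,1,4,3,2,5,2,3,4,1,2,3,0,1,2,5,6,5,2,1,0,3,2,1,4,3,2,5,2,3,4,1,2,3,0,1,2,5,4,5,2,1,0,3,2,1,4,3,2,5,2,3,4,1,2,3,0,1,2,5,6,5,2,1,0,3,2,1,4,3,2,5,2,3,4,1,2,3,0,1,2,5,6,5,2,1,0,3,2,1,4,3,2,5,2,3,4,1,2,3,0]))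
 (Tr.node (Tr.leaf [1,4,3,2,5,2,3,4,1,2,3,0,1,2,5,6,5,2,1,0,3,2,1,4,3,2,5,2,3,4,1,2,3,0,1,2,5,6,5,2,1,0,3,2,1,4,3,2,5,2,3,4,1,2,3,0,1,2,5,3,5,2,1,0,3,2,1,4,3,2,5,2,3,4,1,2,3,0,1,2,5,6,5,2,1,0,3,2,1,4,3,2,5,2,3,4,1,2,3,0,1,2,5,6,5,2,1,0,3,2,1,4,3,2,5,2,3,4,1,2,3,0,1,2,5,6,3,6,5,2,1,0,3,2])
 (Tr.leaf [1,4,3,2,5,2,3,4,1,2,3,0,1,2,5,6,6,6,5,2,1,0,3,2,1,4,3,2,5,2,3,4,1,2,3,0,1,2,5,6,5,2,1,0,3,2,1,4,3,2,5,2,3,4,1,2,3,0,1,2,5,6,5,2,1,0,3,2,1,4,3,2,5,2,3,4,1,2,3,0,1,2,5,6,5,2,1,0,3,2,1,4,3,2,5,2,3,4,1,2,3,0,1,2,5,6,5,2,1,0,3,2,1,4,3,2,5,2,3,4,1,2,3,0,1,2,5,6,5,2,1,0,3,2])))))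
 (Tr.node (Tr.node (Tr.node (Tr.node (Tr.leaf [4,5,4,5])
 (Tr.leaf [1,2,3,0,1,2,5,6,5,2,1,0,3,2,1,4,3,2,5,2,3,4,1,2,3,0,1,2,5,6,3,6,5,2,1,0,3,2,1,4,3,2,5,2,3,4,1,2,3,0,1,2,5,6,5,2,1,0,3,2,1,4,3,2,5,2,3,4,1,2,3,0,1,2,5,6,5,2,1,0,3,2,1,4,3,2,5,2,3,4,1,2,3,0,1,2,5,3,5,2,1,0,3,2,1,4,3,2,5,2,3,4,1,2,3,0,1,2,5,6,5,2,1,0,3,2,1,4,3,2,5,2,3,4]))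
 (Tr.node (Tr.leaf [3,2,1,4,3,2,5,2,3,4,1,2,3,0,1,2,5,6,1,6,5,2,1,0,3,2,1,4,3,2,5,2,3,4,1,2,3,0,1,2,5,6,5,2,1,0,3,2,1,4,3,2,5,2,3,4,1,2,3,0,1,2,5,6,5,2,1,0,3,2,1,4,3,2,5,2,3,4,1,2,3,0,1,2,5,1,5,2,1,0,3,2,1,4,3,2,5,2,3,4,1,2,3,0,1,2,5,6,5,2,1,0,3,2,1,4,3,2,5,2,3,4,1,2,3,0,1,2,5,6,5,2,1,0])
 (Tr.leaf [1,0,3,2,1,4,3,2,5,2,3,4,1,2,3,0,1,2,5,6,5,2,1,0,3,2,1,4,3,2,5,2,3,4,1,2,3,0,1,2,5,6,5,6,5,2,1,0,3,2,1,4,3,2,5,2,3,4,1,2,3,0,1,2,5,6,5,2,1,0,3,2,1,4,3,2,5,2,3,4,1,2,3,0,1,2,5,6,5,2,1,0,3,2,1,4,3,2,5,2,3,4,1,2,3,0,1,2,5,5,5,2,1,0,3,2,1,4,3,2,5,2,3,4,1,2,3,0,1,2,5,6,5,2])))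
 (Tr.node (Tr.node (Tr.leaf [5,2,3,4,1,2,3,0,1,2,5,6,0,6,5,2,1,0,3,2,1,4,3,2,5,2,3,4,1,2,3,0,1,2,5,6,5,2,1,0,3,2,1,4,3,2,5,2,3,4,1,2,3,0,1,2,5,6,5,2,1,0,3,2,1,4,3,2,5,2,3,4,1,2,3,0,1,2,5,0,5,2,1,0,3,2,1,4,3,2,5,2,3,4,1,2,3,0,1,2,5,6,5,2,1,0,3,2,1,4,3,2,5,2,3,4,1,2,3,0,1,2,5,6,5,2,1,0,3,2,1,4,3,2])
 (Tr.leaf [3,2,5,2,3,4,1,2,3,0,1,2,5,6,5,2,1,0,3,2,1,4,3,2,5,2,3,4,1,2,3,0,1,2,5,6,4,6,5,2,1,0,3,2,1,4,3,2,5,2,3,4,1,2,3,0,1,2,5,6,5,2,1,0,3,2,1,4,3,2,5,2,3,4,1,2,3,0,1,2,5,6,5,2,1,0,3,2,1,4,3,2,5,2,3,4,1,2,3,0,1,2,5,4,5,2,1,0,3,2,1,4,3,2,5,2,3,4,1,2,3,0,1,2,5,6,5,2,1,0,3,2,1,4]))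
 (Tr.node (Tr.leaf [5,6,5,2,1,0,3,2,1,4,3,2,5,2,3,4,1,2,3,0,1,2,5,6,2,6,5,2,1,0,3,2,1,4,3,2,5,2,3,4,1,2,3,0,1,2,5,6,5,2,1,0,3,2,1,4,3,2,5,2,3,4,1,2,3,0,1,2,5,6,5,2,1,0,3,2,1,4,3,2,5,2,3,4,1,2,3,0,1,2,5,2,5,2,1,0,3,2,1,4,3,2,5,2,3,4,1,2,3,0,1,2,5,6,5,2,1,0,3,2,1,4,3,2,5,2,3,4,1,2,3,0,1,2])
 (Tr.leaf [1,2,5,6,5,2,1,0,3,2,1,4,3,2,5,2,3,4,1,2,3,0,1,2,5,6,5,2,1,0,3,2,1,4,3,2,5,2,3,4,1,2,3,0,1,2,5,6,6,6,5,2,1,0,3,2,1,4,3,2,5,2,3,4,1,2,3,0,1,2,5,6,5,2,1,0,3,2,1,4,3,2,5,2,3,4,1,2,3,0,1,2,5,6,5,2,1,0,3,2,1,4,3,2,5,2,3,4,1,2,3,0,1,2,5,6,5,2,1,0,3,2,1,4,3,2,5,2,3,4,1,2,3,0]))))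
 (Tr.node (Tr.node (Tr.node (Tr.leaf [3,4,1,2,3,0,1,2,5,0,5,2,1,0,3,2,1,4,3,2,5,2,3,4,1,2,3,0,1,2,5,6,5,2,1,0,3,2,1,4,3,2,5,2,3,4,1,2,3,0,1,2,5,6,5,2,1,0,3,2,1,4,3,2,5,2,3,4,1,2,3,0,1,2,5,6,0,6,5,2,1,0,3,2,1,4,3,2,5,2,3,4,1,2,3,0,1,2,5,6,5,2,1,0,3,2,1,4,3,2,5,2,3,4,1,2,3,0,1,2,5,6,5,2,1,0,3,2,1,4,3,2,5,2])
 (Tr.leaf [5,2,3,4,1,2,3,0,1,2,5,6,5,2,1,0,3,2,1,4,3,2,5,2,3,4,1,2,3,0,1,2,5,4,5,2,1,0,3,2,1,4,3,2,5,2,3,4,1,2,3,0,1,2,5,6,5,2,1,0,3,2,1,4,3,2,5,2,3,4,1,2,3,0,1,2,5,6,5,2,1,0,3,2,1,4,3,2,5,2,3,4,1,2,3,0,1,2,5,6,4,6,5,2,1,0,3,2,1,4,3,2,5,2,3,4,1,2,3,0,1,2,5,6,5,2,1,0,3,2,1,4,3,2]))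
 (Tr.node (Tr.leaf [5,2,1,0,3,2,1,4,3,2,5,2,3,4,1,2,3,0,1,2,5,2,5,2,1,0,3,2,1,4,3,2,5,2,3,4,1,2,3,0,1,2,5,6,5,2,1,0,3,2,1,4,3,2,5,2,3,4,1,2,3,0,1,2,5,6,5,2,1,0,3,2,1,4,3,2,5,2,3,4,1,2,3,0,1,2,5,6,2,6,5,2,1,0,3,2,1,4,3,2,5,2,3,4,1,2,3,0,1,2,5,6,5,2,1,0,3,2,1,4,3,2,5,2,3,4,1,2,3,0,1,2,5,6])
 (Tr.leaf [5,6,5,2,1,0,3,2,1,4,3,2,5,2,3,4,1,2,3,0,1,2,5,6,5,2,1,0,3,2,1,4,3,2,5,2,3,4,1,2,3,0,1,2,5,6,5,2,1,0,3,2,1,4,3,2,5,2,3,4,1,2,3,0,1,2,5,6,5,2,1,0,3,2,1,4,3,2,5,2,3,4,1,2,3,0,1,2,5,6,5,2,1,0,3,2,1,4,3,2,5,2,3,4,1,2,3,0,1,2,5,6,6,6,5,2,1,0,3,2,1,4,3,2,5,2,3,4,1,2,3,0,1,2])))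
 (Tr.node (Tr.node (Tr.leaf [1,4,3,2,5,2,3,4,1,2,3,0,1,2,5,1,5,2,1,0,3,2,1,4,3,2,5,2,3,4,1,2,3,0,1,2,5,6,5,2,1,0,3,2,1,4,3,2,5,2,3,4,1,2,3,0,1,2,5,6,5,2,1,0,3,2,1,4,3,2,5,2,3,4,1,2,3,0,1,2,5,6,1,6,5,2,1,0,3,2,1,4,3,2,5,2,3,4,1,2,3,0,1,2,5,6,5,2,1,0,3,2,1,4,3,2,5,2,3,4,1,2,3,0,1,2,5,6,5,2,1,0,3,2])
 (Tr.leaf [3,2,1,4,3,2,5,2,3,4,1,2,3,0,1,2,5,6,5,2,1,0,3,2,1,4,3,2,5,2,3,4,1,2,3,0,1,2,5,5,5,2,1,0,3,2,1,4,3,2,5,2,3,4,1,2,3,0,1,2,5,6,5,2,1,0,3,2,1,4,3,2,5,2,3,4,1,2,3,0,1,2,5,6,5,2,1,0,3,2,1,4,3,2,5,2,3,4,1,2,3,0,1,2,5,6,5,6,5,2,1,0,3,2,1,4,3,2,5,2,3,4,1,2,3,0,1,2,5,6,5,2,1,0]))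
 (Tr.node (Tr.leaf [3,0,1,2,5,6,5,2,1,0,3,2,1,4,3,2,5,2,3,4,1,2,3,0,1,2,5,3,5,2,1,0,3,2,1,4,3,2,5,2,3,4,1,2,3,0,1,2,5,6,5,2,1,0,3,2,1,4,3,2,5,2,3,4,1,2,3,0,1,2,5,6,5,2,1,0,3,2,1,4,3,2,5,2,3,4,1,2,3,0,1,2,5,6,3,6,5,2,1,0,3,2,1,4,3,2,5,2,3,4,1,2,3,0,1,2,5,6,5,2,1,0,3,2,1,4,3,2,5,2,3,4,1,2])
 (Tr.leaf [6,6,6,5,2,1,0,3,2,1,4,3,2,5,2,3,4,1,2,3,0,1,2,5,6,5,2,1,0,3,2,1,4,3,2,5,2,3,4,1,2,3,0,1,2,5,6,5,2,1,0,3,2,1,4,3,2,5,2,3,4,1,2,3,0,1,2,5,6,5,2,1,0,3,2,1,4,3,2,5,2,3,4,1,2,3,0,1,2,5,6,5,2,1,0,3,2,1,4,3,2,5,2,3,4,1,2,3,0,1,2,5,6,5,2,1,0,3,2,1,4,3,2,5,2,3,4,1,2,3,0,1,2,5]))))))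
 (Tr.node (Tr.node (Tr.node (Tr.node (Tr.node (Tr.leaf [1,6,1,6])
 (Tr.leaf [5,6,5,2,1,0,3,2,1,4,3,2,5,2,3,4,1,2,3,0,1,2,5,6,5,2,1,0,3,2,1,4,3,2,5,2,3,4,1,2,3,0,1,2,5,6,3,6,5,2,1,0,3,2,1,4,3,2,5,2,3,4,1,2,3,0,1,2,5,6,5,2,1,0,3,2,1,4,3,2,5,2,3,4,1,2,3,0,1,2,5,6,5,2,1,0,3,2,1,4,3,2,5,2,3,4,1,2,3,0,1,2,5,3,5,2,1,0,3,2,1,4,3,2,5,2,3,4,1,2,3,0,1,2]))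
 (Tr.node (Tr.leaf [5,2,3,4,1,2,3,0,1,2,5,6,5,2,1,0,3,2,1,4,3,2,5,2,3,4,1,2,3,0,1,2,5,6,1,6,5,2,1,0,3,2,1,4,3,2,5,2,3,4,1,2,3,0,1,2,5,6,5,2,1,0,3,2,1,4,3,2,5,2,3,4,1,2,3,0,1,2,5,6,5,2,1,0,3,2,1,4,3,2,5,2,3,4,1,2,3,0,1,2,5,1,5,2,1,0,3,2,1,4,3,2,5,2,3,4,1,2,3,0,1,2,5,6,5,2,1,0,3,2,1,4,3,2])
 (Tr.leaf [3,2,5,2,3,4,1,2,3,0,1,2,5,6,5,2,1,0,3,2,1,4,3,2,5,2,3,4,1,2,3,0,1,2,5,6,5,2,1,0,3,2,1,4,3,2,5,2,3,4,1,2,3,0,1,2,5,6,5,6,5,2,1,0,3,2,1,4,3,2,5,2,3,4,1,2,3,0,1,2,5,6,5,2,1,0,3,2,1,4,3,2,5,2,3,4,1,2,3,0,1,2,5,6,5,2,1,0,3,2,1,4,3,2,5,2,3,4,1,2,3,0,1,2,5,5,5,2,1,0,3,2,1,4])))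
 (Tr.node (Tr.node (Tr.leaf [3,0,1,2,5,6,5,2,1,0,3,2,1,4,3,2,5,2,3,4,1,2,3,0,1,2,5,6,0,6,5,2,1,0,3,2,1,4,3,2,5,2,3,4,1,2,3,0,1,2,5,6,5,2,1,0,3,2,1,4,3,2,5,2,3,4,1,2,3,0,1,2,5,6,5,2,1,0,3,2,1,4,3,2,5,2,3,4,1,2,3,0,1,2,5,0,5,2,1,0,3,2,1,4,3,2,5,2,3,4,1,2,3,0,1,2,5,6,5,2,1,0,3,2,1,4,3,2,5,2,3,4,1,2])
 (Tr.leaf [1,2,3,0,1,2,5,6,5,2,1,0,3,2,1,4,3,2,5,2,3,4,1,2,3,0,1,2,5,6,5,2,1,0,3,2,1,4,3,2,5,2,3,4,1,2,3,0,1,2,5,6,4,6,5,2,1,0,3,2,1,4,3,2,5,2,3,4,1,2,3,0,1,2,5,6,5,2,1,0,3,2,1,4,3,2,5,2,3,4,1,2,3,0,1,2,5,6,5,2,1,0,3,2,1,4,3,2,5,2,3,4,1,2,3,0,1,2,5,4,5,2,1,0,3,2,1,4,3,2,5,2,3,4]))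
 (Tr.node (Tr.leaf [3,2,1,4,3,2,5,2,3,4,1,2,3,0,1,2,5,6,5,2,1,0,3,2,1,4,3,2,5,2,3,4,1,2,3,0,1,2,5,6,2,6,5,2,1,0,3,2,1,4,3,2,5,2,3,4,1,2,3,0,1,2,5,6,5,2,1,0,3,2,1,4,3,2,5,2,3,4,1,2,3,0,1,2,5,6,5,2,1,0,3,2,1,4,3,2,5,2,3,4,1,2,3,0,1,2,5,2,5,2,1,0,3,2,1,4,3,2,5,2,3,4,1,2,3,0,1,2,5,6,5,2,1,0])
 (Tr.leaf [1,0,3,2,1,4,3,2,5,2,3,4,1,2,3,0,1,2,5,6,5,2,1,0,3,2,1,4,3,2,5,2,3,4,1,2,3,0,1,2,5,6,5,2,1,0,3,2,1,4,3,2,5,2,3,4,1,2,3,0,1,2,5,6,6,6,5,2,1,0,3,2,1,4,3,2,5,2,3,4,1,2,3,0,1,2,5,6,5,2,1,0,3,2,1,4,3,2,5,2,3,4,1,2,3,0,1,2,5,6,5,2,1,0,3,2,1,4,3,2,5,2,3,4,1,2,3,0,1,2,5,6,5,2]))))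
 (Tr.node (Tr.node (Tr.node (Tr.leaf [1,2,5,6,5,2,1,0,3,2,1,4,3,2,5,2,3,4,1,2,3,0,1,2,5,0,5,2,1,0,3,2,1,4,3,2,5,2,3,4,1,2,3,0,1,2,5,6,5,2,1,0,3,2,1,4,3,2,5,2,3,4,1,2,3,0,1,2,5,6,5,2,1,0,3,2,1,4,3,2,5,2,3,4,1,2,3,0,1,2,5,6,0,6,5,2,1,0,3,2,1,4,3,2,5,2,3,4,1,2,3,0,1,2,5,6,5,2,1,0,3,2,1,4,3,2,5,2,3,4,1,2,3,0])
 (Tr.leaf [3,0,1,2,5,6,5,2,1,0,3,2,1,4,3,2,5,2,3,4,1,2,3,0,1,2,5,6,5,2,1,0,3,2,1,4,3,2,5,2,3,4,1,2,3,0,1,2,5,4,5,2,1,0,3,2,1,4,3,2,5,2,3,4,1,2,3,0,1,2,5,6,5,2,1,0,3,2,1,4,3,2,5,2,3,4,1,2,3,0,1,2,5,6,5,2,1,0,3,2,1,4,3,2,5,2,3,4,1,2,3,0,1,2,5,6,4,6,5,2,1,0,3,2,1,4,3,2,5,2,3,4,1,2]))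
 (Tr.node (Tr.leaf [1,4,3,2,5,2,3,4,1,2,3,0,1,2,5,6,5,2,1,0,3,2,1,4,3,2,5,2,3,4,1,2,3,0,1,2,5,2,5,2,1,0,3,2,1,4,3,2,5,2,3,4,1,2,3,0,1,2,5,6,5,2,1,0,3,2,1,4,3,2,5,2,3,4,1,2,3,0,1,2,5,6,5,2,1,0,3,2,1,4,3,2,5,2,3,4,1,2,3,0,1,2,5,6,2,6,5,2,1,0,3,2,1,4,3,2,5,2,3,4,1,2,3,0,1,2,5,6,5,2,1,0,3,2])
 (Tr.leaf [3,2,1,4,3,2,5,2,3,4,1,2,3,0,1,2,5,6,5,2,1,0,3,2,1,4,3,2,5,2,3,4,1,2,3,0,1,2,5,6,5,2,1,0,3,2,1,4,3,2,5,2,3,4,1,2,3,0,1,2,5,6,5,2,1,0,3,2,1,4,3,2,5,2,3,4,1,2,3,0,1,2,5,6,5,2,1,0,3,2,1,4,3,2,5,2,3,4,1,2,3,0,1,2,5,6,5,2,1,0,3,2,1,4,3,2,5,2,3,4,1,2,3,0,1,2,5,6,6,6,5,2,1,0])))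
 (Tr.node (Tr.node (Tr.leaf [3,4,1,2,3,0,1,2,5,6,5,2,1,0,3,2,1,4,3,2,5,2,3,4,1,2,3,0,1,2,5,1,5,2,1,0,3,2,1,4,3,2,5,2,3,4,1,2,3,0,1,2,5,6,5,2,1,0,3,2,1,4,3,2,5,2,3,4,1,2,3,0,1,2,5,6,5,2,1,0,3,2,1,4,3,2,5,2,3,4,1,2,3,0,1,2,5,6,1,6,5,2,1,0,3,2,1,4,3,2,5,2,3,4,1,2,3,0,1,2,5,6,5,2,1,0,3,2,1,4,3,2,5,2])
 (Tr.leaf [5,2,3,4,1,2,3,0,1,2,5,6,5,2,1,0,3,2,1,4,3,2,5,2,3,4,1,2,3,0,1,2,5,6,5,2,1,0,3,2,1,4,3,2,5,2,3,4,1,2,3,0,1,2,5,5,5,2,1,0,3,2,1,4,3,2,5,2,3,4,1,2,3,0,1,2,5,6,5,2,1,0,3,2,1,4,3,2,5,2,3,4,1,2,3,0,1,2,5,6,5,2,1,0,3,2,1,4,3,2,5,2,3,4,1,2,3,0,1,2,5,6,5,6,5,2,1,0,3,2,1,4,3,2]))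
 (Tr.node (Tr.leaf [5,2,1,0,3,2,1,4,3,2,5,2,3,4,1,2,3,0,1,2,5,6,5,2,1,0,3,2,1,4,3,2,5,2,3,4,1,2,3,0,1,2,5,3,5,2,1,0,3,2,1,4,3,2,5,2,3,4,1,2,3,0,1,2,5,6,5,2,1,0,3,2,1,4,3,2,5,2,3,4,1,2,3,0,1,2,5,6,5,2,1,0,3,2,1,4,3,2,5,2,3,4,1,2,3,0,1,2,5,6,3,6,5,2,1,0,3,2,1,4,3,2,5,2,3,4,1,2,3,0,1,2,5,6])
 (Tr.leaf [6,6,6,5,2,1,0,3,2,1,4,3,2,5,2,3,4,1,2,3,0,1,2,5,6,5,2,1,0,3,2,1,4,3,2,5,2,3,4,1,2,3,0,1,2,5,6,5,2,1,0,3,2,1,4,3,2,5,2,3,4,1,2,3,0,1,2,5,6,5,2,1,0,3,2,1,4,3,2,5,2,3,4,1,2,3,0,1,2,5,6,5,2,1,0,3,2,1,4,3,2,5,2,3,4,1,2,3,0,1,2,5,6,5,2,1,0,3,2,1,4,3,2,5,2,3,4,1,2,3,0,1,2,5])))))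
 (Tr.node (Tr.node (Tr.node (Tr.node (Tr.leaf [3,2,5,2,3,4,1,2,3,0,1,2,5,6,5,2,1,0,3,2,1,4,3,2,5,2,3,4,1,2,3,0,1,2,5,6,5,2,1,0,3,2,1,4,3,2,5,2,3,4,1,2,3,0,1,2,5,0,5,2,1,0,3,2,1,4,3,2,5,2,3,4,1,2,3,0,1,2,5,6,5,2,1,0,3,2,1,4,3,2,5,2,3,4,1,2,3,0,1,2,5,6,5,2,1,0,3,2,1,4,3,2,5,2,3,4,1,2,3,0,1,2,5,6,0,6,5,2,1,0,3,2,1,4])
 (Tr.leaf [3,2,5,2,3,4,1,2,3,0,1,2,5,6,3,6,5,2,1,0,3,2,1,4,3,2,5,2,3,4,1,2,3,0,1,2,5,6,5,2,1,0,3,2,1,4,3,2,5,2,3,4,1,2,3,0,1,2,5,6,5,2,1,0,3,2,1,4,3,2,5,2,3,4,1,2,3,0,1,2,5,3,5,2,1,0,3,2,1,4,3,2,5,2,3,4,1,2,3,0,1,2,5,6,5,2,1,0,3,2,1,4,3,2,5,2,3,4,1,2,3,0,1,2,5,6,5,2,1,0,3,2,1,4]))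
 (Tr.node (Tr.leaf [5,6,1,6,5,2,1,0,3,2,1,4,3,2,5,2,3,4,1,2,3,0,1,2,5,6,5,2,1,0,3,2,1,4,3,2,5,2,3,4,1,2,3,0,1,2,5,6,5,2,1,0,3,2,1,4,3,2,5,2,3,4,1,2,3,0,1,2,5,1,5,2,1,0,3,2,1,4,3,2,5,2,3,4,1,2,3,0,1,2,5,6,5,2,1,0,3,2,1,4,3,2,5,2,3,4,1,2,3,0,1,2,5,6,5,2,1,0,3,2,1,4,3,2,5,2,3,4,1,2,3,0,1,2])
 (Tr.leaf [1,2,5,6,5,2,1,0,3,2,1,4,3,2,5,2,3,4,1,2,3,0,1,2,5,6,5,6,5,2,1,0,3,2,1,4,3,2,5,2,3,4,1,2,3,0,1,2,5,6,5,2,1,0,3,2,1,4,3,2,5,2,3,4,1,2,3,0,1,2,5,6,5,2,1,0,3,2,1,4,3,2,5,2,3,4,1,2,3,0,1,2,5,5,5,2,1,0,3,2,1,4,3,2,5,2,3,4,1,2,3,0,1,2,5,6,5,2,1,0,3,2,1,4,3,2,5,2,3,4,1,2,3,0])))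
 (Tr.node (Tr.node (Tr.leaf [1,0,3,2,1,4,3,2,5,2,3,4,1,2,3,0,1,2,5,6,5,2,1,0,3,2,1,4,3,2,5,2,3,4,1,2,3,0,1,2,5,6,5,2,1,0,3,2,1,4,3,2,5,2,3,4,1,2,3,0,1,2,5,1,5,2,1,0,3,2,1,4,3,2,5,2,3,4,1,2,3,0,1,2,5,6,5,2,1,0,3,2,1,4,3,2,5,2,3,4,1,2,3,0,1,2,5,6,5,2,1,0,3,2,1,4,3,2,5,2,3,4,1,2,3,0,1,2,5,6,1,6,5,2])
 (Tr.leaf [1,0,3,2,1,4,3,2,5,2,3,4,1,2,3,0,1,2,5,6,4,6,5,2,1,0,3,2,1,4,3,2,5,2,3,4,1,2,3,0,1,2,5,6,5,2,1,0,3,2,1,4,3,2,5,2,3,4,1,2,3,0,1,2,5,6,5,2,1,0,3,2,1,4,3,2,5,2,3,4,1,2,3,0,1,2,5,4,5,2,1,0,3,2,1,4,3,2,5,2,3,4,1,2,3,0,1,2,5,6,5,2,1,0,3,2,1,4,3,2,5,2,3,4,1,2,3,0,1,2,5,6,5,2]))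
 (Tr.node (Tr.leaf [1,2,3,0,1,2,5,6,2,6,5,2,1,0,3,2,1,4,3,2,5,2,3,4,1,2,3,0,1,2,5,6,5,2,1,0,3,2,1,4,3,2,5,2,3,4,1,2,3,0,1,2,5,6,5,2,1,0,3,2,1,4,3,2,5,2,3,4,1,2,3,0,1,2,5,2,5,2,1,0,3,2,1,4,3,2,5,2,3,4,1,2,3,0,1,2,5,6,5,2,1,0,3,2,1,4,3,2,5,2,3,4,1,2,3,0,1,2,5,6,5,2,1,0,3,2,1,4,3,2,5,2,3,4])
 (Tr.leaf [3,4,1,2,3,0,1,2,5,6,5,2,1,0,3,2,1,4,3,2,5,2,3,4,1,2,3,0,1,2,5,6,6,6,5,2,1,0,3,2,1,4,3,2,5,2,3,4,1,2,3,0,1,2,5,6,5,2,1,0,3,2,1,4,3,2,5,2,3,4,1,2,3,0,1,2,5,6,5,2,1,0,3,2,1,4,3,2,5,2,3,4,1,2,3,0,1,2,5,6,5,2,1,0,3,2,1,4,3,2,5,2,3,4,1,2,3,0,1,2,5,6,5,2,1,0,3,2,1,4,3,2,5,2]))))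
 (Tr.node (Tr.node (Tr.node (Tr.leaf [1,4,3,2,5,2,3,4,1,2,3,0,1,2,5,6,5,2,1,0,3,2,1,4,3,2,5,2,3,4,1,2,3,0,1,2,5,6,5,2,1,0,3,2,1,4,3,2,5,2,3,4,1,2,3,0,1,2,5,6,0,6,5,2,1,0,3,2,1,4,3,2,5,2,3,4,1,2,3,0,1,2,5,6,5,2,1,0,3,2,1,4,3,2,5,2,3,4,1,2,3,0,1,2,5,6,5,2,1,0,3,2,1,4,3,2,5,2,3,4,1,2,3,0,1,2,5,0,5,2,1,0,3,2])
 (Tr.leaf [3,2,1,4,3,2,5,2,3,4,1,2,3,0,1,2,5,4,5,2,1,0,3,2,1,4,3,2,5,2,3,4,1,2,3,0,1,2,5,6,5,2,1,0,3,2,1,4,3,2,5,2,3,4,1,2,3,0,1,2,5,6,5,2,1,0,3,2,1,4,3,2,5,2,3,4,1,2,3,0,1,2,5,6,4,6,5,2,1,0,3,2,1,4,3,2,5,2,3,4,1,2,3,0,1,2,5,6,5,2,1,0,3,2,1,4,3,2,5,2,3,4,1,2,3,0,1,2,5,6,5,2,1,0]))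
 (Tr.node (Tr.leaf [3,0,1,2,5,2,5,2,1,0,3,2,1,4,3,2,5,2,3,4,1,2,3,0,1,2,5,6,5,2,1,0,3,2,1,4,3,2,5,2,3,4,1,2,3,0,1,2,5,6,5,2,1,0,3,2,1,4,3,2,5,2,3,4,1,2,3,0,1,2,5,6,2,6,5,2,1,0,3,2,1,4,3,2,5,2,3,4,1,2,3,0,1,2,5,6,5,2,1,0,3,2,1,4,3,2,5,2,3,4,1,2,3,0,1,2,5,6,5,2,1,0,3,2,1,4,3,2,5,2,3,4,1,2])
 (Tr.leaf [1,2,3,0,1,2,5,6,5,2,1,0,3,2,1,4,3,2,5,2,3,4,1,2,3,0,1,2,5,6,5,2,1,0,3,2,1,4,3,2,5,2,3,4,1,2,3,0,1,2,5,6,5,2,1,0,3,2,1,4,3,2,5,2,3,4,1,2,3,0,1,2,5,6,5,2,1,0,3,2,1,4,3,2,5,2,3,4,1,2,3,0,1,2,5,6,6,6,5,2,1,0,3,2,1,4,3,2,5,2,3,4,1,2,3,0,1,2,5,6,5,2,1,0,3,2,1,4,3,2,5,2,3,4])))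
 (Tr.node (Tr.node (Tr.leaf [5,2,1,0,3,2,1,4,3,2,5,2,3,4,1,2,3,0,1,2,5,6,5,2,1,0,3,2,1,4,3,2,5,2,3,4,1,2,3,0,1,2,5,6,5,2,1,0,3,2,1,4,3,2,5,2,3,4,1,2,3,0,1,2,5,6,1,6,5,2,1,0,3,2,1,4,3,2,5,2,3,4,1,2,3,0,1,2,5,6,5,2,1,0,3,2,1,4,3,2,5,2,3,4,1,2,3,0,1,2,5,6,5,2,1,0,3,2,1,4,3,2,5,2,3,4,1,2,3,0,1,2,5,1])
 (Tr.leaf [5,6,5,2,1,0,3,2,1,4,3,2,5,2,3,4,1,2,3,0,1,2,5,5,5,2,1,0,3,2,1,4,3,2,5,2,3,4,1,2,3,0,1,2,5,6,5,2,1,0,3,2,1,4,3,2,5,2,3,4,1,2,3,0,1,2,5,6,5,2,1,0,3,2,1,4,3,2,5,2,3,4,1,2,3,0,1,2,5,6,5,6,5,2,1,0,3,2,1,4,3,2,5,2,3,4,1,2,3,0,1,2,5,6,5,2,1,0,3,2,1,4,3,2,5,2,3,4,1,2,3,0,1,2]))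
 (Tr.node (Tr.leaf [5,2,3,4,1,2,3,0,1,2,5,3,5,2,1,0,3,2,1,4,3,2,5,2,3,4,1,2,3,0,1,2,5,6,5,2,1,0,3,2,1,4,3,2,5,2,3,4,1,2,3,0,1,2,5,6,5,2,1,0,3,2,1,4,3,2,5,2,3,4,1,2,3,0,1,2,5,6,3,6,5,2,1,0,3,2,1,4,3,2,5,2,3,4,1,2,3,0,1,2,5,6,5,2,1,0,3,2,1,4,3,2,5,2,3,4,1,2,3,0,1,2,5,6,5,2,1,0,3,2,1,4,3,2])
 (Tr.leaf [6,6,6,5,2,1,0,3,2,1,4,3,2,5,2,3,4,1,2,3,0,1,2,5,6,5,2,1,0,3,2,1,4,3,2,5,2,3,4,1,2,3,0,1,2,5,6,5,2,1,0,3,2,1,4,3,2,5,2,3,4,1,2,3,0,1,2,5,6,5,2,1,0,3,2,1,4,3,2,5,2,3,4,1,2,3,0,1,2,5,6,5,2,1,0,3,2,1,4,3,2,5,2,3,4,1,2,3,0,1,2,5,6,5,2,1,0,3,2,1,4,3,2,5,2,3,4,1,2,3,0,1,2,5])))))))))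
 (Tr.node (Tr.node (Tr.node (Tr.node (Tr.node (Tr.node (Tr.node (Tr.node (Tr.leaf [1,1])
 (Tr.leaf [3,0,1,2,5,3,5,2,1,0,3,2,1,4,3,2,5,2,3,4,1,2,3,0,1,2,5,6,5,2,1,0,3,2,1,4,3,2,5,2,3,4,1,2,3,0,1,2,5,6,5,2,1,0,3,2,1,4,3,2,5,2,3,4,1,2,3,0,1,2,5,6,3,6,5,2,1,0,3,2,1,4,3,2,5,2,3,4,1,2,3,0,1,2,5,6,5,2,1,0,3,2,1,4,3,2,5,2,3,4,1,2,3,0,1,2,5,6,5,2,1,0,3,2,1,4,3,2,5,2,3,4,1,2]))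
 (Tr.node (Tr.leaf [1,4,3,2,5,2,3,4,1,2,3,0,1,2,5,6,5,2,1,0,3,2,1,4,3,2,5,2,3,4,1,2,3,0,1,2,5,6,5,2,1,0,3,2,1,4,3,2,5,2,3,4,1,2,3,0,1,2,5,6,1,6,5,2,1,0,3,2,1,4,3,2,5,2,3,4,1,2,3,0,1,2,5,6,5,2,1,0,3,2,1,4,3,2,5,2,3,4,1,2,3,0,1,2,5,6,5,2,1,0,3,2,1,4,3,2,5,2,3,4,1,2,3,0,1,2,5,1,5,2,1,0,3,2])
 (Tr.leaf [3,2,1,4,3,2,5,2,3,4,1,2,3,0,1,2,5,5,5,2,1,0,3,2,1,4,3,2,5,2,3,4,1,2,3,0,1,2,5,6,5,2,1,0,3,2,1,4,3,2,5,2,3,4,1,2,3,0,1,2,5,6,5,2,1,0,3,2,1,4,3,2,5,2,3,4,1,2,3,0,1,2,5,6,5,6,5,2,1,0,3,2,1,4,3,2,5,2,3,4,1,2,3,0,1,2,5,6,5,2,1,0,3,2,1,4,3,2,5,2,3,4,1,2,3,0,1,2,5,6,5,2,1,0])))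
 (Tr.node (Tr.node (Tr.leaf [3,4,1,2,3,0,1,2,5,6,5,2,1,0,3,2,1,4,3,2,5,2,3,4,1,2,3,0,1,2,5,6,5,2,1,0,3,2,1,4,3,2,5,2,3,4,1,2,3,0,1,2,5,6,0,6,5,2,1,0,3,2,1,4,3,2,5,2,3,4,1,2,3,0,1,2,5,6,5,2,1,0,3,2,1,4,3,2,5,2,3,4,1,2,3,0,1,2,5,6,5,2,1,0,3,2,1,4,3,2,5,2,3,4,1,2,3,0,1,2,5,0,5,2,1,0,3,2,1,4,3,2,5,2])
 (Tr.leaf [5,2,3,4,1,2,3,0,1,2,5,4,5,2,1,0,3,2,1,4,3,2,5,2,3,4,1,2,3,0,1,2,5,6,5,2,1,0,3,2,1,4,3,2,5,2,3,4,1,2,3,0,1,2,5,6,5,2,1,0,3,2,1,4,3,2,5,2,3,4,1,2,3,0,1,2,5,6,4,6,5,2,1,0,3,2,1,4,3,2,5,2,3,4,1,2,3,0,1,2,5,6,5,2,1,0,3,2,1,4,3,2,5,2,3,4,1,2,3,0,1,2,5,6,5,2,1,0,3,2,1,4,3,2]))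
 (Tr.node (Tr.leaf [5,2,1,0,3,2,1,4,3,2,5,2,3,4,1,2,3,0,1,2,5,6,5,2,1,0,3,2,1,4,3,2,5,2,3,4,1,2,3,0,1,2,5,6,5,2,1,0,3,2,1,4,3,2,5,2,3,4,1,2,3,0,1,2,5,6,2,6,5,2,1,0,3,2,1,4,3,2,5,2,3,4,1,2,3,0,1,2,5,6,5,2,1,0,3,2,1,4,3,2,5,2,3,4,1,2,3,0,1,2,5,6,5,2,1,0,3,2,1,4,3,2,5,2,3,4,1,2,3,0,1,2,5,2])
 (Tr.leaf [5,6,5,2,1,0,3,2,1,4,3,2,5,2,3,4,1,2,3,0,1,2,5,6,5,2,1,0,3,2,1,4,3,2,5,2,3,4,1,2,3,0,1,2,5,6,5,2,1,0,3,2,1,4,3,2,5,2,3,4,1,2,3,0,1,2,5,6,5,2,1,0,3,2,1,4,3,2,5,2,3,4,1,2,3,0,1,2,5,6,6,6,5,2,1,0,3,2,1,4,3,2,5,2,3,4,1,2,3,0,1,2,5,6,5,2,1,0,3,2,1,4,3,2,5,2,3,4,1,2,3,0,1,2]))))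
 (Tr.node (Tr.node (Tr.node (Tr.leaf [1,2,3,0,1,2,5,6,5,2,1,0,3,2,1,4,3,2,5,2,3,4,1,2,3,0,1,2,5,6,5,2,1,0,3,2,1,4,3,2,5,2,3,4,1,2,3,0,1,2,5,0,5,2,1,0,3,2,1,4,3,2,5,2,3,4,1,2,3,0,1,2,5,6,5,2,1,0,3,2,1,4,3,2,5,2,3,4,1,2,3,0,1,2,5,6,5,2,1,0,3,2,1,4,3,2,5,2,3,4,1,2,3,0,1,2,5,6,0,6,5,2,1,0,3,2,1,4,3,2,5,2,3,4])
 (Tr.leaf [1,2,3,0,1,2,5,6,3,6,5,2,1,0,3,2,1,4,3,2,5,2,3,4,1,2,3,0,1,2,5,6,5,2,1,0,3,2,1,4,3,2,5,2,3,4,1,2,3,0,1,2,5,6,5,2,1,0,3,2,1,4,3,2,5,2,3,4,1,2,3,0,1,2,5,3,5,2,1,0,3,2,1,4,3,2,5,2,3,4,1,2,3,0,1,2,5,6,5,2,1,0,3,2,1,4,3,2,5,2,3,4,1,2,3,0,1,2,5,6,5,2,1,0,3,2,1,4,3,2,5,2,3,4]))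
 (Tr.node (Tr.leaf [1,0,3,2,1,4,3,2,5,2,3,4,1,2,3,0,1,2,5,6,5,2,1,0,3,2,1,4,3,2,5,2,3,4,1,2,3,0,1,2,5,6,5,2,1,0,3,2,1,4,3,2,5,2,3,4,1,2,3,0,1,2,5,2,5,2,1,0,3,2,1,4,3,2,5,2,3,4,1,2,3,0,1,2,5,6,5,2,1,0,3,2,1,4,3,2,5,2,3,4,1,2,3,0,1,2,5,6,5,2,1,0,3,2,1,4,3,2,5,2,3,4,1,2,3,0,1,2,5,6,2,6,5,2])
 (Tr.leaf [1,0,3,2,1,4,3,2,5,2,3,4,1,2,3,0,1,2,5,6,5,6,5,2,1,0,3,2,1,4,3,2,5,2,3,4,1,2,3,0,1,2,5,6,5,2,1,0,3,2,1,4,3,2,5,2,3,4,1,2,3,0,1,2,5,6,5,2,1,0,3,2,1,4,3,2,5,2,3,4,1,2,3,0,1,2,5,5,5,2,1,0,3,2,1,4,3,2,5,2,3,4,1,2,3,0,1,2,5,6,5,2,1,0,3,2,1,4,3,2,5,2,3,4,1,2,3,0,1,2,5,6,5,2])))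
 (Tr.node (Tr.node (Tr.leaf [3,2,5,2,3,4,1,2,3,0,1,2,5,6,5,2,1,0,3,2,1,4,3,2,5,2,3,4,1,2,3,0,1,2,5,6,5,2,1,0,3,2,1,4,3,2,5,2,3,4,1,2,3,0,1,2,5,1,5,2,1,0,3,2,1,4,3,2,5,2,3,4,1,2,3,0,1,2,5,6,5,2,1,0,3,2,1,4,3,2,5,2,3,4,1,2,3,0,1,2,5,6,5,2,1,0,3,2,1,4,3,2,5,2,3,4,1,2,3,0,1,2,5,6,1,6,5,2,1,0,3,2,1,4])
 (Tr.leaf [3,2,5,2,3,4,1,2,3,0,1,2,5,6,4,6,5,2,1,0,3,2,1,4,3,2,5,2,3,4,1,2,3,0,1,2,5,6,5,2,1,0,3,2,1,4,3,2,5,2,3,4,1,2,3,0,1,2,5,6,5,2,1,0,3,2,1,4,3,2,5,2,3,4,1,2,3,0,1,2,5,4,5,2,1,0,3,2,1,4,3,2,5,2,3,4,1,2,3,0,1,2,5,6,5,2,1,0,3,2,1,4,3,2,5,2,3,4,1,2,3,0,1,2,5,6,5,2,1,0,3,2,1,4]))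
 (Tr.node (Tr.leaf [5,6,2,6,5,2,1,0,3,2,1,4,3,2,5,2,3,4,1,2,3,0,1,2,5,6,5,2,1,0,3,2,1,4,3,2,5,2,3,4,1,2,3,0,1,2,5,6,5,2,1,0,3,2,1,4,3,2,5,2,3,4,1,2,3,0,1,2,5,2,5,2,1,0,3,2,1,4,3,2,5,2,3,4,1,2,3,0,1,2,5,6,5,2,1,0,3,2,1,4,3,2,5,2,3,4,1,2,3,0,1,2,5,6,5,2,1,0,3,2,1,4,3,2,5,2,3,4,1,2,3,0,1,2])
 (Tr.leaf [1,2,5,6,5,2,1,0,3,2,1,4,3,2,5,2,3,4,1,2,3,0,1,2,5,6,6,6,5,2,1,0,3,2,1,4,3,2,5,2,3,4,1,2,3,0,1,2,5,6,5,2,1,0,3,2,1,4,3,2,5,2,3,4,1,2,3,0,1,2,5,6,5,2,1,0,3,2,1,4,3,2,5,2,3,4,1,2,3,0,1,2,5,6,5,2,1,0,3,2,1,4,3,2,5,2,3,4,1,2,3,0,1,2,5,6,5,2,1,0,3,2,1,4,3,2,5,2,3,4,1,2,3,0])))))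
 (Tr.node (Tr.node (Tr.node (Tr.node (Tr.leaf [2,5,2,5,2,5])
 (Tr.leaf [3,2,1,4,3,2,5,2,3,4,1,2,3,0,1,2,5,6,5,2,1,0,3,2,1,4,3,2,5,2,3,4,1,2,3,0,1,2,5,6,3,6,5,2,1,0,3,2,1,4,3,2,5,2,3,4,1,2,3,0,1,2,5,6,5,2,1,0,3,2,1,4,3,2,5,2,3,4,1,2,3,0,1,2,5,6,5,2,1,0,3,2,1,4,3,2,5,2,3,4,1,2,3,0,1,2,5,3,5,2,1,0,3,2,1,4,3,2,5,2,3,4,1,2,3,0,1,2,5,6,5,2,1,0]))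
 (Tr.node (Tr.leaf [3,0,1,2,5,6,5,2,1,0,3,2,1,4,3,2,5,2,3,4,1,2,3,0,1,2,5,6,1,6,5,2,1,0,3,2,1,4,3,2,5,2,3,4,1,2,3,0,1,2,5,6,5,2,1,0,3,2,1,4,3,2,5,2,3,4,1,2,3,0,1,2,5,6,5,2,1,0,3,2,1,4,3,2,5,2,3,4,1,2,3,0,1,2,5,1,5,2,1,0,3,2,1,4,3,2,5,2,3,4,1,2,3,0,1,2,5,6,5,2,1,0,3,2,1,4,3,2,5,2,3,4,1,2])
 (Tr.leaf [1,2,3,0,1,2,5,6,5,2,1,0,3,2,1,4,3,2,5,2,3,4,1,2,3,0,1,2,5,6,5,2,1,0,3,2,1,4,3,2,5,2,3,4,1,2,3,0,1,2,5,6,5,6,5,2,1,0,3,2,1,4,3,2,5,2,3,4,1,2,3,0,1,2,5,6,5,2,1,0,3,2,1,4,3,2,5,2,3,4,1,2,3,0,1,2,5,6,5,2,1,0,3,2,1,4,3,2,5,2,3,4,1,2,3,0,1,2,5,5,5,2,1,0,3,2,1,4,3,2,5,2,3,4])))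
 (Tr.node (Tr.node (Tr.leaf [5,2,1,0,3,2,1,4,3,2,5,2,3,4,1,2,3,0,1,2,5,6,0,6,5,2,1,0,3,2,1,4,3,2,5,2,3,4,1,2,3,0,1,2,5,6,5,2,1,0,3,2,1,4,3,2,5,2,3,4,1,2,3,0,1,2,5,6,5,2,1,0,3,2,1,4,3,2,5,2,3,4,1,2,3,0,1,2,5,0,5,2,1,0,3,2,1,4,3,2,5,2,3,4,1,2,3,0,1,2,5,6,5,2,1,0,3,2,1,4,3,2,5,2,3,4,1,2,3,0,1,2,5,6])
 (Tr.leaf [5,6,5,2,1,0,3,2,1,4,3,2,5,2,3,4,1,2,3,0,1,2,5,6,5,2,1,0,3,2,1,4,3,2,5,2,3,4,1,2,3,0,1,2,5,6,4,6,5,2,1,0,3,2,1,4,3,2,5,2,3,4,1,2,3,0,1,2,5,6,5,2,1,0,3,2,1,4,3,2,5,2,3,4,1,2,3,0,1,2,5,6,5,2,1,0,3,2,1,4,3,2,5,2,3,4,1,2,3,0,1,2,5,4,5,2,1,0,3,2,1,4,3,2,5,2,3,4,1,2,3,0,1,2]))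
 (Tr.node (Tr.leaf [5,2,3,4,1,2,3,0,1,2,5,6,5,2,1,0,3,2,1,4,3,2,5,2,3,4,1,2,3,0,1,2,5,6,2,6,5,2,1,0,3,2,1,4,3,2,5,2,3,4,1,2,3,0,1,2,5,6,5,2,1,0,3,2,1,4,3,2,5,2,3,4,1,2,3,0,1,2,5,6,5,2,1,0,3,2,1,4,3,2,5,2,3,4,1,2,3,0,1,2,5,2,5,2,1,0,3,2,1,4,3,2,5,2,3,4,1,2,3,0,1,2,5,6,5,2,1,0,3,2,1,4,3,2])
 (Tr.leaf [3,2,5,2,3,4,1,2,3,0,1,2,5,6,5,2,1,0,3,2,1,4,3,2,5,2,3,4,1,2,3,0,1,2,5,6,5,2,1,0,3,2,1,4,3,2,5,2,3,4,1,2,3,0,1,2,5,6,6,6,5,2,1,0,3,2,1,4,3,2,5,2,3,4,1,2,3,0,1,2,5,6,5,2,1,0,3,2,1,4,3,2,5,2,3,4,1,2,3,0,1,2,5,6,5,2,1,0,3,2,1,4,3,2,5,2,3,4,1,2,3,0,1,2,5,6,5,2,1,0,3,2,1,4]))))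
 (Tr.node (Tr.node (Tr.node (Tr.leaf [1,0,3,2,1,4,3,2,5,2,3,4,1,2,3,0,1,2,5,0,5,2,1,0,3,2,1,4,3,2,5,2,3,4,1,2,3,0,1,2,5,6,5,2,1,0,3,2,1,4,3,2,5,2,3,4,1,2,3,0,1,2,5,6,5,2,1,0,3,2,1,4,3,2,5,2,3,4,1,2,3,0,1,2,5,6,0,6,5,2,1,0,3,2,1,4,3,2,5,2,3,4,1,2,3,0,1,2,5,6,5,2,1,0,3,2,1,4,3,2,5,2,3,4,1,2,3,0,1,2,5,6,5,2])
 (Tr.leaf [5,2,1,0,3,2,1,4,3,2,5,2,3,4,1,2,3,0,1,2,5,6,5,2,1,0,3,2,1,4,3,2,5,2,3,4,1,2,3,0,1,2,5,4,5,2,1,0,3,2,1,4,3,2,5,2,3,4,1,2,3,0,1,2,5,6,5,2,1,0,3,2,1,4,3,2,5,2,3,4,1,2,3,0,1,2,5,6,5,2,1,0,3,2,1,4,3,2,5,2,3,4,1,2,3,0,1,2,5,6,4,6,5,2,1,0,3,2,1,4,3,2,5,2,3,4,1,2,3,0,1,2,5,6]))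
 (Tr.node (Tr.leaf [3,4,1,2,3,0,1,2,5,6,5,2,1,0,3,2,1,4,3,2,5,2,3,4,1,2,3,0,1,2,5,2,5,2,1,0,3,2,1,4,3,2,5,2,3,4,1,2,3,0,1,2,5,6,5,2,1,0,3,2,1,4,3,2,5,2,3,4,1,2,3,0,1,2,5,6,5,2,1,0,3,2,1,4,3,2,5,2,3,4,1,2,3,0,1,2,5,6,2,6,5,2,1,0,3,2,1,4,3,2,5,2,3,4,1,2,3,0,1,2,5,6,5,2,1,0,3,2,1,4,3,2,5,2])
 (Tr.leaf [5,2,3,4,1,2,3,0,1,2,5,6,5,2,1,0,3,2,1,4,3,2,5,2,3,4,1,2,3,0,1,2,5,6,5,2,1,0,3,2,1,4,3,2,5,2,3,4,1,2,3,0,1,2,5,6,5,2,1,0,3,2,1,4,3,2,5,2,3,4,1,2,3,0,1,2,5,6,5,2,1,0,3,2,1,4,3,2,5,2,3,4,1,2,3,0,1,2,5,6,5,2,1,0,3,2,1,4,3,2,5,2,3,4,1,2,3,0,1,2,5,6,6,6,5,2,1,0,3,2,1,4,3,2])))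
 (Tr.node (Tr.node (Tr.leaf [1,2,5,6,5,2,1,0,3,2,1,4,3,2,5,2,3,4,1,2,3,0,1,2,5,1,5,2,1,0,3,2,1,4,3,2,5,2,3,4,1,2,3,0,1,2,5,6,5,2,1,0,3,2,1,4,3,2,5,2,3,4,1,2,3,0,1,2,5,6,5,2,1,0,3,2,1,4,3,2,5,2,3,4,1,2,3,0,1,2,5,6,1,6,5,2,1,0,3,2,1,4,3,2,5,2,3,4,1,2,3,0,1,2,5,6,5,2,1,0,3,2,1,4,3,2,5,2,3,4,1,2,3,0])
 (Tr.leaf [3,0,1,2,5,6,5,2,1,0,3,2,1,4,3,2,5,2,3,4,1,2,3,0,1,2,5,6,5,2,1,0,3,2,1,4,3,2,5,2,3,4,1,2,3,0,1,2,5,5,5,2,1,0,3,2,1,4,3,2,5,2,3,4,1,2,3,0,1,2,5,6,5,2,1,0,3,2,1,4,3,2,5,2,3,4,1,2,3,0,1,2,5,6,5,2,1,0,3,2,1,4,3,2,5,2,3,4,1,2,3,0,1,2,5,6,5,6,5,2,1,0,3,2,1,4,3,2,5,2,3,4,1,2]))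
 (Tr.node (Tr.leaf [1,4,3,2,5,2,3,4,1,2,3,0,1,2,5,6,5,2,1,0,3,2,1,4,3,2,5,2,3,4,1,2,3,0,1,2,5,3,5,2,1,0,3,2,1,4,3,2,5,2,3,4,1,2,3,0,1,2,5,6,5,2,1,0,3,2,1,4,3,2,5,2,3,4,1,2,3,0,1,2,5,6,5,2,1,0,3,2,1,4,3,2,5,2,3,4,1,2,3,0,1,2,5,6,3,6,5,2,1,0,3,2,1,4,3,2,5,2,3,4,1,2,3,0,1,2,5,6,5,2,1,0,3,2])
 (Tr.leaf [6,6,6,5,2,1,0,3,2,1,4,3,2,5,2,3,4,1,2,3,0,1,2,5,6,5,2,1,0,3,2,1,4,3,2,5,2,3,4,1,2,3,0,1,2,5,6,5,2,1,0,3,2,1,4,3,2,5,2,3,4,1,2,3,0,1,2,5,6,5,2,1,0,3,2,1,4,3,2,5,2,3,4,1,2,3,0,1,2,5,6,5,2,1,0,3,2,1,4,3,2,5,2,3,4,1,2,3,0,1,2,5,6,5,2,1,0,3,2,1,4,3,2,5,2,3,4,1,2,3,0,1,2,5]))))))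
 (Tr.node (Tr.node (Tr.node (Tr.node (Tr.node (Tr.leaf [0,6,0,6])
 (Tr.leaf [5,2,3,4,1,2,3,0,1,2,5,6,5,2,1,0,3,2,1,4,3,2,5,2,3,4,1,2,3,0,1,2,5,6,5,2,1,0,3,2,1,4,3,2,5,2,3,4,1,2,3,0,1,2,5,6,3,6,5,2,1,0,3,2,1,4,3,2,5,2,3,4,1,2,3,0,1,2,5,6,5,2,1,0,3,2,1,4,3,2,5,2,3,4,1,2,3,0,1,2,5,6,5,2,1,0,3,2,1,4,3,2,5,2,3,4,1,2,3,0,1,2,5,3,5,2,1,0,3,2,1,4,3,2]))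
 (Tr.node (Tr.leaf [5,2,1,0,3,2,1,4,3,2,5,2,3,4,1,2,3,0,1,2,5,6,5,2,1,0,3,2,1,4,3,2,5,2,3,4,1,2,3,0,1,2,5,6,1,6,5,2,1,0,3,2,1,4,3,2,5,2,3,4,1,2,3,0,1,2,5,6,5,2,1,0,3,2,1,4,3,2,5,2,3,4,1,2,3,0,1,2,5,6,5,2,1,0,3,2,1,4,3,2,5,2,3,4,1,2,3,0,1,2,5,1,5,2,1,0,3,2,1,4,3,2,5,2,3,4,1,2,3,0,1,2,5,6])
 (Tr.leaf [5,5,5,2,1,0,3,2,1,4,3,2,5,2,3,4,1,2,3,0,1,2,5,6,5,2,1,0,3,2,1,4,3,2,5,2,3,4,1,2,3,0,1,2,5,6,5,2,1,0,3,2,1,4,3,2,5,2,3,4,1,2,3,0,1,2,5,6,5,6,5,2,1,0,3,2,1,4,3,2,5,2,3,4,1,2,3,0,1,2,5,6,5,2,1,0,3,2,1,4,3,2,5,2,3,4,1,2,3,0,1,2,5,6,5,2,1,0,3,2,1,4,3,2,5,2,3,4,1,2,3,0,1,2])))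
 (Tr.node (Tr.node (Tr.leaf [1,4,3,2,5,2,3,4,1,2,3,0,1,2,5,6,5,2,1,0,3,2,1,4,3,2,5,2,3,4,1,2,3,0,1,2,5,6,0,6,5,2,1,0,3,2,1,4,3,2,5,2,3,4,1,2,3,0,1,2,5,6,5,2,1,0,3,2,1,4,3,2,5,2,3,4,1,2,3,0,1,2,5,6,5,2,1,0,3,2,1,4,3,2,5,2,3,4,1,2,3,0,1,2,5,0,5,2,1,0,3,2,1,4,3,2,5,2,3,4,1,2,3,0,1,2,5,6,5,2,1,0,3,2])
 (Tr.leaf [3,2,1,4,3,2,5,2,3,4,1,2,3,0,1,2,5,6,5,2,1,0,3,2,1,4,3,2,5,2,3,4,1,2,3,0,1,2,5,6,5,2,1,0,3,2,1,4,3,2,5,2,3,4,1,2,3,0,1,2,5,6,4,6,5,2,1,0,3,2,1,4,3,2,5,2,3,4,1,2,3,0,1,2,5,6,5,2,1,0,3,2,1,4,3,2,5,2,3,4,1,2,3,0,1,2,5,6,5,2,1,0,3,2,1,4,3,2,5,2,3,4,1,2,3,0,1,2,5,4,5,2,1,0]))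
 (Tr.node (Tr.leaf [3,0,1,2,5,6,5,2,1,0,3,2,1,4,3,2,5,2,3,4,1,2,3,0,1,2,5,6,5,2,1,0,3,2,1,4,3,2,5,2,3,4,1,2,3,0,1,2,5,6,2,6,5,2,1,0,3,2,1,4,3,2,5,2,3,4,1,2,3,0,1,2,5,6,5,2,1,0,3,2,1,4,3,2,5,2,3,4,1,2,3,0,1,2,5,6,5,2,1,0,3,2,1,4,3,2,5,2,3,4,1,2,3,0,1,2,5,2,5,2,1,0,3,2,1,4,3,2,5,2,3,4,1,2])
 (Tr.leaf [1,2,3,0,1,2,5,6,5,2,1,0,3,2,1,4,3,2,5,2,3,4,1,2,3,0,1,2,5,6,5,2,1,0,3,2,1,4,3,2,5,2,3,4,1,2,3,0,1,2,5,6,5,2,1,0,3,2,1,4,3,2,5,2,3,4,1,2,3,0,1,2,5,6,6,6,5,2,1,0,3,2,1,4,3,2,5,2,3,4,1,2,3,0,1,2,5,6,5,2,1,0,3,2,1,4,3,2,5,2,3,4,1,2,3,0,1,2,5,6,5,2,1,0,3,2,1,4,3,2,5,2,3,4]))))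
 (Tr.node (Tr.node (Tr.node (Tr.leaf [3,2,5,2,3,4,1,2,3,0,1,2,5,6,5,2,1,0,3,2,1,4,3,2,5,2,3,4,1,2,3,0,1,2,5,0,5,2,1,0,3,2,1,4,3,2,5,2,3,4,1,2,3,0,1,2,5,6,5,2,1,0,3,2,1,4,3,2,5,2,3,4,1,2,3,0,1,2,5,6,5,2,1,0,3,2,1,4,3,2,5,2,3,4,1,2,3,0,1,2,5,6,0,6,5,2,1,0,3,2,1,4,3,2,5,2,3,4,1,2,3,0,1,2,5,6,5,2,1,0,3,2,1,4])
 (Tr.leaf [1,4,3,2,5,2,3,4,1,2,3,0,1,2,5,6,5,2,1,0,3,2,1,4,3,2,5,2,3,4,1,2,3,0,1,2,5,6,5,2,1,0,3,2,1,4,3,2,5,2,3,4,1,2,3,0,1,2,5,4,5,2,1,0,3,2,1,4,3,2,5,2,3,4,1,2,3,0,1,2,5,6,5,2,1,0,3,2,1,4,3,2,5,2,3,4,1,2,3,0,1,2,5,6,5,2,1,0,3,2,1,4,3,2,5,2,3,4,1,2,3,0,1,2,5,6,4,6,5,2,1,0,3,2]))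
 (Tr.node (Tr.leaf [1,2,5,6,5,2,1,0,3,2,1,4,3,2,5,2,3,4,1,2,3,0,1,2,5,6,5,2,1,0,3,2,1,4,3,2,5,2,3,4,1,2,3,0,1,2,5,2,5,2,1,0,3,2,1,4,3,2,5,2,3,4,1,2,3,0,1,2,5,6,5,2,1,0,3,2,1,4,3,2,5,2,3,4,1,2,3,0,1,2,5,6,5,2,1,0,3,2,1,4,3,2,5,2,3,4,1,2,3,0,1,2,5,6,2,6,5,2,1,0,3,2,1,4,3,2,5,2,3,4,1,2,3,0])
 (Tr.leaf [1,2,5,6,5,6,5,2,1,0,3,2,1,4,3,2,5,2,3,4,1,2,3,0,1,2,5,6,5,2,1,0,3,2,1,4,3,2,5,2,3,4,1,2,3,0,1,2,5,6,5,2,1,0,3,2,1,4,3,2,5,2,3,4,1,2,3,0,1,2,5,5,5,2,1,0,3,2,1,4,3,2,5,2,3,4,1,2,3,0,1,2,5,6,5,2,1,0,3,2,1,4,3,2,5,2,3,4,1,2,3,0,1,2,5,6,5,2,1,0,3,2,1,4,3,2,5,2,3,4,1,2,3,0])))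
 (Tr.node (Tr.node (Tr.leaf [1,0,3,2,1,4,3,2,5,2,3,4,1,2,3,0,1,2,5,6,5,2,1,0,3,2,1,4,3,2,5,2,3,4,1,2,3,0,1,2,5,1,5,2,1,0,3,2,1,4,3,2,5,2,3,4,1,2,3,0,1,2,5,6,5,2,1,0,3,2,1,4,3,2,5,2,3,4,1,2,3,0,1,2,5,6,5,2,1,0,3,2,1,4,3,2,5,2,3,4,1,2,3,0,1,2,5,6,1,6,5,2,1,0,3,2,1,4,3,2,5,2,3,4,1,2,3,0,1,2,5,6,5,2])
 (Tr.leaf [5,2,1,0,3,2,1,4,3,2,5,2,3,4,1,2,3,0,1,2,5,6,5,2,1,0,3,2,1,4,3,2,5,2,3,4,1,2,3,0,1,2,5,6,5,2,1,0,3,2,1,4,3,2,5,2,3,4,1,2,3,0,1,2,5,5,5,2,1,0,3,2,1,4,3,2,5,2,3,4,1,2,3,0,1,2,5,6,5,2,1,0,3,2,1,4,3,2,5,2,3,4,1,2,3,0,1,2,5,6,5,2,1,0,3,2,1,4,3,2,5,2,3,4,1,2,3,0,1,2,5,6,5,6]))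
 (Tr.node (Tr.leaf [3,4,1,2,3,0,1,2,5,6,5,2,1,0,3,2,1,4,3,2,5,2,3,4,1,2,3,0,1,2,5,6,5,2,1,0,3,2,1,4,3,2,5,2,3,4,1,2,3,0,1,2,5,3,5,2,1,0,3,2,1,4,3,2,5,2,3,4,1,2,3,0,1,2,5,6,5,2,1,0,3,2,1,4,3,2,5,2,3,4,1,2,3,0,1,2,5,6,5,2,1,0,3,2,1,4,3,2,5,2,3,4,1,2,3,0,1,2,5,6,3,6,5,2,1,0,3,2,1,4,3,2,5,2])
 (Tr.leaf [3,4,1,2,3,0,1,2,5,6,6,6,5,2,1,0,3,2,1,4,3,2,5,2,3,4,1,2,3,0,1,2,5,6,5,2,1,0,3,2,1,4,3,2,5,2,3,4,1,2,3,0,1,2,5,6,5,2,1,0,3,2,1,4,3,2,5,2,3,4,1,2,3,0,1,2,5,6,5,2,1,0,3,2,1,4,3,2,5,2,3,4,1,2,3,0,1,2,5,6,5,2,1,0,3,2,1,4,3,2,5,2,3,4,1,2,3,0,1,2,5,6,5,2,1,0,3,2,1,4,3,2,5,2])))))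
 (Tr.node (Tr.node (Tr.node (Tr.node (Tr.leaf [6,5,2,1,0,3,2,1,4,3,2,5,2,3,4,1,2,3,0,1,2,5,6,5,2,1,0,3,2,1,4,3,2,5,2,3,4,1,2,3,0,1,2,5,6,5,2,1,0,3,2,1,4,3,2,5,2,3,4,1,2,3,0,1,2,5,0,5,2,1,0,3,2,1,4,3,2,5,2,3,4,1,2,3,0,1,2,5,6,5,2,1,0,3,2,1,4,3,2,5,2,3,4,1,2,3,0,1,2,5,6,5,2,1,0,3,2,1,4,3,2,5,2,3,4,1,2,3,0,1,2,5,6,0])
 (Tr.leaf [5,6,5,2,1,0,3,2,1,4,3,2,5,2,3,4,1,2,3,0,1,2,5,6,3,6,5,2,1,0,3,2,1,4,3,2,5,2,3,4,1,2,3,0,1,2,5,6,5,2,1,0,3,2,1,4,3,2,5,2,3,4,1,2,3,0,1,2,5,6,5,2,1,0,3,2,1,4,3,2,5,2,3,4,1,2,3,0,1,2,5,3,5,2,1,0,3,2,1,4,3,2,5,2,3,4,1,2,3,0,1,2,5,6,5,2,1,0,3,2,1,4,3,2,5,2,3,4,1,2,3,0,1,2]))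
 (Tr.node (Tr.leaf [5,2,3,4,1,2,3,0,1,2,5,6,1,6,5,2,1,0,3,2,1,4,3,2,5,2,3,4,1,2,3,0,1,2,5,6,5,2,1,0,3,2,1,4,3,2,5,2,3,4,1,2,3,0,1,2,5,6,5,2,1,0,3,2,1,4,3,2,5,2,3,4,1,2,3,0,1,2,5,1,5,2,1,0,3,2,1,4,3,2,5,2,3,4,1,2,3,0,1,2,5,6,5,2,1,0,3,2,1,4,3,2,5,2,3,4,1,2,3,0,1,2,5,6,5,2,1,0,3,2,1,4,3,2])
 (Tr.leaf [3,2,5,2,3,4,1,2,3,0,1,2,5,6,5,2,1,0,3,2,1,4,3,2,5,2,3,4,1,2,3,0,1,2,5,6,5,6,5,2,1,0,3,2,1,4,3,2,5,2,3,4,1,2,3,0,1,2,5,6,5,2,1,0,3,2,1,4,3,2,5,2,3,4,1,2,3,0,1,2,5,6,5,2,1,0,3,2,1,4,3,2,5,2,3,4,1,2,3,0,1,2,5,5,5,2,1,0,3,2,1,4,3,2,5,2,3,4,1,2,3,0,1,2,5,6,5,2,1,0,3,2,1,4])))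
 (Tr.node (Tr.node (Tr.leaf [3,0,1,2,5,6,0,6,5,2,1,0,3,2,1,4,3,2,5,2,3,4,1,2,3,0,1,2,5,6,5,2,1,0,3,2,1,4,3,2,5,2,3,4,1,2,3,0,1,2,5,6,5,2,1,0,3,2,1,4,3,2,5,2,3,4,1,2,3,0,1,2,5,0,5,2,1,0,3,2,1,4,3,2,5,2,3,4,1,2,3,0,1,2,5,6,5,2,1,0,3,2,1,4,3,2,5,2,3,4,1,2,3,0,1,2,5,6,5,2,1,0,3,2,1,4,3,2,5,2,3,4,1,2])
 (Tr.leaf [1,2,3,0,1,2,5,6,5,2,1,0,3,2,1,4,3,2,5,2,3,4,1,2,3,0,1,2,5,6,4,6,5,2,1,0,3,2,1,4,3,2,5,2,3,4,1,2,3,0,1,2,5,6,5,2,1,0,3,2,1,4,3,2,5,2,3,4,1,2,3,0,1,2,5,6,5,2,1,0,3,2,1,4,3,2,5,2,3,4,1,2,3,0,1,2,5,4,5,2,1,0,3,2,1,4,3,2,5,2,3,4,1,2,3,0,1,2,5,6,5,2,1,0,3,2,1,4,3,2,5,2,3,4]))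
 (Tr.node (Tr.leaf [3,2,1,4,3,2,5,2,3,4,1,2,3,0,1,2,5,6,2,6,5,2,1,0,3,2,1,4,3,2,5,2,3,4,1,2,3,0,1,2,5,6,5,2,1,0,3,2,1,4,3,2,5,2,3,4,1,2,3,0,1,2,5,6,5,2,1,0,3,2,1,4,3,2,5,2,3,4,1,2,3,0,1,2,5,2,5,2,1,0,3,2,1,4,3,2,5,2,3,4,1,2,3,0,1,2,5,6,5,2,1,0,3,2,1,4,3,2,5,2,3,4,1,2,3,0,1,2,5,6,5,2,1,0])
 (Tr.leaf [1,0,3,2,1,4,3,2,5,2,3,4,1,2,3,0,1,2,5,6,5,2,1,0,3,2,1,4,3,2,5,2,3,4,1,2,3,0,1,2,5,6,6,6,5,2,1,0,3,2,1,4,3,2,5,2,3,4,1,2,3,0,1,2,5,6,5,2,1,0,3,2,1,4,3,2,5,2,3,4,1,2,3,0,1,2,5,6,5,2,1,0,3,2,1,4,3,2,5,2,3,4,1,2,3,0,1,2,5,6,5,2,1,0,3,2,1,4,3,2,5,2,3,4,1,2,3,0,1,2,5,6,5,2]))))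
 (Tr.node (Tr.node (Tr.node (Tr.leaf [1,2,5,0,5,2,1,0,3,2,1,4,3,2,5,2,3,4,1,2,3,0,1,2,5,6,5,2,1,0,3,2,1,4,3,2,5,2,3,4,1,2,3,0,1,2,5,6,5,2,1,0,3,2,1,4,3,2,5,2,3,4,1,2,3,0,1,2,5,6,0,6,5,2,1,0,3,2,1,4,3,2,5,2,3,4,1,2,3,0,1,2,5,6,5,2,1,0,3,2,1,4,3,2,5,2,3,4,1,2,3,0,1,2,5,6,5,2,1,0,3,2,1,4,3,2,5,2,3,4,1,2,3,0])
 (Tr.leaf [3,0,1,2,5,6,5,2,1,0,3,2,1,4,3,2,5,2,3,4,1,2,3,0,1,2,5,4,5,2,1,0,3,2,1,4,3,2,5,2,3,4,1,2,3,0,1,2,5,6,5,2,1,0,3,2,1,4,3,2,5,2,3,4,1,2,3,0,1,2,5,6,5,2,1,0,3,2,1,4,3,2,5,2,3,4,1,2,3,0,1,2,5,6,4,6,5,2,1,0,3,2,1,4,3,2,5,2,3,4,1,2,3,0,1,2,5,6,5,2,1,0,3,2,1,4,3,2,5,2,3,4,1,2]))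
 (Tr.node (Tr.leaf [1,4,3,2,5,2,3,4,1,2,3,0,1,2,5,2,5,2,1,0,3,2,1,4,3,2,5,2,3,4,1,2,3,0,1,2,5,6,5,2,1,0,3,2,1,4,3,2,5,2,3,4,1,2,3,0,1,2,5,6,5,2,1,0,3,2,1,4,3,2,5,2,3,4,1,2,3,0,1,2,5,6,2,6,5,2,1,0,3,2,1,4,3,2,5,2,3,4,1,2,3,0,1,2,5,6,5,2,1,0,3,2,1,4,3,2,5,2,3,4,1,2,3,0,1,2,5,6,5,2,1,0,3,2])
 (Tr.leaf [3,2,1,4,3,2,5,2,3,4,1,2,3,0,1,2,5,6,5,2,1,0,3,2,1,4,3,2,5,2,3,4,1,2,3,0,1,2,5,6,5,2,1,0,3,2,1,4,3,2,5,2,3,4,1,2,3,0,1,2,5,6,5,2,1,0,3,2,1,4,3,2,5,2,3,4,1,2,3,0,1,2,5,6,5,2,1,0,3,2,1,4,3,2,5,2,3,4,1,2,3,0,1,2,5,6,6,6,5,2,1,0,3,2,1,4,3,2,5,2,3,4,1,2,3,0,1,2,5,6,5,2,1,0])))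
 (Tr.node (Tr.node (Tr.leaf [3,4,1,2,3,0,1,2,5,1,5,2,1,0,3,2,1,4,3,2,5,2,3,4,1,2,3,0,1,2,5,6,5,2,1,0,3,2,1,4,3,2,5,2,3,4,1,2,3,0,1,2,5,6,5,2,1,0,3,2,1,4,3,2,5,2,3,4,1,2,3,0,1,2,5,6,1,6,5,2,1,0,3,2,1,4,3,2,5,2,3,4,1,2,3,0,1,2,5,6,5,2,1,0,3,2,1,4,3,2,5,2,3,4,1,2,3,0,1,2,5,6,5,2,1,0,3,2,1,4,3,2,5,2])
 (Tr.leaf [5,2,3,4,1,2,3,0,1,2,5,6,5,2,1,0,3,2,1,4,3,2,5,2,3,4,1,2,3,0,1,2,5,5,5,2,1,0,3,2,1,4,3,2,5,2,3,4,1,2,3,0,1,2,5,6,5,2,1,0,3,2,1,4,3,2,5,2,3,4,1,2,3,0,1,2,5,6,5,2,1,0,3,2,1,4,3,2,5,2,3,4,1,2,3,0,1,2,5,6,5,6,5,2,1,0,3,2,1,4,3,2,5,2,3,4,1,2,3,0,1,2,5,6,5,2,1,0,3,2,1,4,3,2]))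
 (Tr.node (Tr.leaf [5,2,1,0,3,2,1,4,3,2,5,2,3,4,1,2,3,0,1,2,5,3,5,2,1,0,3,2,1,4,3,2,5,2,3,4,1,2,3,0,1,2,5,6,5,2,1,0,3,2,1,4,3,2,5,2,3,4,1,2,3,0,1,2,5,6,5,2,1,0,3,2,1,4,3,2,5,2,3,4,1,2,3,0,1,2,5,6,3,6,5,2,1,0,3,2,1,4,3,2,5,2,3,4,1,2,3,0,1,2,5,6,5,2,1,0,3,2,1,4,3,2,5,2,3,4,1,2,3,0,1,2,5,6])
 (Tr.leaf [6,6,6,5,2,1,0,3,2,1,4,3,2,5,2,3,4,1,2,3,0,1,2,5,6,5,2,1,0,3,2,1,4,3,2,5,2,3,4,1,2,3,0,1,2,5,6,5,2,1,0,3,2,1,4,3,2,5,2,3,4,1,2,3,0,1,2,5,6,5,2,1,0,3,2,1,4,3,2,5,2,3,4,1,2,3,0,1,2,5,6,5,2,1,0,3,2,1,4,3,2,5,2,3,4,1,2,3,0,1,2,5,6,5,2,1,0,3,2,1,4,3,2,5,2,3,4,1,2,3,0,1,2,5])))))))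
 (Tr.node (Tr.node (Tr.node (Tr.node (Tr.node (Tr.node (Tr.leaf [0,2,0,2])
 (Tr.leaf [1,0,3,2,1,4,3,2,5,2,3,4,1,2,3,0,1,2,5,6,5,2,1,0,3,2,1,4,3,2,5,2,3,4,1,2,3,0,1,2,5,6,5,2,1,0,3,2,1,4,3,2,5,2,3,4,1,2,3,0,1,2,5,6,3,6,5,2,1,0,3,2,1,4,3,2,5,2,3,4,1,2,3,0,1,2,5,6,5,2,1,0,3,2,1,4,3,2,5,2,3,4,1,2,3,0,1,2,5,6,5,2,1,0,3,2,1,4,3,2,5,2,3,4,1,2,3,0,1,2,5,3,5,2]))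
 (Tr.node (Tr.leaf [1,2,3,0,1,2,5,6,5,2,1,0,3,2,1,4,3,2,5,2,3,4,1,2,3,0,1,2,5,6,5,2,1,0,3,2,1,4,3,2,5,2,3,4,1,2,3,0,1,2,5,6,1,6,5,2,1,0,3,2,1,4,3,2,5,2,3,4,1,2,3,0,1,2,5,6,5,2,1,0,3,2,1,4,3,2,5,2,3,4,1,2,3,0,1,2,5,6,5,2,1,0,3,2,1,4,3,2,5,2,3,4,1,2,3,0,1,2,5,1,5,2,1,0,3,2,1,4,3,2,5,2,3,4])
 (Tr.leaf [3,4,1,2,3,0,1,2,5,5,5,2,1,0,3,2,1,4,3,2,5,2,3,4,1,2,3,0,1,2,5,6,5,2,1,0,3,2,1,4,3,2,5,2,3,4,1,2,3,0,1,2,5,6,5,2,1,0,3,2,1,4,3,2,5,2,3,4,1,2,3,0,1,2,5,6,5,6,5,2,1,0,3,2,1,4,3,2,5,2,3,4,1,2,3,0,1,2,5,6,5,2,1,0,3,2,1,4,3,2,5,2,3,4,1,2,3,0,1,2,5,6,5,2,1,0,3,2,1,4,3,2,5,2])))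
 (Tr.node (Tr.node (Tr.leaf [5,6,5,2,1,0,3,2,1,4,3,2,5,2,3,4,1,2,3,0,1,2,5,6,5,2,1,0,3,2,1,4,3,2,5,2,3,4,1,2,3,0,1,2,5,6,0,6,5,2,1,0,3,2,1,4,3,2,5,2,3,4,1,2,3,0,1,2,5,6,5,2,1,0,3,2,1,4,3,2,5,2,3,4,1,2,3,0,1,2,5,6,5,2,1,0,3,2,1,4,3,2,5,2,3,4,1,2,3,0,1,2,5,0,5,2,1,0,3,2,1,4,3,2,5,2,3,4,1,2,3,0,1,2])
 (Tr.leaf [1,2,5,4,5,2,1,0,3,2,1,4,3,2,5,2,3,4,1,2,3,0,1,2,5,6,5,2,1,0,3,2,1,4,3,2,5,2,3,4,1,2,3,0,1,2,5,6,5,2,1,0,3,2,1,4,3,2,5,2,3,4,1,2,3,0,1,2,5,6,4,6,5,2,1,0,3,2,1,4,3,2,5,2,3,4,1,2,3,0,1,2,5,6,5,2,1,0,3,2,1,4,3,2,5,2,3,4,1,2,3,0,1,2,5,6,5,2,1,0,3,2,1,4,3,2,5,2,3,4,1,2,3,0]))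
 (Tr.node (Tr.leaf [3,2,5,2,3,4,1,2,3,0,1,2,5,6,5,2,1,0,3,2,1,4,3,2,5,2,3,4,1,2,3,0,1,2,5,6,5,2,1,0,3,2,1,4,3,2,5,2,3,4,1,2,3,0,1,2,5,6,2,6,5,2,1,0,3,2,1,4,3,2,5,2,3,4,1,2,3,0,1,2,5,6,5,2,1,0,3,2,1,4,3,2,5,2,3,4,1,2,3,0,1,2,5,6,5,2,1,0,3,2,1,4,3,2,5,2,3,4,1,2,3,0,1,2,5,2,5,2,1,0,3,2,1,4])
 (Tr.leaf [1,4,3,2,5,2,3,4,1,2,3,0,1,2,5,6,5,2,1,0,3,2,1,4,3,2,5,2,3,4,1,2,3,0,1,2,5,6,5,2,1,0,3,2,1,4,3,2,5,2,3,4,1,2,3,0,1,2,5,6,5,2,1,0,3,2,1,4,3,2,5,2,3,4,1,2,3,0,1,2,5,6,6,6,5,2,1,0,3,2,1,4,3,2,5,2,3,4,1,2,3,0,1,2,5,6,5,2,1,0,3,2,1,4,3,2,5,2,3,4,1,2,3,0,1,2,5,6,5,2,1,0,3,2]))))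
 (Tr.node (Tr.node (Tr.node (Tr.leaf [5,2,1,0,3,2,1,4,3,2,5,2,3,4,1,2,3,0,1,2,5,6,5,2,1,0,3,2,1,4,3,2,5,2,3,4,1,2,3,0,1,2,5,0,5,2,1,0,3,2,1,4,3,2,5,2,3,4,1,2,3,0,1,2,5,6,5,2,1,0,3,2,1,4,3,2,5,2,3,4,1,2,3,0,1,2,5,6,5,2,1,0,3,2,1,4,3,2,5,2,3,4,1,2,3,0,1,2,5,6,0,6,5,2,1,0,3,2,1,4,3,2,5,2,3,4,1,2,3,0,1,2,5,6])
 (Tr.leaf [6,5,2,1,0,3,2,1,4,3,2,5,2,3,4,1,2,3,0,1,2,5,6,5,2,1,0,3,2,1,4,3,2,5,2,3,4,1,2,3,0,1,2,5,6,5,2,1,0,3,2,1,4,3,2,5,2,3,4,1,2,3,0,1,2,5,4,5,2,1,0,3,2,1,4,3,2,5,2,3,4,1,2,3,0,1,2,5,6,5,2,1,0,3,2,1,4,3,2,5,2,3,4,1,2,3,0,1,2,5,6,5,2,1,0,3,2,1,4,3,2,5,2,3,4,1,2,3,0,1,2,5,6,4]))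
 (Tr.node (Tr.leaf [5,2,3,4,1,2,3,0,1,2,5,6,5,2,1,0,3,2,1,4,3,2,5,2,3,4,1,2,3,0,1,2,5,6,5,2,1,0,3,2,1,4,3,2,5,2,3,4,1,2,3,0,1,2,5,2,5,2,1,0,3,2,1,4,3,2,5,2,3,4,1,2,3,0,1,2,5,6,5,2,1,0,3,2,1,4,3,2,5,2,3,4,1,2,3,0,1,2,5,6,5,2,1,0,3,2,1,4,3,2,5,2,3,4,1,2,3,0,1,2,5,6,2,6,5,2,1,0,3,2,1,4,3,2])
 (Tr.leaf [5,2,3,4,1,2,3,0,1,2,5,6,5,6,5,2,1,0,3,2,1,4,3,2,5,2,3,4,1,2,3,0,1,2,5,6,5,2,1,0,3,2,1,4,3,2,5,2,3,4,1,2,3,0,1,2,5,6,5,2,1,0,3,2,1,4,3,2,5,2,3,4,1,2,3,0,1,2,5,5,5,2,1,0,3,2,1,4,3,2,5,2,3,4,1,2,3,0,1,2,5,6,5,2,1,0,3,2,1,4,3,2,5,2,3,4,1,2,3,0,1,2,5,6,5,2,1,0,3,2,1,4,3,2])))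
 (Tr.node (Tr.node (Tr.leaf [3,0,1,2,5,6,5,2,1,0,3,2,1,4,3,2,5,2,3,4,1,2,3,0,1,2,5,6,5,2,1,0,3,2,1,4,3,2,5,2,3,4,1,2,3,0,1,2,5,1,5,2,1,0,3,2,1,4,3,2,5,2,3,4,1,2,3,0,1,2,5,6,5,2,1,0,3,2,1,4,3,2,5,2,3,4,1,2,3,0,1,2,5,6,5,2,1,0,3,2,1,4,3,2,5,2,3,4,1,2,3,0,1,2,5,6,1,6,5,2,1,0,3,2,1,4,3,2,5,2,3,4,1,2])
 (Tr.leaf [3,0,1,2,5,6,4,6,5,2,1,0,3,2,1,4,3,2,5,2,3,4,1,2,3,0,1,2,5,6,5,2,1,0,3,2,1,4,3,2,5,2,3,4,1,2,3,0,1,2,5,6,5,2,1,0,3,2,1,4,3,2,5,2,3,4,1,2,3,0,1,2,5,4,5,2,1,0,3,2,1,4,3,2,5,2,3,4,1,2,3,0,1,2,5,6,5,2,1,0,3,2,1,4,3,2,5,2,3,4,1,2,3,0,1,2,5,6,5,2,1,0,3,2,1,4,3,2,5,2,3,4,1,2]))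
 (Tr.node (Tr.leaf [3,2,1,4,3,2,5,2,3,4,1,2,3,0,1,2,5,6,5,2,1,0,3,2,1,4,3,2,5,2,3,4,1,2,3,0,1,2,5,6,5,2,1,0,3,2,1,4,3,2,5,2,3,4,1,2,3,0,1,2,5,3,5,2,1,0,3,2,1,4,3,2,5,2,3,4,1,2,3,0,1,2,5,6,5,2,1,0,3,2,1,4,3,2,5,2,3,4,1,2,3,0,1,2,5,6,5,2,1,0,3,2,1,4,3,2,5,2,3,4,1,2,3,0,1,2,5,6,3,6,5,2,1,0])
 (Tr.leaf [3,2,1,4,3,2,5,2,3,4,1,2,3,0,1,2,5,6,6,6,5,2,1,0,3,2,1,4,3,2,5,2,3,4,1,2,3,0,1,2,5,6,5,2,1,0,3,2,1,4,3,2,5,2,3,4,1,2,3,0,1,2,5,6,5,2,1,0,3,2,1,4,3,2,5,2,3,4,1,2,3,0,1,2,5,6,5,2,1,0,3,2,1,4,3,2,5,2,3,4,1,2,3,0,1,2,5,6,5,2,1,0,3,2,1,4,3,2,5,2,3,4,1,2,3,0,1,2,5,6,5,2,1,0])))))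
 (Tr.node (Tr.node (Tr.node (Tr.node (Tr.leaf [3,6,3,6])
 (Tr.leaf [3,4,1,2,3,0,1,2,5,6,5,2,1,0,3,2,1,4,3,2,5,2,3,4,1,2,3,0,1,2,5,6,3,6,5,2,1,0,3,2,1,4,3,2,5,2,3,4,1,2,3,0,1,2,5,6,5,2,1,0,3,2,1,4,3,2,5,2,3,4,1,2,3,0,1,2,5,6,5,2,1,0,3,2,1,4,3,2,5,2,3,4,1,2,3,0,1,2,5,3,5,2,1,0,3,2,1,4,3,2,5,2,3,4,1,2,3,0,1,2,5,6,5,2,1,0,3,2,1,4,3,2,5,2]))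
 (Tr.node (Tr.leaf [1,0,3,2,1,4,3,2,5,2,3,4,1,2,3,0,1,2,5,6,1,6,5,2,1,0,3,2,1,4,3,2,5,2,3,4,1,2,3,0,1,2,5,6,5,2,1,0,3,2,1,4,3,2,5,2,3,4,1,2,3,0,1,2,5,6,5,2,1,0,3,2,1,4,3,2,5,2,3,4,1,2,3,0,1,2,5,1,5,2,1,0,3,2,1,4,3,2,5,2,3,4,1,2,3,0,1,2,5,6,5,2,1,0,3,2,1,4,3,2,5,2,3,4,1,2,3,0,1,2,5,6,5,2])
 (Tr.leaf [5,2,1,0,3,2,1,4,3,2,5,2,3,4,1,2,3,0,1,2,5,6,5,2,1,0,3,2,1,4,3,2,5,2,3,4,1,2,3,0,1,2,5,6,5,6,5,2,1,0,3,2,1,4,3,2,5,2,3,4,1,2,3,0,1,2,5,6,5,2,1,0,3,2,1,4,3,2,5,2,3,4,1,2,3,0,1,2,5,6,5,2,1,0,3,2,1,4,3,2,5,2,3,4,1,2,3,0,1,2,5,5,5,2,1,0,3,2,1,4,3,2,5,2,3,4,1,2,3,0,1,2,5,6])))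
 (Tr.node (Tr.node (Tr.leaf [3,2,5,2,3,4,1,2,3,0,1,2,5,6,0,6,5,2,1,0,3,2,1,4,3,2,5,2,3,4,1,2,3,0,1,2,5,6,5,2,1,0,3,2,1,4,3,2,5,2,3,4,1,2,3,0,1,2,5,6,5,2,1,0,3,2,1,4,3,2,5,2,3,4,1,2,3,0,1,2,5,0,5,2,1,0,3,2,1,4,3,2,5,2,3,4,1,2,3,0,1,2,5,6,5,2,1,0,3,2,1,4,3,2,5,2,3,4,1,2,3,0,1,2,5,6,5,2,1,0,3,2,1,4])
 (Tr.leaf [1,4,3,2,5,2,3,4,1,2,3,0,1,2,5,6,5,2,1,0,3,2,1,4,3,2,5,2,3,4,1,2,3,0,1,2,5,6,4,6,5,2,1,0,3,2,1,4,3,2,5,2,3,4,1,2,3,0,1,2,5,6,5,2,1,0,3,2,1,4,3,2,5,2,3,4,1,2,3,0,1,2,5,6,5,2,1,0,3,2,1,4,3,2,5,2,3,4,1,2,3,0,1,2,5,4,5,2,1,0,3,2,1,4,3,2,5,2,3,4,1,2,3,0,1,2,5,6,5,2,1,0,3,2]))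
 (Tr.node (Tr.leaf [1,2,5,6,5,2,1,0,3,2,1,4,3,2,5,2,3,4,1,2,3,0,1,2,5,6,2,6,5,2,1,0,3,2,1,4,3,2,5,2,3,4,1,2,3,0,1,2,5,6,5,2,1,0,3,2,1,4,3,2,5,2,3,4,1,2,3,0,1,2,5,6,5,2,1,0,3,2,1,4,3,2,5,2,3,4,1,2,3,0,1,2,5,2,5,2,1,0,3,2,1,4,3,2,5,2,3,4,1,2,3,0,1,2,5,6,5,2,1,0,3,2,1,4,3,2,5,2,3,4,1,2,3,0])
 (Tr.leaf [3,0,1,2,5,6,5,2,1,0,3,2,1,4,3,2,5,2,3,4,1,2,3,0,1,2,5,6,5,2,1,0,3,2,1,4,3,2,5,2,3,4,1,2,3,0,1,2,5,6,6,6,5,2,1,0,3,2,1,4,3,2,5,2,3,4,1,2,3,0,1,2,5,6,5,2,1,0,3,2,1,4,3,2,5,2,3,4,1,2,3,0,1,2,5,6,5,2,1,0,3,2,1,4,3,2,5,2,3,4,1,2,3,0,1,2,5,6,5,2,1,0,3,2,1,4,3,2,5,2,3,4,1,2]))))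
 (Tr.node (Tr.node (Tr.node (Tr.leaf [5,2,3,4,1,2,3,0,1,2,5,0,5,2,1,0,3,2,1,4,3,2,5,2,3,4,1,2,3,0,1,2,5,6,5,2,1,0,3,2,1,4,3,2,5,2,3,4,1,2,3,0,1,2,5,6,5,2,1,0,3,2,1,4,3,2,5,2,3,4,1,2,3,0,1,2,5,6,0,6,5,2,1,0,3,2,1,4,3,2,5,2,3,4,1,2,3,0,1,2,5,6,5,2,1,0,3,2,1,4,3,2,5,2,3,4,1,2,3,0,1,2,5,6,5,2,1,0,3,2,1,4,3,2])
 (Tr.leaf [3,2,5,2,3,4,1,2,3,0,1,2,5,6,5,2,1,0,3,2,1,4,3,2,5,2,3,4,1,2,3,0,1,2,5,4,5,2,1,0,3,2,1,4,3,2,5,2,3,4,1,2,3,0,1,2,5,6,5,2,1,0,3,2,1,4,3,2,5,2,3,4,1,2,3,0,1,2,5,6,5,2,1,0,3,2,1,4,3,2,5,2,3,4,1,2,3,0,1,2,5,6,4,6,5,2,1,0,3,2,1,4,3,2,5,2,3,4,1,2,3,0,1,2,5,6,5,2,1,0,3,2,1,4]))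
 (Tr.node (Tr.leaf [5,6,5,2,1,0,3,2,1,4,3,2,5,2,3,4,1,2,3,0,1,2,5,2,5,2,1,0,3,2,1,4,3,2,5,2,3,4,1,2,3,0,1,2,5,6,5,2,1,0,3,2,1,4,3,2,5,2,3,4,1,2,3,0,1,2,5,6,5,2,1,0,3,2,1,4,3,2,5,2,3,4,1,2,3,0,1,2,5,6,2,6,5,2,1,0,3,2,1,4,3,2,5,2,3,4,1,2,3,0,1,2,5,6,5,2,1,0,3,2,1,4,3,2,5,2,3,4,1,2,3,0,1,2])
 (Tr.leaf [1,2,5,6,5,2,1,0,3,2,1,4,3,2,5,2,3,4,1,2,3,0,1,2,5,6,5,2,1,0,3,2,1,4,3,2,5,2,3,4,1,2,3,0,1,2,5,6,5,2,1,0,3,2,1,4,3,2,5,2,3,4,1,2,3,0,1,2,5,6,5,2,1,0,3,2,1,4,3,2,5,2,3,4,1,2,3,0,1,2,5,6,5,2,1,0,3,2,1,4,3,2,5,2,3,4,1,2,3,0,1,2,5,6,6,6,5,2,1,0,3,2,1,4,3,2,5,2,3,4,1,2,3,0])))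
 (Tr.node (Tr.node (Tr.leaf [3,2,1,4,3,2,5,2,3,4,1,2,3,0,1,2,5,1,5,2,1,0,3,2,1,4,3,2,5,2,3,4,1,2,3,0,1,2,5,6,5,2,1,0,3,2,1,4,3,2,5,2,3,4,1,2,3,0,1,2,5,6,5,2,1,0,3,2,1,4,3,2,5,2,3,4,1,2,3,0,1,2,5,6,1,6,5,2,1,0,3,2,1,4,3,2,5,2,3,4,1,2,3,0,1,2,5,6,5,2,1,0,3,2,1,4,3,2,5,2,3,4,1,2,3,0,1,2,5,6,5,2,1,0])
 (Tr.leaf [1,0,3,2,1,4,3,2,5,2,3,4,1,2,3,0,1,2,5,6,5,2,1,0,3,2,1,4,3,2,5,2,3,4,1,2,3,0,1,2,5,5,5,2,1,0,3,2,1,4,3,2,5,2,3,4,1,2,3,0,1,2,5,6,5,2,1,0,3,2,1,4,3,2,5,2,3,4,1,2,3,0,1,2,5,6,5,2,1,0,3,2,1,4,3,2,5,2,3,4,1,2,3,0,1,2,5,6,5,6,5,2,1,0,3,2,1,4,3,2,5,2,3,4,1,2,3,0,1,2,5,6,5,2]))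
 (Tr.node (Tr.leaf [1,2,3,0,1,2,5,6,5,2,1,0,3,2,1,4,3,2,5,2,3,4,1,2,3,0,1,2,5,3,5,2,1,0,3,2,1,4,3,2,5,2,3,4,1,2,3,0,1,2,5,6,5,2,1,0,3,2,1,4,3,2,5,2,3,4,1,2,3,0,1,2,5,6,5,2,1,0,3,2,1,4,3,2,5,2,3,4,1,2,3,0,1,2,5,6,3,6,5,2,1,0,3,2,1,4,3,2,5,2,3,4,1,2,3,0,1,2,5,6,5,2,1,0,3,2,1,4,3,2,5,2,3,4])
 (Tr.leaf [6,6,6,5,2,1,0,3,2,1,4,3,2,5,2,3,4,1,2,3,0,1,2,5,6,5,2,1,0,3,2,1,4,3,2,5,2,3,4,1,2,3,0,1,2,5,6,5,2,1,0,3,2,1,4,3,2,5,2,3,4,1,2,3,0,1,2,5,6,5,2,1,0,3,2,1,4,3,2,5,2,3,4,1,2,3,0,1,2,5,6,5,2,1,0,3,2,1,4,3,2,5,2,3,4,1,2,3,0,1,2,5,6,5,2,1,0,3,2,1,4,3,2,5,2,3,4,1,2,3,0,1,2,5]))))))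
 (Tr.node (Tr.node (Tr.node (Tr.node (Tr.node (Tr.leaf [1,5,1,5])
 (Tr.leaf [1,2,5,6,5,2,1,0,3,2,1,4,3,2,5,2,3,4,1,2,3,0,1,2,5,6,5,2,1,0,3,2,1,4,3,2,5,2,3,4,1,2,3,0,1,2,5,6,3,6,5,2,1,0,3,2,1,4,3,2,5,2,3,4,1,2,3,0,1,2,5,6,5,2,1,0,3,2,1,4,3,2,5,2,3,4,1,2,3,0,1,2,5,6,5,2,1,0,3,2,1,4,3,2,5,2,3,4,1,2,3,0,1,2,5,3,5,2,1,0,3,2,1,4,3,2,5,2,3,4,1,2,3,0]))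
 (Tr.node (Tr.leaf [3,2,5,2,3,4,1,2,3,0,1,2,5,6,5,2,1,0,3,2,1,4,3,2,5,2,3,4,1,2,3,0,1,2,5,6,1,6,5,2,1,0,3,2,1,4,3,2,5,2,3,4,1,2,3,0,1,2,5,6,5,2,1,0,3,2,1,4,3,2,5,2,3,4,1,2,3,0,1,2,5,6,5,2,1,0,3,2,1,4,3,2,5,2,3,4,1,2,3,0,1,2,5,1,5,2,1,0,3,2,1,4,3,2,5,2,3,4,1,2,3,0,1,2,5,6,5,2,1,0,3,2,1,4])
 (Tr.leaf [1,4,3,2,5,2,3,4,1,2,3,0,1,2,5,6,5,2,1,0,3,2,1,4,3,2,5,2,3,4,1,2,3,0,1,2,5,6,5,2,1,0,3,2,1,4,3,2,5,2,3,4,1,2,3,0,1,2,5,6,5,6,5,2,1,0,3,2,1,4,3,2,5,2,3,4,1,2,3,0,1,2,5,6,5,2,1,0,3,2,1,4,3,2,5,2,3,4,1,2,3,0,1,2,5,6,5,2,1,0,3,2,1,4,3,2,5,2,3,4,1,2,3,0,1,2,5,5,5,2,1,0,3,2])))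
 (Tr.node (Tr.node (Tr.leaf [1,2,3,0,1,2,5,6,5,2,1,0,3,2,1,4,3,2,5,2,3,4,1,2,3,0,1,2,5,6,0,6,5,2,1,0,3,2,1,4,3,2,5,2,3,4,1,2,3,0,1,2,5,6,5,2,1,0,3,2,1,4,3,2,5,2,3,4,1,2,3,0,1,2,5,6,5,2,1,0,3,2,1,4,3,2,5,2,3,4,1,2,3,0,1,2,5,0,5,2,1,0,3,2,1,4,3,2,5,2,3,4,1,2,3,0,1,2,5,6,5,2,1,0,3,2,1,4,3,2,5,2,3,4])
 (Tr.leaf [3,4,1,2,3,0,1,2,5,6,5,2,1,0,3,2,1,4,3,2,5,2,3,4,1,2,3,0,1,2,5,6,5,2,1,0,3,2,1,4,3,2,5,2,3,4,1,2,3,0,1,2,5,6,4,6,5,2,1,0,3,2,1,4,3,2,5,2,3,4,1,2,3,0,1,2,5,6,5,2,1,0,3,2,1,4,3,2,5,2,3,4,1,2,3,0,1,2,5,6,5,2,1,0,3,2,1,4,3,2,5,2,3,4,1,2,3,0,1,2,5,4,5,2,1,0,3,2,1,4,3,2,5,2]))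
 (Tr.node (Tr.leaf [1,0,3,2,1,4,3,2,5,2,3,4,1,2,3,0,1,2,5,6,5,2,1,0,3,2,1,4,3,2,5,2,3,4,1,2,3,0,1,2,5,6,2,6,5,2,1,0,3,2,1,4,3,2,5,2,3,4,1,2,3,0,1,2,5,6,5,2,1,0,3,2,1,4,3,2,5,2,3,4,1,2,3,0,1,2,5,6,5,2,1,0,3,2,1,4,3,2,5,2,3,4,1,2,3,0,1,2,5,2,5,2,1,0,3,2,1,4,3,2,5,2,3,4,1,2,3,0,1,2,5,6,5,2])
 (Tr.leaf [5,2,1,0,3,2,1,4,3,2,5,2,3,4,1,2,3,0,1,2,5,6,5,2,1,0,3,2,1,4,3,2,5,2,3,4,1,2,3,0,1,2,5,6,5,2,1,0,3,2,1,4,3,2,5,2,3,4,1,2,3,0,1,2,5,6,6,6,5,2,1,0,3,2,1,4,3,2,5,2,3,4,1,2,3,0,1,2,5,6,5,2,1,0,3,2,1,4,3,2,5,2,3,4,1,2,3,0,1,2,5,6,5,2,1,0,3,2,1,4,3,2,5,2,3,4,1,2,3,0,1,2,5,6]))))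
 (Tr.node (Tr.node (Tr.node (Tr.leaf [3,0,1,2,5,6,5,2,1,0,3,2,1,4,3,2,5,2,3,4,1,2,3,0,1,2,5,0,5,2,1,0,3,2,1,4,3,2,5,2,3,4,1,2,3,0,1,2,5,6,5,2,1,0,3,2,1,4,3,2,5,2,3,4,1,2,3,0,1,2,5,6,5,2,1,0,3,2,1,4,3,2,5,2,3,4,1,2,3,0,1,2,5,6,0,6,5,2,1,0,3,2,1,4,3,2,5,2,3,4,1,2,3,0,1,2,5,6,5,2,1,0,3,2,1,4,3,2,5,2,3,4,1,2])
 (Tr.leaf [1,2,3,0,1,2,5,6,5,2,1,0,3,2,1,4,3,2,5,2,3,4,1,2,3,0,1,2,5,6,5,2,1,0,3,2,1,4,3,2,5,2,3,4,1,2,3,0,1,2,5,4,5,2,1,0,3,2,1,4,3,2,5,2,3,4,1,2,3,0,1,2,5,6,5,2,1,0,3,2,1,4,3,2,5,2,3,4,1,2,3,0,1,2,5,6,5,2,1,0,3,2,1,4,3,2,5,2,3,4,1,2,3,0,1,2,5,6,4,6,5,2,1,0,3,2,1,4,3,2,5,2,3,4]))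
 (Tr.node (Tr.leaf [3,2,1,4,3,2,5,2,3,4,1,2,3,0,1,2,5,6,5,2,1,0,3,2,1,4,3,2,5,2,3,4,1,2,3,0,1,2,5,2,5,2,1,0,3,2,1,4,3,2,5,2,3,4,1,2,3,0,1,2,5,6,5,2,1,0,3,2,1,4,3,2,5,2,3,4,1,2,3,0,1,2,5,6,5,2,1,0,3,2,1,4,3,2,5,2,3,4,1,2,3,0,1,2,5,6,2,6,5,2,1,0,3,2,1,4,3,2,5,2,3,4,1,2,3,0,1,2,5,6,5,2,1,0])
 (Tr.leaf [1,0,3,2,1,4,3,2,5,2,3,4,1,2,3,0,1,2,5,6,5,2,1,0,3,2,1,4,3,2,5,2,3,4,1,2,3,0,1,2,5,6,5,2,1,0,3,2,1,4,3,2,5,2,3,4,1,2,3,0,1,2,5,6,5,2,1,0,3,2,1,4,3,2,5,2,3,4,1,2,3,0,1,2,5,6,5,2,1,0,3,2,1,4,3,2,5,2,3,4,1,2,3,0,1,2,5,6,5,2,1,0,3,2,1,4,3,2,5,2,3,4,1,2,3,0,1,2,5,6,6,6,5,2])))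
 (Tr.node (Tr.node (Tr.leaf [5,2,3,4,1,2,3,0,1,2,5,6,5,2,1,0,3,2,1,4,3,2,5,2,3,4,1,2,3,0,1,2,5,1,5,2,1,0,3,2,1,4,3,2,5,2,3,4,1,2,3,0,1,2,5,6,5,2,1,0,3,2,1,4,3,2,5,2,3,4,1,2,3,0,1,2,5,6,5,2,1,0,3,2,1,4,3,2,5,2,3,4,1,2,3,0,1,2,5,6,1,6,5,2,1,0,3,2,1,4,3,2,5,2,3,4,1,2,3,0,1,2,5,6,5,2,1,0,3,2,1,4,3,2])
 (Tr.leaf [3,2,5,2,3,4,1,2,3,0,1,2,5,6,5,2,1,0,3,2,1,4,3,2,5,2,3,4,1,2,3,0,1,2,5,6,5,2,1,0,3,2,1,4,3,2,5,2,3,4,1,2,3,0,1,2,5,5,5,2,1,0,3,2,1,4,3,2,5,2,3,4,1,2,3,0,1,2,5,6,5,2,1,0,3,2,1,4,3,2,5,2,3,4,1,2,3,0,1,2,5,6,5,2,1,0,3,2,1,4,3,2,5,2,3,4,1,2,3,0,1,2,5,6,5,6,5,2,1,0,3,2,1,4]))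
 (Tr.node (Tr.leaf [5,6,5,2,1,0,3,2,1,4,3,2,5,2,3,4,1,2,3,0,1,2,5,6,5,2,1,0,3,2,1,4,3,2,5,2,3,4,1,2,3,0,1,2,5,3,5,2,1,0,3,2,1,4,3,2,5,2,3,4,1,2,3,0,1,2,5,6,5,2,1,0,3,2,1,4,3,2,5,2,3,4,1,2,3,0,1,2,5,6,5,2,1,0,3,2,1,4,3,2,5,2,3,4,1,2,3,0,1,2,5,6,3,6,5,2,1,0,3,2,1,4,3,2,5,2,3,4,1,2,3,0,1,2])
 (Tr.leaf [5,6,6,6,5,2,1,0,3,2,1,4,3,2,5,2,3,4,1,2,3,0,1,2,5,6,5,2,1,0,3,2,1,4,3,2,5,2,3,4,1,2,3,0,1,2,5,6,5,2,1,0,3,2,1,4,3,2,5,2,3,4,1,2,3,0,1,2,5,6,5,2,1,0,3,2,1,4,3,2,5,2,3,4,1,2,3,0,1,2,5,6,5,2,1,0,3,2,1,4,3,2,5,2,3,4,1,2,3,0,1,2,5,6,5,2,1,0,3,2,1,4,3,2,5,2,3,4,1,2,3,0,1,2])))))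
 (Tr.node (Tr.node (Tr.node (Tr.node (Tr.leaf [1,4,3,2,5,2,3,4,1,2,3,0,1,2,5,6,5,2,1,0,3,2,1,4,3,2,5,2,3,4,1,2,3,0,1,2,5,6,5,2,1,0,3,2,1,4,3,2,5,2,3,4,1,2,3,0,1,2,5,0,5,2,1,0,3,2,1,4,3,2,5,2,3,4,1,2,3,0,1,2,5,6,5,2,1,0,3,2,1,4,3,2,5,2,3,4,1,2,3,0,1,2,5,6,5,2,1,0,3,2,1,4,3,2,5,2,3,4,1,2,3,0,1,2,5,6,0,6,5,2,1,0,3,2])
 (Tr.leaf [1,4,3,2,5,2,3,4,1,2,3,0,1,2,5,6,3,6,5,2,1,0,3,2,1,4,3,2,5,2,3,4,1,2,3,0,1,2,5,6,5,2,1,0,3,2,1,4,3,2,5,2,3,4,1,2,3,0,1,2,5,6,5,2,1,0,3,2,1,4,3,2,5,2,3,4,1,2,3,0,1,2,5,3,5,2,1,0,3,2,1,4,3,2,5,2,3,4,1,2,3,0,1,2,5,6,5,2,1,0,3,2,1,4,3,2,5,2,3,4,1,2,3,0,1,2,5,6,5,2,1,0,3,2]))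
 (Tr.node (Tr.leaf [1,2,5,6,1,6,5,2,1,0,3,2,1,4,3,2,5,2,3,4,1,2,3,0,1,2,5,6,5,2,1,0,3,2,1,4,3,2,5,2,3,4,1,2,3,0,1,2,5,6,5,2,1,0,3,2,1,4,3,2,5,2,3,4,1,2,3,0,1,2,5,1,5,2,1,0,3,2,1,4,3,2,5,2,3,4,1,2,3,0,1,2,5,6,5,2,1,0,3,2,1,4,3,2,5,2,3,4,1,2,3,0,1,2,5,6,5,2,1,0,3,2,1,4,3,2,5,2,3,4,1,2,3,0])
 (Tr.leaf [3,0,1,2,5,6,5,2,1,0,3,2,1,4,3,2,5,2,3,4,1,2,3,0,1,2,5,6,5,6,5,2,1,0,3,2,1,4,3,2,5,2,3,4,1,2,3,0,1,2,5,6,5,2,1,0,3,2,1,4,3,2,5,2,3,4,1,2,3,0,1,2,5,6,5,2,1,0,3,2,1,4,3,2,5,2,3,4,1,2,3,0,1,2,5,5,5,2,1,0,3,2,1,4,3,2,5,2,3,4,1,2,3,0,1,2,5,6,5,2,1,0,3,2,1,4,3,2,5,2,3,4,1,2])))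
 (Tr.node (Tr.node (Tr.leaf [5,2,1,0,3,2,1,4,3,2,5,2,3,4,1,2,3,0,1,2,5,6,5,2,1,0,3,2,1,4,3,2,5,2,3,4,1,2,3,0,1,2,5,6,5,2,1,0,3,2,1,4,3,2,5,2,3,4,1,2,3,0,1,2,5,1,5,2,1,0,3,2,1,4,3,2,5,2,3,4,1,2,3,0,1,2,5,6,5,2,1,0,3,2,1,4,3,2,5,2,3,4,1,2,3,0,1,2,5,6,5,2,1,0,3,2,1,4,3,2,5,2,3,4,1,2,3,0,1,2,5,6,1,6])
 (Tr.leaf [5,2,1,0,3,2,1,4,3,2,5,2,3,4,1,2,3,0,1,2,5,6,4,6,5,2,1,0,3,2,1,4,3,2,5,2,3,4,1,2,3,0,1,2,5,6,5,2,1,0,3,2,1,4,3,2,5,2,3,4,1,2,3,0,1,2,5,6,5,2,1,0,3,2,1,4,3,2,5,2,3,4,1,2,3,0,1,2,5,4,5,2,1,0,3,2,1,4,3,2,5,2,3,4,1,2,3,0,1,2,5,6,5,2,1,0,3,2,1,4,3,2,5,2,3,4,1,2,3,0,1,2,5,6]))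
 (Tr.node (Tr.leaf [3,4,1,2,3,0,1,2,5,6,2,6,5,2,1,0,3,2,1,4,3,2,5,2,3,4,1,2,3,0,1,2,5,6,5,2,1,0,3,2,1,4,3,2,5,2,3,4,1,2,3,0,1,2,5,6,5,2,1,0,3,2,1,4,3,2,5,2,3,4,1,2,3,0,1,2,5,2,5,2,1,0,3,2,1,4,3,2,5,2,3,4,1,2,3,0,1,2,5,6,5,2,1,0,3,2,1,4,3,2,5,2,3,4,1,2,3,0,1,2,5,6,5,2,1,0,3,2,1,4,3,2,5,2])
 (Tr.leaf [5,2,3,4,1,2,3,0,1,2,5,6,5,2,1,0,3,2,1,4,3,2,5,2,3,4,1,2,3,0,1,2,5,6,6,6,5,2,1,0,3,2,1,4,3,2,5,2,3,4,1,2,3,0,1,2,5,6,5,2,1,0,3,2,1,4,3,2,5,2,3,4,1,2,3,0,1,2,5,6,5,2,1,0,3,2,1,4,3,2,5,2,3,4,1,2,3,0,1,2,5,6,5,2,1,0,3,2,1,4,3,2,5,2,3,4,1,2,3,0,1,2,5,6,5,2,1,0,3,2,1,4,3,2]))))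
 (Tr.node (Tr.node (Tr.node (Tr.leaf [3,2,1,4,3,2,5,2,3,4,1,2,3,0,1,2,5,6,5,2,1,0,3,2,1,4,3,2,5,2,3,4,1,2,3,0,1,2,5,6,5,2,1,0,3,2,1,4,3,2,5,2,3,4,1,2,3,0,1,2,5,6,0,6,5,2,1,0,3,2,1,4,3,2,5,2,3,4,1,2,3,0,1,2,5,6,5,2,1,0,3,2,1,4,3,2,5,2,3,4,1,2,3,0,1,2,5,6,5,2,1,0,3,2,1,4,3,2,5,2,3,4,1,2,3,0,1,2,5,0,5,2,1,0])
 (Tr.leaf [1,0,3,2,1,4,3,2,5,2,3,4,1,2,3,0,1,2,5,4,5,2,1,0,3,2,1,4,3,2,5,2,3,4,1,2,3,0,1,2,5,6,5,2,1,0,3,2,1,4,3,2,5,2,3,4,1,2,3,0,1,2,5,6,5,2,1,0,3,2,1,4,3,2,5,2,3,4,1,2,3,0,1,2,5,6,4,6,5,2,1,0,3,2,1,4,3,2,5,2,3,4,1,2,3,0,1,2,5,6,5,2,1,0,3,2,1,4,3,2,5,2,3,4,1,2,3,0,1,2,5,6,5,2]))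
 (Tr.node (Tr.leaf [1,2,3,0,1,2,5,2,5,2,1,0,3,2,1,4,3,2,5,2,3,4,1,2,3,0,1,2,5,6,5,2,1,0,3,2,1,4,3,2,5,2,3,4,1,2,3,0,1,2,5,6,5,2,1,0,3,2,1,4,3,2,5,2,3,4,1,2,3,0,1,2,5,6,2,6,5,2,1,0,3,2,1,4,3,2,5,2,3,4,1,2,3,0,1,2,5,6,5,2,1,0,3,2,1,4,3,2,5,2,3,4,1,2,3,0,1,2,5,6,5,2,1,0,3,2,1,4,3,2,5,2,3,4])
 (Tr.leaf [3,4,1,2,3,0,1,2,5,6,5,2,1,0,3,2,1,4,3,2,5,2,3,4,1,2,3,0,1,2,5,6,5,2,1,0,3,2,1,4,3,2,5,2,3,4,1,2,3,0,1,2,5,6,5,2,1,0,3,2,1,4,3,2,5,2,3,4,1,2,3,0,1,2,5,6,5,2,1,0,3,2,1,4,3,2,5,2,3,4,1,2,3,0,1,2,5,6,6,6,5,2,1,0,3,2,1,4,3,2,5,2,3,4,1,2,3,0,1,2,5,6,5,2,1,0,3,2,1,4,3,2,5,2])))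
 (Tr.node (Tr.node (Tr.leaf [5,1,5,2,1,0,3,2,1,4,3,2,5,2,3,4,1,2,3,0,1,2,5,6,5,2,1,0,3,2,1,4,3,2,5,2,3,4,1,2,3,0,1,2,5,6,5,2,1,0,3,2,1,4,3,2,5,2,3,4,1,2,3,0,1,2,5,6,1,6,5,2,1,0,3,2,1,4,3,2,5,2,3,4,1,2,3,0,1,2,5,6,5,2,1,0,3,2,1,4,3,2,5,2,3,4,1,2,3,0,1,2,5,6,5,2,1,0,3,2,1,4,3,2,5,2,3,4,1,2,3,0,1,2])
 (Tr.leaf [1,2,5,6,5,2,1,0,3,2,1,4,3,2,5,2,3,4,1,2,3,0,1,2,5,5,5,2,1,0,3,2,1,4,3,2,5,2,3,4,1,2,3,0,1,2,5,6,5,2,1,0,3,2,1,4,3,2,5,2,3,4,1,2,3,0,1,2,5,6,5,2,1,0,3,2,1,4,3,2,5,2,3,4,1,2,3,0,1,2,5,6,5,6,5,2,1,0,3,2,1,4,3,2,5,2,3,4,1,2,3,0,1,2,5,6,5,2,1,0,3,2,1,4,3,2,5,2,3,4,1,2,3,0]))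
 (Tr.node (Tr.leaf [3,2,5,2,3,4,1,2,3,0,1,2,5,3,5,2,1,0,3,2,1,4,3,2,5,2,3,4,1,2,3,0,1,2,5,6,5,2,1,0,3,2,1,4,3,2,5,2,3,4,1,2,3,0,1,2,5,6,5,2,1,0,3,2,1,4,3,2,5,2,3,4,1,2,3,0,1,2,5,6,3,6,5,2,1,0,3,2,1,4,3,2,5,2,3,4,1,2,3,0,1,2,5,6,5,2,1,0,3,2,1,4,3,2,5,2,3,4,1,2,3,0,1,2,5,6,5,2,1,0,3,2,1,4])
 (Tr.leaf [6,6,6,5,2,1,0,3,2,1,4,3,2,5,2,3,4,1,2,3,0,1,2,5,6,5,2,1,0,3,2,1,4,3,2,5,2,3,4,1,2,3,0,1,2,5,6,5,2,1,0,3,2,1,4,3,2,5,2,3,4,1,2,3,0,1,2,5,6,5,2,1,0,3,2,1,4,3,2,5,2,3,4,1,2,3,0,1,2,5,6,5,2,1,0,3,2,1,4,3,2,5,2,3,4,1,2,3,0,1,2,5,6,5,2,1,0,3,2,1,4,3,2,5,2,3,4,1,2,3,0,1,2,5]))))))))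
 (Tr.node (Tr.node (Tr.node (Tr.node (Tr.node (Tr.node (Tr.node (Tr.leaf [5,5])
 (Tr.leaf [5,3,5,2,1,0,3,2,1,4,3,2,5,2,3,4,1,2,3,0,1,2,5,6,5,2,1,0,3,2,1,4,3,2,5,2,3,4,1,2,3,0,1,2,5,6,5,2,1,0,3,2,1,4,3,2,5,2,3,4,1,2,3,0,1,2,5,6,3,6,5,2,1,0,3,2,1,4,3,2,5,2,3,4,1,2,3,0,1,2,5,6,5,2,1,0,3,2,1,4,3,2,5,2,3,4,1,2,3,0,1,2,5,6,5,2,1,0,3,2,1,4,3,2,5,2,3,4,1,2,3,0,1,2]))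
 (Tr.node (Tr.leaf [5,2,3,4,1,2,3,0,1,2,5,6,5,2,1,0,3,2,1,4,3,2,5,2,3,4,1,2,3,0,1,2,5,6,5,2,1,0,3,2,1,4,3,2,5,2,3,4,1,2,3,0,1,2,5,6,1,6,5,2,1,0,3,2,1,4,3,2,5,2,3,4,1,2,3,0,1,2,5,6,5,2,1,0,3,2,1,4,3,2,5,2,3,4,1,2,3,0,1,2,5,6,5,2,1,0,3,2,1,4,3,2,5,2,3,4,1,2,3,0,1,2,5,1,5,2,1,0,3,2,1,4,3,2])
 (Tr.leaf [3,2,5,2,3,4,1,2,3,0,1,2,5,5,5,2,1,0,3,2,1,4,3,2,5,2,3,4,1,2,3,0,1,2,5,6,5,2,1,0,3,2,1,4,3,2,5,2,3,4,1,2,3,0,1,2,5,6,5,2,1,0,3,2,1,4,3,2,5,2,3,4,1,2,3,0,1,2,5,6,5,6,5,2,1,0,3,2,1,4,3,2,5,2,3,4,1,2,3,0,1,2,5,6,5,2,1,0,3,2,1,4,3,2,5,2,3,4,1,2,3,0,1,2,5,6,5,2,1,0,3,2,1,4])))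
 (Tr.node (Tr.node (Tr.leaf [3,0,1,2,5,6,5,2,1,0,3,2,1,4,3,2,5,2,3,4,1,2,3,0,1,2,5,6,5,2,1,0,3,2,1,4,3,2,5,2,3,4,1,2,3,0,1,2,5,6,0,6,5,2,1,0,3,2,1,4,3,2,5,2,3,4,1,2,3,0,1,2,5,6,5,2,1,0,3,2,1,4,3,2,5,2,3,4,1,2,3,0,1,2,5,6,5,2,1,0,3,2,1,4,3,2,5,2,3,4,1,2,3,0,1,2,5,0,5,2,1,0,3,2,1,4,3,2,5,2,3,4,1,2])
 (Tr.leaf [1,2,3,0,1,2,5,4,5,2,1,0,3,2,1,4,3,2,5,2,3,4,1,2,3,0,1,2,5,6,5,2,1,0,3,2,1,4,3,2,5,2,3,4,1,2,3,0,1,2,5,6,5,2,1,0,3,2,1,4,3,2,5,2,3,4,1,2,3,0,1,2,5,6,4,6,5,2,1,0,3,2,1,4,3,2,5,2,3,4,1,2,3,0,1,2,5,6,5,2,1,0,3,2,1,4,3,2,5,2,3,4,1,2,3,0,1,2,5,6,5,2,1,0,3,2,1,4,3,2,5,2,3,4]))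
 (Tr.node (Tr.leaf [3,2,1,4,3,2,5,2,3,4,1,2,3,0,1,2,5,6,5,2,1,0,3,2,1,4,3,2,5,2,3,4,1,2,3,0,1,2,5,6,5,2,1,0,3,2,1,4,3,2,5,2,3,4,1,2,3,0,1,2,5,6,2,6,5,2,1,0,3,2,1,4,3,2,5,2,3,4,1,2,3,0,1,2,5,6,5,2,1,0,3,2,1,4,3,2,5,2,3,4,1,2,3,0,1,2,5,6,5,2,1,0,3,2,1,4,3,2,5,2,3,4,1,2,3,0,1,2,5,2,5,2,1,0])
 (Tr.leaf [1,0,3,2,1,4,3,2,5,2,3,4,1,2,3,0,1,2,5,6,5,2,1,0,3,2,1,4,3,2,5,2,3,4,1,2,3,0,1,2,5,6,5,2,1,0,3,2,1,4,3,2,5,2,3,4,1,2,3,0,1,2,5,6,5,2,1,0,3,2,1,4,3,2,5,2,3,4,1,2,3,0,1,2,5,6,6,6,5,2,1,0,3,2,1,4,3,2,5,2,3,4,1,2,3,0,1,2,5,6,5,2,1,0,3,2,1,4,3,2,5,2,3,4,1,2,3,0,1,2,5,6,5,2]))))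
 (Tr.node (Tr.node (Tr.node (Tr.leaf [1,2,5,6,5,2,1,0,3,2,1,4,3,2,5,2,3,4,1,2,3,0,1,2,5,6,5,2,1,0,3,2,1,4,3,2,5,2,3,4,1,2,3,0,1,2,5,0,5,2,1,0,3,2,1,4,3,2,5,2,3,4,1,2,3,0,1,2,5,6,5,2,1,0,3,2,1,4,3,2,5,2,3,4,1,2,3,0,1,2,5,6,5,2,1,0,3,2,1,4,3,2,5,2,3,4,1,2,3,0,1,2,5,6,0,6,5,2,1,0,3,2,1,4,3,2,5,2,3,4,1,2,3,0])
 (Tr.leaf [1,2,5,6,3,6,5,2,1,0,3,2,1,4,3,2,5,2,3,4,1,2,3,0,1,2,5,6,5,2,1,0,3,2,1,4,3,2,5,2,3,4,1,2,3,0,1,2,5,6,5,2,1,0,3,2,1,4,3,2,5,2,3,4,1,2,3,0,1,2,5,3,5,2,1,0,3,2,1,4,3,2,5,2,3,4,1,2,3,0,1,2,5,6,5,2,1,0,3,2,1,4,3,2,5,2,3,4,1,2,3,0,1,2,5,6,5,2,1,0,3,2,1,4,3,2,5,2,3,4,1,2,3,0]))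
 (Tr.node (Tr.leaf [1,4,3,2,5,2,3,4,1,2,3,0,1,2,5,6,5,2,1,0,3,2,1,4,3,2,5,2,3,4,1,2,3,0,1,2,5,6,5,2,1,0,3,2,1,4,3,2,5,2,3,4,1,2,3,0,1,2,5,2,5,2,1,0,3,2,1,4,3,2,5,2,3,4,1,2,3,0,1,2,5,6,5,2,1,0,3,2,1,4,3,2,5,2,3,4,1,2,3,0,1,2,5,6,5,2,1,0,3,2,1,4,3,2,5,2,3,4,1,2,3,0,1,2,5,6,2,6,5,2,1,0,3,2])
 (Tr.leaf [1,4,3,2,5,2,3,4,1,2,3,0,1,2,5,6,5,6,5,2,1,0,3,2,1,4,3,2,5,2,3,4,1,2,3,0,1,2,5,6,5,2,1,0,3,2,1,4,3,2,5,2,3,4,1,2,3,0,1,2,5,6,5,2,1,0,3,2,1,4,3,2,5,2,3,4,1,2,3,0,1,2,5,5,5,2,1,0,3,2,1,4,3,2,5,2,3,4,1,2,3,0,1,2,5,6,5,2,1,0,3,2,1,4,3,2,5,2,3,4,1,2,3,0,1,2,5,6,5,2,1,0,3,2])))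
 (Tr.node (Tr.node (Tr.leaf [3,4,1,2,3,0,1,2,5,6,5,2,1,0,3,2,1,4,3,2,5,2,3,4,1,2,3,0,1,2,5,6,5,2,1,0,3,2,1,4,3,2,5,2,3,4,1,2,3,0,1,2,5,1,5,2,1,0,3,2,1,4,3,2,5,2,3,4,1,2,3,0,1,2,5,6,5,2,1,0,3,2,1,4,3,2,5,2,3,4,1,2,3,0,1,2,5,6,5,2,1,0,3,2,1,4,3,2,5,2,3,4,1,2,3,0,1,2,5,6,1,6,5,2,1,0,3,2,1,4,3,2,5,2])
 (Tr.leaf [3,4,1,2,3,0,1,2,5,6,4,6,5,2,1,0,3,2,1,4,3,2,5,2,3,4,1,2,3,0,1,2,5,6,5,2,1,0,3,2,1,4,3,2,5,2,3,4,1,2,3,0,1,2,5,6,5,2,1,0,3,2,1,4,3,2,5,2,3,4,1,2,3,0,1,2,5,4,5,2,1,0,3,2,1,4,3,2,5,2,3,4,1,2,3,0,1,2,5,6,5,2,1,0,3,2,1,4,3,2,5,2,3,4,1,2,3,0,1,2,5,6,5,2,1,0,3,2,1,4,3,2,5,2]))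
 (Tr.node (Tr.leaf [5,2,1,0,3,2,1,4,3,2,5,2,3,4,1,2,3,0,1,2,5,6,5,2,1,0,3,2,1,4,3,2,5,2,3,4,1,2,3,0,1,2,5,6,5,2,1,0,3,2,1,4,3,2,5,2,3,4,1,2,3,0,1,2,5,3,5,2,1,0,3,2,1,4,3,2,5,2,3,4,1,2,3,0,1,2,5,6,5,2,1,0,3,2,1,4,3,2,5,2,3,4,1,2,3,0,1,2,5,6,5,2,1,0,3,2,1,4,3,2,5,2,3,4,1,2,3,0,1,2,5,6,3,6])
 (Tr.leaf [5,2,1,0,3,2,1,4,3,2,5,2,3,4,1,2,3,0,1,2,5,6,6,6,5,2,1,0,3,2,1,4,3,2,5,2,3,4,1,2,3,0,1,2,5,6,5,2,1,0,3,2,1,4,3,2,5,2,3,4,1,2,3,0,1,2,5,6,5,2,1,0,3,2,1,4,3,2,5,2,3,4,1,2,3,0,1,2,5,6,5,2,1,0,3,2,1,4,3,2,5,2,3,4,1,2,3,0,1,2,5,6,5,2,1,0,3,2,1,4,3,2,5,2,3,4,1,2,3,0,1,2,5,6])))))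
 (Tr.node (Tr.node (Tr.node (Tr.node (Tr.leaf [3,4,3,4,3,4])
 (Tr.leaf [3,2,5,2,3,4,1,2,3,0,1,2,5,6,5,2,1,0,3,2,1,4,3,2,5,2,3,4,1,2,3,0,1,2,5,6,3,6,5,2,1,0,3,2,1,4,3,2,5,2,3,4,1,2,3,0,1,2,5,6,5,2,1,0,3,2,1,4,3,2,5,2,3,4,1,2,3,0,1,2,5,6,5,2,1,0,3,2,1,4,3,2,5,2,3,4,1,2,3,0,1,2,5,3,5,2,1,0,3,2,1,4,3,2,5,2,3,4,1,2,3,0,1,2,5,6,5,2,1,0,3,2,1,4]))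
 (Tr.node (Tr.leaf [5,6,5,2,1,0,3,2,1,4,3,2,5,2,3,4,1,2,3,0,1,2,5,6,1,6,5,2,1,0,3,2,1,4,3,2,5,2,3,4,1,2,3,0,1,2,5,6,5,2,1,0,3,2,1,4,3,2,5,2,3,4,1,2,3,0,1,2,5,6,5,2,1,0,3,2,1,4,3,2,5,2,3,4,1,2,3,0,1,2,5,1,5,2,1,0,3,2,1,4,3,2,5,2,3,4,1,2,3,0,1,2,5,6,5,2,1,0,3,2,1,4,3,2,5,2,3,4,1,2,3,0,1,2])
 (Tr.leaf [1,2,5,6,5,2,1,0,3,2,1,4,3,2,5,2,3,4,1,2,3,0,1,2,5,6,5,2,1,0,3,2,1,4,3,2,5,2,3,4,1,2,3,0,1,2,5,6,5,6,5,2,1,0,3,2,1,4,3,2,5,2,3,4,1,2,3,0,1,2,5,6,5,2,1,0,3,2,1,4,3,2,5,2,3,4,1,2,3,0,1,2,5,6,5,2,1,0,3,2,1,4,3,2,5,2,3,4,1,2,3,0,1,2,5,5,5,2,1,0,3,2,1,4,3,2,5,2,3,4,1,2,3,0])))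
 (Tr.node (Tr.node (Tr.leaf [3,2,1,4,3,2,5,2,3,4,1,2,3,0,1,2,5,6,0,6,5,2,1,0,3,2,1,4,3,2,5,2,3,4,1,2,3,0,1,2,5,6,5,2,1,0,3,2,1,4,3,2,5,2,3,4,1,2,3,0,1,2,5,6,5,2,1,0,3,2,1,4,3,2,5,2,3,4,1,2,3,0,1,2,5,0,5,2,1,0,3,2,1,4,3,2,5,2,3,4,1,2,3,0,1,2,5,6,5,2,1,0,3,2,1,4,3,2,5,2,3,4,1,2,3,0,1,2,5,6,5,2,1,0])
 (Tr.leaf [1,0,3,2,1,4,3,2,5,2,3,4,1,2,3,0,1,2,5,6,5,2,1,0,3,2,1,4,3,2,5,2,3,4,1,2,3,0,1,2,5,6,4,6,5,2,1,0,3,2,1,4,3,2,5,2,3,4,1,2,3,0,1,2,5,6,5,2,1,0,3,2,1,4,3,2,5,2,3,4,1,2,3,0,1,2,5,6,5,2,1,0,3,2,1,4,3,2,5,2,3,4,1,2,3,0,1,2,5,4,5,2,1,0,3,2,1,4,3,2,5,2,3,4,1,2,3,0,1,2,5,6,5,2]))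
 (Tr.node (Tr.leaf [1,2,3,0,1,2,5,6,5,2,1,0,3,2,1,4,3,2,5,2,3,4,1,2,3,0,1,2,5,6,2,6,5,2,1,0,3,2,1,4,3,2,5,2,3,4,1,2,3,0,1,2,5,6,5,2,1,0,3,2,1,4,3,2,5,2,3,4,1,2,3,0,1,2,5,6,5,2,1,0,3,2,1,4,3,2,5,2,3,4,1,2,3,0,1,2,5,2,5,2,1,0,3,2,1,4,3,2,5,2,3,4,1,2,3,0,1,2,5,6,5,2,1,0,3,2,1,4,3,2,5,2,3,4])
 (Tr.leaf [3,4,1,2,3,0,1,2,5,6,5,2,1,0,3,2,1,4,3,2,5,2,3,4,1,2,3,0,1,2,5,6,5,2,1,0,3,2,1,4,3,2,5,2,3,4,1,2,3,0,1,2,5,6,6,6,5,2,1,0,3,2,1,4,3,2,5,2,3,4,1,2,3,0,1,2,5,6,5,2,1,0,3,2,1,4,3,2,5,2,3,4,1,2,3,0,1,2,5,6,5,2,1,0,3,2,1,4,3,2,5,2,3,4,1,2,3,0,1,2,5,6,5,2,1,0,3,2,1,4,3,2,5,2]))))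
 (Tr.node (Tr.node (Tr.node (Tr.leaf [1,4,3,2,5,2,3,4,1,2,3,0,1,2,5,0,5,2,1,0,3,2,1,4,3,2,5,2,3,4,1,2,3,0,1,2,5,6,5,2,1,0,3,2,1,4,3,2,5,2,3,4,1,2,3,0,1,2,5,6,5,2,1,0,3,2,1,4,3,2,5,2,3,4,1,2,3,0,1,2,5,6,0,6,5,2,1,0,3,2,1,4,3,2,5,2,3,4,1,2,3,0,1,2,5,6,5,2,1,0,3,2,1,4,3,2,5,2,3,4,1,2,3,0,1,2,5,6,5,2,1,0,3,2])
 (Tr.leaf [3,2,1,4,3,2,5,2,3,4,1,2,3,0,1,2,5,6,5,2,1,0,3,2,1,4,3,2,5,2,3,4,1,2,3,0,1,2,5,4,5,2,1,0,3,2,1,4,3,2,5,2,3,4,1,2,3,0,1,2,5,6,5,2,1,0,3,2,1,4,3,2,5,2,3,4,1,2,3,0,1,2,5,6,5,2,1,0,3,2,1,4,3,2,5,2,3,4,1,2,3,0,1,2,5,6,4,6,5,2,1,0,3,2,1,4,3,2,5,2,3,4,1,2,3,0,1,2,5,6,5,2,1,0]))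
 (Tr.node (Tr.leaf [3,0,1,2,5,6,5,2,1,0,3,2,1,4,3,2,5,2,3,4,1,2,3,0,1,2,5,2,5,2,1,0,3,2,1,4,3,2,5,2,3,4,1,2,3,0,1,2,5,6,5,2,1,0,3,2,1,4,3,2,5,2,3,4,1,2,3,0,1,2,5,6,5,2,1,0,3,2,1,4,3,2,5,2,3,4,1,2,3,0,1,2,5,6,2,6,5,2,1,0,3,2,1,4,3,2,5,2,3,4,1,2,3,0,1,2,5,6,5,2,1,0,3,2,1,4,3,2,5,2,3,4,1,2])
 (Tr.leaf [1,2,3,0,1,2,5,6,5,2,1,0,3,2,1,4,3,2,5,2,3,4,1,2,3,0,1,2,5,6,5,2,1,0,3,2,1,4,3,2,5,2,3,4,1,2,3,0,1,2,5,6,5,2,1,0,3,2,1,4,3,2,5,2,3,4,1,2,3,0,1,2,5,6,5,2,1,0,3,2,1,4,3,2,5,2,3,4,1,2,3,0,1,2,5,6,5,2,1,0,3,2,1,4,3,2,5,2,3,4,1,2,3,0,1,2,5,6,6,6,5,2,1,0,3,2,1,4,3,2,5,2,3,4])))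
 (Tr.node (Tr.node (Tr.leaf [5,2,1,0,3,2,1,4,3,2,5,2,3,4,1,2,3,0,1,2,5,1,5,2,1,0,3,2,1,4,3,2,5,2,3,4,1,2,3,0,1,2,5,6,5,2,1,0,3,2,1,4,3,2,5,2,3,4,1,2,3,0,1,2,5,6,5,2,1,0,3,2,1,4,3,2,5,2,3,4,1,2,3,0,1,2,5,6,1,6,5,2,1,0,3,2,1,4,3,2,5,2,3,4,1,2,3,0,1,2,5,6,5,2,1,0,3,2,1,4,3,2,5,2,3,4,1,2,3,0,1,2,5,6])
 (Tr.leaf [5,6,5,2,1,0,3,2,1,4,3,2,5,2,3,4,1,2,3,0,1,2,5,6,5,2,1,0,3,2,1,4,3,2,5,2,3,4,1,2,3,0,1,2,5,5,5,2,1,0,3,2,1,4,3,2,5,2,3,4,1,2,3,0,1,2,5,6,5,2,1,0,3,2,1,4,3,2,5,2,3,4,1,2,3,0,1,2,5,6,5,2,1,0,3,2,1,4,3,2,5,2,3,4,1,2,3,0,1,2,5,6,5,6,5,2,1,0,3,2,1,4,3,2,5,2,3,4,1,2,3,0,1,2]))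
 (Tr.node (Tr.leaf [5,2,3,4,1,2,3,0,1,2,5,6,5,2,1,0,3,2,1,4,3,2,5,2,3,4,1,2,3,0,1,2,5,3,5,2,1,0,3,2,1,4,3,2,5,2,3,4,1,2,3,0,1,2,5,6,5,2,1,0,3,2,1,4,3,2,5,2,3,4,1,2,3,0,1,2,5,6,5,2,1,0,3,2,1,4,3,2,5,2,3,4,1,2,3,0,1,2,5,6,3,6,5,2,1,0,3,2,1,4,3,2,5,2,3,4,1,2,3,0,1,2,5,6,5,2,1,0,3,2,1,4,3,2])
 (Tr.leaf [6,6,6,5,2,1,0,3,2,1,4,3,2,5,2,3,4,1,2,3,0,1,2,5,6,5,2,1,0,3,2,1,4,3,2,5,2,3,4,1,2,3,0,1,2,5,6,5,2,1,0,3,2,1,4,3,2,5,2,3,4,1,2,3,0,1,2,5,6,5,2,1,0,3,2,1,4,3,2,5,2,3,4,1,2,3,0,1,2,5,6,5,2,1,0,3,2,1,4,3,2,5,2,3,4,1,2,3,0,1,2,5,6,5,2,1,0,3,2,1,4,3,2,5,2,3,4,1,2,3,0,1,2,5]))))))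
 (Tr.node (Tr.node (Tr.node (Tr.node (Tr.node (Tr.leaf [1,3,1,3])
 (Tr.leaf [1,2,3,0,1,2,5,6,5,2,1,0,3,2,1,4,3,2,5,2,3,4,1,2,3,0,1,2,5,6,5,2,1,0,3,2,1,4,3,2,5,2,3,4,1,2,3,0,1,2,5,6,3,6,5,2,1,0,3,2,1,4,3,2,5,2,3,4,1,2,3,0,1,2,5,6,5,2,1,0,3,2,1,4,3,2,5,2,3,4,1,2,3,0,1,2,5,6,5,2,1,0,3,2,1,4,3,2,5,2,3,4,1,2,3,0,1,2,5,3,5,2,1,0,3,2,1,4,3,2,5,2,3,4]))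
 (Tr.node (Tr.leaf [3,2,1,4,3,2,5,2,3,4,1,2,3,0,1,2,5,6,5,2,1,0,3,2,1,4,3,2,5,2,3,4,1,2,3,0,1,2,5,6,1,6,5,2,1,0,3,2,1,4,3,2,5,2,3,4,1,2,3,0,1,2,5,6,5,2,1,0,3,2,1,4,3,2,5,2,3,4,1,2,3,0,1,2,5,6,5,2,1,0,3,2,1,4,3,2,5,2,3,4,1,2,3,0,1,2,5,1,5,2,1,0,3,2,1,4,3,2,5,2,3,4,1,2,3,0,1,2,5,6,5,2,1,0])
 (Tr.leaf [1,0,3,2,1,4,3,2,5,2,3,4,1,2,3,0,1,2,5,6,5,2,1,0,3,2,1,4,3,2,5,2,3,4,1,2,3,0,1,2,5,6,5,2,1,0,3,2,1,4,3,2,5,2,3,4,1,2,3,0,1,2,5,6,5,6,5,2,1,0,3,2,1,4,3,2,5,2,3,4,1,2,3,0,1,2,5,6,5,2,1,0,3,2,1,4,3,2,5,2,3,4,1,2,3,0,1,2,5,6,5,2,1,0,3,2,1,4,3,2,5,2,3,4,1,2,3,0,1,2,5,5,5,2])))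
 (Tr.node (Tr.node (Tr.leaf [5,2,3,4,1,2,3,0,1,2,5,6,5,2,1,0,3,2,1,4,3,2,5,2,3,4,1,2,3,0,1,2,5,6,0,6,5,2,1,0,3,2,1,4,3,2,5,2,3,4,1,2,3,0,1,2,5,6,5,2,1,0,3,2,1,4,3,2,5,2,3,4,1,2,3,0,1,2,5,6,5,2,1,0,3,2,1,4,3,2,5,2,3,4,1,2,3,0,1,2,5,0,5,2,1,0,3,2,1,4,3,2,5,2,3,4,1,2,3,0,1,2,5,6,5,2,1,0,3,2,1,4,3,2])
 (Tr.leaf [3,2,5,2,3,4,1,2,3,0,1,2,5,6,5,2,1,0,3,2,1,4,3,2,5,2,3,4,1,2,3,0,1,2,5,6,5,2,1,0,3,2,1,4,3,2,5,2,3,4,1,2,3,0,1,2,5,6,4,6,5,2,1,0,3,2,1,4,3,2,5,2,3,4,1,2,3,0,1,2,5,6,5,2,1,0,3,2,1,4,3,2,5,2,3,4,1,2,3,0,1,2,5,6,5,2,1,0,3,2,1,4,3,2,5,2,3,4,1,2,3,0,1,2,5,4,5,2,1,0,3,2,1,4]))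
 (Tr.node (Tr.leaf [5,6,5,2,1,0,3,2,1,4,3,2,5,2,3,4,1,2,3,0,1,2,5,6,5,2,1,0,3,2,1,4,3,2,5,2,3,4,1,2,3,0,1,2,5,6,2,6,5,2,1,0,3,2,1,4,3,2,5,2,3,4,1,2,3,0,1,2,5,6,5,2,1,0,3,2,1,4,3,2,5,2,3,4,1,2,3,0,1,2,5,6,5,2,1,0,3,2,1,4,3,2,5,2,3,4,1,2,3,0,1,2,5,2,5,2,1,0,3,2,1,4,3,2,5,2,3,4,1,2,3,0,1,2])
 (Tr.leaf [1,2,5,6,5,2,1,0,3,2,1,4,3,2,5,2,3,4,1,2,3,0,1,2,5,6,5,2,1,0,3,2,1,4,3,2,5,2,3,4,1,2,3,0,1,2,5,6,5,2,1,0,3,2,1,4,3,2,5,2,3,4,1,2,3,0,1,2,5,6,6,6,5,2,1,0,3,2,1,4,3,2,5,2,3,4,1,2,3,0,1,2,5,6,5,2,1,0,3,2,1,4,3,2,5,2,3,4,1,2,3,0,1,2,5,6,5,2,1,0,3,2,1,4,3,2,5,2,3,4,1,2,3,0]))))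
 (Tr.node (Tr.node (Tr.node (Tr.leaf [3,4,1,2,3,0,1,2,5,6,5,2,1,0,3,2,1,4,3,2,5,2,3,4,1,2,3,0,1,2,5,0,5,2,1,0,3,2,1,4,3,2,5,2,3,4,1,2,3,0,1,2,5,6,5,2,1,0,3,2,1,4,3,2,5,2,3,4,1,2,3,0,1,2,5,6,5,2,1,0,3,2,1,4,3,2,5,2,3,4,1,2,3,0,1,2,5,6,0,6,5,2,1,0,3,2,1,4,3,2,5,2,3,4,1,2,3,0,1,2,5,6,5,2,1,0,3,2,1,4,3,2,5,2])
 (Tr.leaf [5,2,3,4,1,2,3,0,1,2,5,6,5,2,1,0,3,2,1,4,3,2,5,2,3,4,1,2,3,0,1,2,5,6,5,2,1,0,3,2,1,4,3,2,5,2,3,4,1,2,3,0,1,2,5,4,5,2,1,0,3,2,1,4,3,2,5,2,3,4,1,2,3,0,1,2,5,6,5,2,1,0,3,2,1,4,3,2,5,2,3,4,1,2,3,0,1,2,5,6,5,2,1,0,3,2,1,4,3,2,5,2,3,4,1,2,3,0,1,2,5,6,4,6,5,2,1,0,3,2,1,4,3,2]))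
 (Tr.node (Tr.leaf [5,2,1,0,3,2,1,4,3,2,5,2,3,4,1,2,3,0,1,2,5,6,5,2,1,0,3,2,1,4,3,2,5,2,3,4,1,2,3,0,1,2,5,2,5,2,1,0,3,2,1,4,3,2,5,2,3,4,1,2,3,0,1,2,5,6,5,2,1,0,3,2,1,4,3,2,5,2,3,4,1,2,3,0,1,2,5,6,5,2,1,0,3,2,1,4,3,2,5,2,3,4,1,2,3,0,1,2,5,6,2,6,5,2,1,0,3,2,1,4,3,2,5,2,3,4,1,2,3,0,1,2,5,6])
 (Tr.leaf [6,5,2,1,0,3,2,1,4,3,2,5,2,3,4,1,2,3,0,1,2,5,6,5,2,1,0,3,2,1,4,3,2,5,2,3,4,1,2,3,0,1,2,5,6,5,2,1,0,3,2,1,4,3,2,5,2,3,4,1,2,3,0,1,2,5,6,5,2,1,0,3,2,1,4,3,2,5,2,3,4,1,2,3,0,1,2,5,6,5,2,1,0,3,2,1,4,3,2,5,2,3,4,1,2,3,0,1,2,5,6,5,2,1,0,3,2,1,4,3,2,5,2,3,4,1,2,3,0,1,2,5,6,6])))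
 (Tr.node (Tr.node (Tr.leaf [1,4,3,2,5,2,3,4,1,2,3,0,1,2,5,6,5,2,1,0,3,2,1,4,3,2,5,2,3,4,1,2,3,0,1,2,5,1,5,2,1,0,3,2,1,4,3,2,5,2,3,4,1,2,3,0,1,2,5,6,5,2,1,0,3,2,1,4,3,2,5,2,3,4,1,2,3,0,1,2,5,6,5,2,1,0,3,2,1,4,3,2,5,2,3,4,1,2,3,0,1,2,5,6,1,6,5,2,1,0,3,2,1,4,3,2,5,2,3,4,1,2,3,0,1,2,5,6,5,2,1,0,3,2])
 (Tr.leaf [3,2,1,4,3,2,5,2,3,4,1,2,3,0,1,2,5,6,5,2,1,0,3,2,1,4,3,2,5,2,3,4,1,2,3,0,1,2,5,6,5,2,1,0,3,2,1,4,3,2,5,2,3,4,1,2,3,0,1,2,5,5,5,2,1,0,3,2,1,4,3,2,5,2,3,4,1,2,3,0,1,2,5,6,5,2,1,0,3,2,1,4,3,2,5,2,3,4,1,2,3,0,1,2,5,6,5,2,1,0,3,2,1,4,3,2,5,2,3,4,1,2,3,0,1,2,5,6,5,6,5,2,1,0]))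
 (Tr.node (Tr.leaf [3,0,1,2,5,6,5,2,1,0,3,2,1,4,3,2,5,2,3,4,1,2,3,0,1,2,5,6,5,2,1,0,3,2,1,4,3,2,5,2,3,4,1,2,3,0,1,2,5,3,5,2,1,0,3,2,1,4,3,2,5,2,3,4,1,2,3,0,1,2,5,6,5,2,1,0,3,2,1,4,3,2,5,2,3,4,1,2,3,0,1,2,5,6,5,2,1,0,3,2,1,4,3,2,5,2,3,4,1,2,3,0,1,2,5,6,3,6,5,2,1,0,3,2,1,4,3,2,5,2,3,4,1,2])
 (Tr.leaf [3,0,1,2,5,6,6,6,5,2,1,0,3,2,1,4,3,2,5,2,3,4,1,2,3,0,1,2,5,6,5,2,1,0,3,2,1,4,3,2,5,2,3,4,1,2,3,0,1,2,5,6,5,2,1,0,3,2,1,4,3,2,5,2,3,4,1,2,3,0,1,2,5,6,5,2,1,0,3,2,1,4,3,2,5,2,3,4,1,2,3,0,1,2,5,6,5,2,1,0,3,2,1,4,3,2,5,2,3,4,1,2,3,0,1,2,5,6,5,2,1,0,3,2,1,4,3,2,5,2,3,4,1,2])))))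
 (Tr.node (Tr.node (Tr.node (Tr.node (Tr.leaf [1,0,3,2,1,4,3,2,5,2,3,4,1,2,3,0,1,2,5,6,5,2,1,0,3,2,1,4,3,2,5,2,3,4,1,2,3,0,1,2,5,6,5,2,1,0,3,2,1,4,3,2,5,2,3,4,1,2,3,0,1,2,5,0,5,2,1,0,3,2,1,4,3,2,5,2,3,4,1,2,3,0,1,2,5,6,5,2,1,0,3,2,1,4,3,2,5,2,3,4,1,2,3,0,1,2,5,6,5,2,1,0,3,2,1,4,3,2,5,2,3,4,1,2,3,0,1,2,5,6,0,6,5,2])
 (Tr.leaf [1,0,3,2,1,4,3,2,5,2,3,4,1,2,3,0,1,2,5,6,3,6,5,2,1,0,3,2,1,4,3,2,5,2,3,4,1,2,3,0,1,2,5,6,5,2,1,0,3,2,1,4,3,2,5,2,3,4,1,2,3,0,1,2,5,6,5,2,1,0,3,2,1,4,3,2,5,2,3,4,1,2,3,0,1,2,5,3,5,2,1,0,3,2,1,4,3,2,5,2,3,4,1,2,3,0,1,2,5,6,5,2,1,0,3,2,1,4,3,2,5,2,3,4,1,2,3,0,1,2,5,6,5,2]))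
 (Tr.node (Tr.leaf [1,2,3,0,1,2,5,6,1,6,5,2,1,0,3,2,1,4,3,2,5,2,3,4,1,2,3,0,1,2,5,6,5,2,1,0,3,2,1,4,3,2,5,2,3,4,1,2,3,0,1,2,5,6,5,2,1,0,3,2,1,4,3,2,5,2,3,4,1,2,3,0,1,2,5,1,5,2,1,0,3,2,1,4,3,2,5,2,3,4,1,2,3,0,1,2,5,6,5,2,1,0,3,2,1,4,3,2,5,2,3,4,1,2,3,0,1,2,5,6,5,2,1,0,3,2,1,4,3,2,5,2,3,4])
 (Tr.leaf [3,4,1,2,3,0,1,2,5,6,5,2,1,0,3,2,1,4,3,2,5,2,3,4,1,2,3,0,1,2,5,6,5,6,5,2,1,0,3,2,1,4,3,2,5,2,3,4,1,2,3,0,1,2,5,6,5,2,1,0,3,2,1,4,3,2,5,2,3,4,1,2,3,0,1,2,5,6,5,2,1,0,3,2,1,4,3,2,5,2,3,4,1,2,3,0,1,2,5,5,5,2,1,0,3,2,1,4,3,2,5,2,3,4,1,2,3,0,1,2,5,6,5,2,1,0,3,2,1,4,3,2,5,2])))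
 (Tr.node (Tr.node (Tr.leaf [5,6,0,6,5,2,1,0,3,2,1,4,3,2,5,2,3,4,1,2,3,0,1,2,5,6,5,2,1,0,3,2,1,4,3,2,5,2,3,4,1,2,3,0,1,2,5,6,5,2,1,0,3,2,1,4,3,2,5,2,3,4,1,2,3,0,1,2,5,0,5,2,1,0,3,2,1,4,3,2,5,2,3,4,1,2,3,0,1,2,5,6,5,2,1,0,3,2,1,4,3,2,5,2,3,4,1,2,3,0,1,2,5,6,5,2,1,0,3,2,1,4,3,2,5,2,3,4,1,2,3,0,1,2])
 (Tr.leaf [1,2,5,6,5,2,1,0,3,2,1,4,3,2,5,2,3,4,1,2,3,0,1,2,5,6,4,6,5,2,1,0,3,2,1,4,3,2,5,2,3,4,1,2,3,0,1,2,5,6,5,2,1,0,3,2,1,4,3,2,5,2,3,4,1,2,3,0,1,2,5,6,5,2,1,0,3,2,1,4,3,2,5,2,3,4,1,2,3,0,1,2,5,4,5,2,1,0,3,2,1,4,3,2,5,2,3,4,1,2,3,0,1,2,5,6,5,2,1,0,3,2,1,4,3,2,5,2,3,4,1,2,3,0]))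
 (Tr.node (Tr.leaf [3,2,5,2,3,4,1,2,3,0,1,2,5,6,2,6,5,2,1,0,3,2,1,4,3,2,5,2,3,4,1,2,3,0,1,2,5,6,5,2,1,0,3,2,1,4,3,2,5,2,3,4,1,2,3,0,1,2,5,6,5,2,1,0,3,2,1,4,3,2,5,2,3,4,1,2,3,0,1,2,5,2,5,2,1,0,3,2,1,4,3,2,5,2,3,4,1,2,3,0,1,2,5,6,5,2,1,0,3,2,1,4,3,2,5,2,3,4,1,2,3,0,1,2,5,6,5,2,1,0,3,2,1,4])
 (Tr.leaf [1,4,3,2,5,2,3,4,1,2,3,0,1,2,5,6,5,2,1,0,3,2,1,4,3,2,5,2,3,4,1,2,3,0,1,2,5,6,6,6,5,2,1,0,3,2,1,4,3,2,5,2,3,4,1,2,3,0,1,2,5,6,5,2,1,0,3,2,1,4,3,2,5,2,3,4,1,2,3,0,1,2,5,6,5,2,1,0,3,2,1,4,3,2,5,2,3,4,1,2,3,0,1,2,5,6,5,2,1,0,3,2,1,4,3,2,5,2,3,4,1,2,3,0,1,2,5,6,5,2,1,0,3,2]))))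
 (Tr.node (Tr.node (Tr.node (Tr.leaf [5,2,1,0,3,2,1,4,3,2,5,2,3,4,1,2,3,0,1,2,5,6,5,2,1,0,3,2,1,4,3,2,5,2,3,4,1,2,3,0,1,2,5,6,5,2,1,0,3,2,1,4,3,2,5,2,3,4,1,2,3,0,1,2,5,6,0,6,5,2,1,0,3,2,1,4,3,2,5,2,3,4,1,2,3,0,1,2,5,6,5,2,1,0,3,2,1,4,3,2,5,2,3,4,1,2,3,0,1,2,5,6,5,2,1,0,3,2,1,4,3,2,5,2,3,4,1,2,3,0,1,2,5,0])
 (Tr.leaf [5,6,5,2,1,0,3,2,1,4,3,2,5,2,3,4,1,2,3,0,1,2,5,4,5,2,1,0,3,2,1,4,3,2,5,2,3,4,1,2,3,0,1,2,5,6,5,2,1,0,3,2,1,4,3,2,5,2,3,4,1,2,3,0,1,2,5,6,5,2,1,0,3,2,1,4,3,2,5,2,3,4,1,2,3,0,1,2,5,6,4,6,5,2,1,0,3,2,1,4,3,2,5,2,3,4,1,2,3,0,1,2,5,6,5,2,1,0,3,2,1,4,3,2,5,2,3,4,1,2,3,0,1,2]))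
 (Tr.node (Tr.leaf [5,2,3,4,1,2,3,0,1,2,5,2,5,2,1,0,3,2,1,4,3,2,5,2,3,4,1,2,3,0,1,2,5,6,5,2,1,0,3,2,1,4,3,2,5,2,3,4,1,2,3,0,1,2,5,6,5,2,1,0,3,2,1,4,3,2,5,2,3,4,1,2,3,0,1,2,5,6,2,6,5,2,1,0,3,2,1,4,3,2,5,2,3,4,1,2,3,0,1,2,5,6,5,2,1,0,3,2,1,4,3,2,5,2,3,4,1,2,3,0,1,2,5,6,5,2,1,0,3,2,1,4,3,2])
 (Tr.leaf [3,2,5,2,3,4,1,2,3,0,1,2,5,6,5,2,1,0,3,2,1,4,3,2,5,2,3,4,1,2,3,0,1,2,5,6,5,2,1,0,3,2,1,4,3,2,5,2,3,4,1,2,3,0,1,2,5,6,5,2,1,0,3,2,1,4,3,2,5,2,3,4,1,2,3,0,1,2,5,6,5,2,1,0,3,2,1,4,3,2,5,2,3,4,1,2,3,0,1,2,5,6,6,6,5,2,1,0,3,2,1,4,3,2,5,2,3,4,1,2,3,0,1,2,5,6,5,2,1,0,3,2,1,4])))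
 (Tr.node (Tr.node (Tr.leaf [3,0,1,2,5,1,5,2,1,0,3,2,1,4,3,2,5,2,3,4,1,2,3,0,1,2,5,6,5,2,1,0,3,2,1,4,3,2,5,2,3,4,1,2,3,0,1,2,5,6,5,2,1,0,3,2,1,4,3,2,5,2,3,4,1,2,3,0,1,2,5,6,1,6,5,2,1,0,3,2,1,4,3,2,5,2,3,4,1,2,3,0,1,2,5,6,5,2,1,0,3,2,1,4,3,2,5,2,3,4,1,2,3,0,1,2,5,6,5,2,1,0,3,2,1,4,3,2,5,2,3,4,1,2])
 (Tr.leaf [1,2,3,0,1,2,5,6,5,2,1,0,3,2,1,4,3,2,5,2,3,4,1,2,3,0,1,2,5,5,5,2,1,0,3,2,1,4,3,2,5,2,3,4,1,2,3,0,1,2,5,6,5,2,1,0,3,2,1,4,3,2,5,2,3,4,1,2,3,0,1,2,5,6,5,2,1,0,3,2,1,4,3,2,5,2,3,4,1,2,3,0,1,2,5,6,5,6,5,2,1,0,3,2,1,4,3,2,5,2,3,4,1,2,3,0,1,2,5,6,5,2,1,0,3,2,1,4,3,2,5,2,3,4]))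
 (Tr.node (Tr.leaf [3,2,1,4,3,2,5,2,3,4,1,2,3,0,1,2,5,3,5,2,1,0,3,2,1,4,3,2,5,2,3,4,1,2,3,0,1,2,5,6,5,2,1,0,3,2,1,4,3,2,5,2,3,4,1,2,3,0,1,2,5,6,5,2,1,0,3,2,1,4,3,2,5,2,3,4,1,2,3,0,1,2,5,6,3,6,5,2,1,0,3,2,1,4,3,2,5,2,3,4,1,2,3,0,1,2,5,6,5,2,1,0,3,2,1,4,3,2,5,2,3,4,1,2,3,0,1,2,5,6,5,2,1,0])
 (Tr.leaf [6,6,6,5,2,1,0,3,2,1,4,3,2,5,2,3,4,1,2,3,0,1,2,5,6,5,2,1,0,3,2,1,4,3,2,5,2,3,4,1,2,3,0,1,2,5,6,5,2,1,0,3,2,1,4,3,2,5,2,3,4,1,2,3,0,1,2,5,6,5,2,1,0,3,2,1,4,3,2,5,2,3,4,1,2,3,0,1,2,5,6,5,2,1,0,3,2,1,4,3,2,5,2,3,4,1,2,3,0,1,2,5,6,5,2,1,0,3,2,1,4,3,2,5,2,3,4,1,2,3,0,1,2,5])))))))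
 (Tr.node (Tr.node (Tr.node (Tr.node (Tr.node (Tr.node (Tr.leaf [0,4,0,4])
 (Tr.leaf [1,4,3,2,5,2,3,4,1,2,3,0,1,2,5,6,5,2,1,0,3,2,1,4,3,2,5,2,3,4,1,2,3,0,1,2,5,6,5,2,1,0,3,2,1,4,3,2,5,2,3,4,1,2,3,0,1,2,5,6,3,6,5,2,1,0,3,2,1,4,3,2,5,2,3,4,1,2,3,0,1,2,5,6,5,2,1,0,3,2,1,4,3,2,5,2,3,4,1,2,3,0,1,2,5,6,5,2,1,0,3,2,1,4,3,2,5,2,3,4,1,2,3,0,1,2,5,3,5,2,1,0,3,2]))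
 (Tr.node (Tr.leaf [1,2,5,6,5,2,1,0,3,2,1,4,3,2,5,2,3,4,1,2,3,0,1,2,5,6,5,2,1,0,3,2,1,4,3,2,5,2,3,4,1,2,3,0,1,2,5,6,1,6,5,2,1,0,3,2,1,4,3,2,5,2,3,4,1,2,3,0,1,2,5,6,5,2,1,0,3,2,1,4,3,2,5,2,3,4,1,2,3,0,1,2,5,6,5,2,1,0,3,2,1,4,3,2,5,2,3,4,1,2,3,0,1,2,5,1,5,2,1,0,3,2,1,4,3,2,5,2,3,4,1,2,3,0])
 (Tr.leaf [3,0,1,2,5,5,5,2,1,0,3,2,1,4,3,2,5,2,3,4,1,2,3,0,1,2,5,6,5,2,1,0,3,2,1,4,3,2,5,2,3,4,1,2,3,0,1,2,5,6,5,2,1,0,3,2,1,4,3,2,5,2,3,4,1,2,3,0,1,2,5,6,5,6,5,2,1,0,3,2,1,4,3,2,5,2,3,4,1,2,3,0,1,2,5,6,5,2,1,0,3,2,1,4,3,2,5,2,3,4,1,2,3,0,1,2,5,6,5,2,1,0,3,2,1,4,3,2,5,2,3,4,1,2])))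
 (Tr.node (Tr.node (Tr.leaf [1,0,3,2,1,4,3,2,5,2,3,4,1,2,3,0,1,2,5,6,5,2,1,0,3,2,1,4,3,2,5,2,3,4,1,2,3,0,1,2,5,6,0,6,5,2,1,0,3,2,1,4,3,2,5,2,3,4,1,2,3,0,1,2,5,6,5,2,1,0,3,2,1,4,3,2,5,2,3,4,1,2,3,0,1,2,5,6,5,2,1,0,3,2,1,4,3,2,5,2,3,4,1,2,3,0,1,2,5,0,5,2,1,0,3,2,1,4,3,2,5,2,3,4,1,2,3,0,1,2,5,6,5,2])
 (Tr.leaf [5,2,1,0,3,2,1,4,3,2,5,2,3,4,1,2,3,0,1,2,5,6,5,2,1,0,3,2,1,4,3,2,5,2,3,4,1,2,3,0,1,2,5,6,5,2,1,0,3,2,1,4,3,2,5,2,3,4,1,2,3,0,1,2,5,6,4,6,5,2,1,0,3,2,1,4,3,2,5,2,3,4,1,2,3,0,1,2,5,6,5,2,1,0,3,2,1,4,3,2,5,2,3,4,1,2,3,0,1,2,5,6,5,2,1,0,3,2,1,4,3,2,5,2,3,4,1,2,3,0,1,2,5,4]))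
 (Tr.node (Tr.leaf [3,4,1,2,3,0,1,2,5,6,5,2,1,0,3,2,1,4,3,2,5,2,3,4,1,2,3,0,1,2,5,6,5,2,1,0,3,2,1,4,3,2,5,2,3,4,1,2,3,0,1,2,5,6,2,6,5,2,1,0,3,2,1,4,3,2,5,2,3,4,1,2,3,0,1,2,5,6,5,2,1,0,3,2,1,4,3,2,5,2,3,4,1,2,3,0,1,2,5,6,5,2,1,0,3,2,1,4,3,2,5,2,3,4,1,2,3,0,1,2,5,2,5,2,1,0,3,2,1,4,3,2,5,2])
 (Tr.leaf [5,2,3,4,1,2,3,0,1,2,5,6,5,2,1,0,3,2,1,4,3,2,5,2,3,4,1,2,3,0,1,2,5,6,5,2,1,0,3,2,1,4,3,2,5,2,3,4,1,2,3,0,1,2,5,6,5,2,1,0,3,2,1,4,3,2,5,2,3,4,1,2,3,0,1,2,5,6,6,6,5,2,1,0,3,2,1,4,3,2,5,2,3,4,1,2,3,0,1,2,5,6,5,2,1,0,3,2,1,4,3,2,5,2,3,4,1,2,3,0,1,2,5,6,5,2,1,0,3,2,1,4,3,2]))))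
 (Tr.node (Tr.node (Tr.node (Tr.leaf [3,2,1,4,3,2,5,2,3,4,1,2,3,0,1,2,5,6,5,2,1,0,3,2,1,4,3,2,5,2,3,4,1,2,3,0,1,2,5,0,5,2,1,0,3,2,1,4,3,2,5,2,3,4,1,2,3,0,1,2,5,6,5,2,1,0,3,2,1,4,3,2,5,2,3,4,1,2,3,0,1,2,5,6,5,2,1,0,3,2,1,4,3,2,5,2,3,4,1,2,3,0,1,2,5,6,0,6,5,2,1,0,3,2,1,4,3,2,5,2,3,4,1,2,3,0,1,2,5,6,5,2,1,0])
 (Tr.leaf [1,0,3,2,1,4,3,2,5,2,3,4,1,2,3,0,1,2,5,6,5,2,1,0,3,2,1,4,3,2,5,2,3,4,1,2,3,0,1,2,5,6,5,2,1,0,3,2,1,4,3,2,5,2,3,4,1,2,3,0,1,2,5,4,5,2,1,0,3,2,1,4,3,2,5,2,3,4,1,2,3,0,1,2,5,6,5,2,1,0,3,2,1,4,3,2,5,2,3,4,1,2,3,0,1,2,5,6,5,2,1,0,3,2,1,4,3,2,5,2,3,4,1,2,3,0,1,2,5,6,4,6,5,2]))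
 (Tr.node (Tr.leaf [1,2,3,0,1,2,5,6,5,2,1,0,3,2,1,4,3,2,5,2,3,4,1,2,3,0,1,2,5,6,5,2,1,0,3,2,1,4,3,2,5,2,3,4,1,2,3,0,1,2,5,2,5,2,1,0,3,2,1,4,3,2,5,2,3,4,1,2,3,0,1,2,5,6,5,2,1,0,3,2,1,4,3,2,5,2,3,4,1,2,3,0,1,2,5,6,5,2,1,0,3,2,1,4,3,2,5,2,3,4,1,2,3,0,1,2,5,6,2,6,5,2,1,0,3,2,1,4,3,2,5,2,3,4])
 (Tr.leaf [1,2,3,0,1,2,5,6,5,6,5,2,1,0,3,2,1,4,3,2,5,2,3,4,1,2,3,0,1,2,5,6,5,2,1,0,3,2,1,4,3,2,5,2,3,4,1,2,3,0,1,2,5,6,5,2,1,0,3,2,1,4,3,2,5,2,3,4,1,2,3,0,1,2,5,5,5,2,1,0,3,2,1,4,3,2,5,2,3,4,1,2,3,0,1,2,5,6,5,2,1,0,3,2,1,4,3,2,5,2,3,4,1,2,3,0,1,2,5,6,5,2,1,0,3,2,1,4,3,2,5,2,3,4])))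
 (Tr.node (Tr.node (Tr.leaf [5,6,5,2,1,0,3,2,1,4,3,2,5,2,3,4,1,2,3,0,1,2,5,6,5,2,1,0,3,2,1,4,3,2,5,2,3,4,1,2,3,0,1,2,5,1,5,2,1,0,3,2,1,4,3,2,5,2,3,4,1,2,3,0,1,2,5,6,5,2,1,0,3,2,1,4,3,2,5,2,3,4,1,2,3,0,1,2,5,6,5,2,1,0,3,2,1,4,3,2,5,2,3,4,1,2,3,0,1,2,5,6,1,6,5,2,1,0,3,2,1,4,3,2,5,2,3,4,1,2,3,0,1,2])
 (Tr.leaf [5,6,4,6,5,2,1,0,3,2,1,4,3,2,5,2,3,4,1,2,3,0,1,2,5,6,5,2,1,0,3,2,1,4,3,2,5,2,3,4,1,2,3,0,1,2,5,6,5,2,1,0,3,2,1,4,3,2,5,2,3,4,1,2,3,0,1,2,5,4,5,2,1,0,3,2,1,4,3,2,5,2,3,4,1,2,3,0,1,2,5,6,5,2,1,0,3,2,1,4,3,2,5,2,3,4,1,2,3,0,1,2,5,6,5,2,1,0,3,2,1,4,3,2,5,2,3,4,1,2,3,0,1,2]))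
 (Tr.node (Tr.leaf [3,2,5,2,3,4,1,2,3,0,1,2,5,6,5,2,1,0,3,2,1,4,3,2,5,2,3,4,1,2,3,0,1,2,5,6,5,2,1,0,3,2,1,4,3,2,5,2,3,4,1,2,3,0,1,2,5,3,5,2,1,0,3,2,1,4,3,2,5,2,3,4,1,2,3,0,1,2,5,6,5,2,1,0,3,2,1,4,3,2,5,2,3,4,1,2,3,0,1,2,5,6,5,2,1,0,3,2,1,4,3,2,5,2,3,4,1,2,3,0,1,2,5,6,3,6,5,2,1,0,3,2,1,4])
 (Tr.leaf [3,2,5,2,3,4,1,2,3,0,1,2,5,6,6,6,5,2,1,0,3,2,1,4,3,2,5,2,3,4,1,2,3,0,1,2,5,6,5,2,1,0,3,2,1,4,3,2,5,2,3,4,1,2,3,0,1,2,5,6,5,2,1,0,3,2,1,4,3,2,5,2,3,4,1,2,3,0,1,2,5,6,5,2,1,0,3,2,1,4,3,2,5,2,3,4,1,2,3,0,1,2,5,6,5,2,1,0,3,2,1,4,3,2,5,2,3,4,1,2,3,0,1,2,5,6,5,2,1,0,3,2,1,4])))))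
 (Tr.node (Tr.node (Tr.node (Tr.node (Tr.leaf [4,6,4,6])
 (Tr.leaf [3,0,1,2,5,6,5,2,1,0,3,2,1,4,3,2,5,2,3,4,1,2,3,0,1,2,5,6,3,6,5,2,1,0,3,2,1,4,3,2,5,2,3,4,1,2,3,0,1,2,5,6,5,2,1,0,3,2,1,4,3,2,5,2,3,4,1,2,3,0,1,2,5,6,5,2,1,0,3,2,1,4,3,2,5,2,3,4,1,2,3,0,1,2,5,3,5,2,1,0,3,2,1,4,3,2,5,2,3,4,1,2,3,0,1,2,5,6,5,2,1,0,3,2,1,4,3,2,5,2,3,4,1,2]))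
 (Tr.node (Tr.leaf [1,4,3,2,5,2,3,4,1,2,3,0,1,2,5,6,1,6,5,2,1,0,3,2,1,4,3,2,5,2,3,4,1,2,3,0,1,2,5,6,5,2,1,0,3,2,1,4,3,2,5,2,3,4,1,2,3,0,1,2,5,6,5,2,1,0,3,2,1,4,3,2,5,2,3,4,1,2,3,0,1,2,5,1,5,2,1,0,3,2,1,4,3,2,5,2,3,4,1,2,3,0,1,2,5,6,5,2,1,0,3,2,1,4,3,2,5,2,3,4,1,2,3,0,1,2,5,6,5,2,1,0,3,2])
 (Tr.leaf [3,2,1,4,3,2,5,2,3,4,1,2,3,0,1,2,5,6,5,2,1,0,3,2,1,4,3,2,5,2,3,4,1,2,3,0,1,2,5,6,5,6,5,2,1,0,3,2,1,4,3,2,5,2,3,4,1,2,3,0,1,2,5,6,5,2,1,0,3,2,1,4,3,2,5,2,3,4,1,2,3,0,1,2,5,6,5,2,1,0,3,2,1,4,3,2,5,2,3,4,1,2,3,0,1,2,5,5,5,2,1,0,3,2,1,4,3,2,5,2,3,4,1,2,3,0,1,2,5,6,5,2,1,0])))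
 (Tr.node (Tr.node (Tr.leaf [3,4,1,2,3,0,1,2,5,6,0,6,5,2,1,0,3,2,1,4,3,2,5,2,3,4,1,2,3,0,1,2,5,6,5,2,1,0,3,2,1,4,3,2,5,2,3,4,1,2,3,0,1,2,5,6,5,2,1,0,3,2,1,4,3,2,5,2,3,4,1,2,3,0,1,2,5,0,5,2,1,0,3,2,1,4,3,2,5,2,3,4,1,2,3,0,1,2,5,6,5,2,1,0,3,2,1,4,3,2,5,2,3,4,1,2,3,0,1,2,5,6,5,2,1,0,3,2,1,4,3,2,5,2])
 (Tr.leaf [5,2,3,4,1,2,3,0,1,2,5,6,5,2,1,0,3,2,1,4,3,2,5,2,3,4,1,2,3,0,1,2,5,6,4,6,5,2,1,0,3,2,1,4,3,2,5,2,3,4,1,2,3,0,1,2,5,6,5,2,1,0,3,2,1,4,3,2,5,2,3,4,1,2,3,0,1,2,5,6,5,2,1,0,3,2,1,4,3,2,5,2,3,4,1,2,3,0,1,2,5,4,5,2,1,0,3,2,1,4,3,2,5,2,3,4,1,2,3,0,1,2,5,6,5,2,1,0,3,2,1,4,3,2]))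
 (Tr.node (Tr.leaf [5,2,1,0,3,2,1,4,3,2,5,2,3,4,1,2,3,0,1,2,5,6,2,6,5,2,1,0,3,2,1,4,3,2,5,2,3,4,1,2,3,0,1,2,5,6,5,2,1,0,3,2,1,4,3,2,5,2,3,4,1,2,3,0,1,2,5,6,5,2,1,0,3,2,1,4,3,2,5,2,3,4,1,2,3,0,1,2,5,2,5,2,1,0,3,2,1,4,3,2,5,2,3,4,1,2,3,0,1,2,5,6,5,2,1,0,3,2,1,4,3,2,5,2,3,4,1,2,3,0,1,2,5,6])
 (Tr.leaf [5,6,5,2,1,0,3,2,1,4,3,2,5,2,3,4,1,2,3,0,1,2,5,6,5,2,1,0,3,2,1,4,3,2,5,2,3,4,1,2,3,0,1,2,5,6,6,6,5,2,1,0,3,2,1,4,3,2,5,2,3,4,1,2,3,0,1,2,5,6,5,2,1,0,3,2,1,4,3,2,5,2,3,4,1,2,3,0,1,2,5,6,5,2,1,0,3,2,1,4,3,2,5,2,3,4,1,2,3,0,1,2,5,6,5,2,1,0,3,2,1,4,3,2,5,2,3,4,1,2,3,0,1,2]))))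
 (Tr.node (Tr.node (Tr.node (Tr.leaf [1,2,3,0,1,2,5,0,5,2,1,0,3,2,1,4,3,2,5,2,3,4,1,2,3,0,1,2,5,6,5,2,1,0,3,2,1,4,3,2,5,2,3,4,1,2,3,0,1,2,5,6,5,2,1,0,3,2,1,4,3,2,5,2,3,4,1,2,3,0,1,2,5,6,0,6,5,2,1,0,3,2,1,4,3,2,5,2,3,4,1,2,3,0,1,2,5,6,5,2,1,0,3,2,1,4,3,2,5,2,3,4,1,2,3,0,1,2,5,6,5,2,1,0,3,2,1,4,3,2,5,2,3,4])
 (Tr.leaf [3,4,1,2,3,0,1,2,5,6,5,2,1,0,3,2,1,4,3,2,5,2,3,4,1,2,3,0,1,2,5,4,5,2,1,0,3,2,1,4,3,2,5,2,3,4,1,2,3,0,1,2,5,6,5,2,1,0,3,2,1,4,3,2,5,2,3,4,1,2,3,0,1,2,5,6,5,2,1,0,3,2,1,4,3,2,5,2,3,4,1,2,3,0,1,2,5,6,4,6,5,2,1,0,3,2,1,4,3,2,5,2,3,4,1,2,3,0,1,2,5,6,5,2,1,0,3,2,1,4,3,2,5,2]))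
 (Tr.node (Tr.leaf [1,0,3,2,1,4,3,2,5,2,3,4,1,2,3,0,1,2,5,2,5,2,1,0,3,2,1,4,3,2,5,2,3,4,1,2,3,0,1,2,5,6,5,2,1,0,3,2,1,4,3,2,5,2,3,4,1,2,3,0,1,2,5,6,5,2,1,0,3,2,1,4,3,2,5,2,3,4,1,2,3,0,1,2,5,6,2,6,5,2,1,0,3,2,1,4,3,2,5,2,3,4,1,2,3,0,1,2,5,6,5,2,1,0,3,2,1,4,3,2,5,2,3,4,1,2,3,0,1,2,5,6,5,2])
 (Tr.leaf [5,2,1,0,3,2,1,4,3,2,5,2,3,4,1,2,3,0,1,2,5,6,5,2,1,0,3,2,1,4,3,2,5,2,3,4,1,2,3,0,1,2,5,6,5,2,1,0,3,2,1,4,3,2,5,2,3,4,1,2,3,0,1,2,5,6,5,2,1,0,3,2,1,4,3,2,5,2,3,4,1,2,3,0,1,2,5,6,5,2,1,0,3,2,1,4,3,2,5,2,3,4,1,2,3,0,1,2,5,6,6,6,5,2,1,0,3,2,1,4,3,2,5,2,3,4,1,2,3,0,1,2,5,6])))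
 (Tr.node (Tr.node (Tr.leaf [3,2,5,2,3,4,1,2,3,0,1,2,5,1,5,2,1,0,3,2,1,4,3,2,5,2,3,4,1,2,3,0,1,2,5,6,5,2,1,0,3,2,1,4,3,2,5,2,3,4,1,2,3,0,1,2,5,6,5,2,1,0,3,2,1,4,3,2,5,2,3,4,1,2,3,0,1,2,5,6,1,6,5,2,1,0,3,2,1,4,3,2,5,2,3,4,1,2,3,0,1,2,5,6,5,2,1,0,3,2,1,4,3,2,5,2,3,4,1,2,3,0,1,2,5,6,5,2,1,0,3,2,1,4])
 (Tr.leaf [1,4,3,2,5,2,3,4,1,2,3,0,1,2,5,6,5,2,1,0,3,2,1,4,3,2,5,2,3,4,1,2,3,0,1,2,5,5,5,2,1,0,3,2,1,4,3,2,5,2,3,4,1,2,3,0,1,2,5,6,5,2,1,0,3,2,1,4,3,2,5,2,3,4,1,2,3,0,1,2,5,6,5,2,1,0,3,2,1,4,3,2,5,2,3,4,1,2,3,0,1,2,5,6,5,6,5,2,1,0,3,2,1,4,3,2,5,2,3,4,1,2,3,0,1,2,5,6,5,2,1,0,3,2]))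
 (Tr.node (Tr.leaf [1,2,5,6,5,2,1,0,3,2,1,4,3,2,5,2,3,4,1,2,3,0,1,2,5,3,5,2,1,0,3,2,1,4,3,2,5,2,3,4,1,2,3,0,1,2,5,6,5,2,1,0,3,2,1,4,3,2,5,2,3,4,1,2,3,0,1,2,5,6,5,2,1,0,3,2,1,4,3,2,5,2,3,4,1,2,3,0,1,2,5,6,3,6,5,2,1,0,3,2,1,4,3,2,5,2,3,4,1,2,3,0,1,2,5,6,5,2,1,0,3,2,1,4,3,2,5,2,3,4,1,2,3,0])
 (Tr.leaf [6,6,6,5,2,1,0,3,2,1,4,3,2,5,2,3,4,1,2,3,0,1,2,5,6,5,2,1,0,3,2,1,4,3,2,5,2,3,4,1,2,3,0,1,2,5,6,5,2,1,0,3,2,1,4,3,2,5,2,3,4,1,2,3,0,1,2,5,6,5,2,1,0,3,2,1,4,3,2,5,2,3,4,1,2,3,0,1,2,5,6,5,2,1,0,3,2,1,4,3,2,5,2,3,4,1,2,3,0,1,2,5,6,5,2,1,0,3,2,1,4,3,2,5,2,3,4,1,2,3,0,1,2,5]))))))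
 (Tr.node (Tr.node (Tr.node (Tr.node (Tr.node (Tr.leaf [2,3,2,3,2,3])
 (Tr.leaf [5,2,1,0,3,2,1,4,3,2,5,2,3,4,1,2,3,0,1,2,5,6,5,2,1,0,3,2,1,4,3,2,5,2,3,4,1,2,3,0,1,2,5,6,3,6,5,2,1,0,3,2,1,4,3,2,5,2,3,4,1,2,3,0,1,2,5,6,5,2,1,0,3,2,1,4,3,2,5,2,3,4,1,2,3,0,1,2,5,6,5,2,1,0,3,2,1,4,3,2,5,2,3,4,1,2,3,0,1,2,5,3,5,2,1,0,3,2,1,4,3,2,5,2,3,4,1,2,3,0,1,2,5,6]))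
 (Tr.node (Tr.leaf [3,4,1,2,3,0,1,2,5,6,5,2,1,0,3,2,1,4,3,2,5,2,3,4,1,2,3,0,1,2,5,6,1,6,5,2,1,0,3,2,1,4,3,2,5,2,3,4,1,2,3,0,1,2,5,6,5,2,1,0,3,2,1,4,3,2,5,2,3,4,1,2,3,0,1,2,5,6,5,2,1,0,3,2,1,4,3,2,5,2,3,4,1,2,3,0,1,2,5,1,5,2,1,0,3,2,1,4,3,2,5,2,3,4,1,2,3,0,1,2,5,6,5,2,1,0,3,2,1,4,3,2,5,2])
 (Tr.leaf [5,2,3,4,1,2,3,0,1,2,5,6,5,2,1,0,3,2,1,4,3,2,5,2,3,4,1,2,3,0,1,2,5,6,5,2,1,0,3,2,1,4,3,2,5,2,3,4,1,2,3,0,1,2,5,6,5,6,5,2,1,0,3,2,1,4,3,2,5,2,3,4,1,2,3,0,1,2,5,6,5,2,1,0,3,2,1,4,3,2,5,2,3,4,1,2,3,0,1,2,5,6,5,2,1,0,3,2,1,4,3,2,5,2,3,4,1,2,3,0,1,2,5,5,5,2,1,0,3,2,1,4,3,2])))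
 (Tr.node (Tr.node (Tr.leaf [1,2,5,6,5,2,1,0,3,2,1,4,3,2,5,2,3,4,1,2,3,0,1,2,5,6,0,6,5,2,1,0,3,2,1,4,3,2,5,2,3,4,1,2,3,0,1,2,5,6,5,2,1,0,3,2,1,4,3,2,5,2,3,4,1,2,3,0,1,2,5,6,5,2,1,0,3,2,1,4,3,2,5,2,3,4,1,2,3,0,1,2,5,0,5,2,1,0,3,2,1,4,3,2,5,2,3,4,1,2,3,0,1,2,5,6,5,2,1,0,3,2,1,4,3,2,5,2,3,4,1,2,3,0])
 (Tr.leaf [3,0,1,2,5,6,5,2,1,0,3,2,1,4,3,2,5,2,3,4,1,2,3,0,1,2,5,6,5,2,1,0,3,2,1,4,3,2,5,2,3,4,1,2,3,0,1,2,5,6,4,6,5,2,1,0,3,2,1,4,3,2,5,2,3,4,1,2,3,0,1,2,5,6,5,2,1,0,3,2,1,4,3,2,5,2,3,4,1,2,3,0,1,2,5,6,5,2,1,0,3,2,1,4,3,2,5,2,3,4,1,2,3,0,1,2,5,4,5,2,1,0,3,2,1,4,3,2,5,2,3,4,1,2]))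
 (Tr.node (Tr.leaf [1,4,3,2,5,2,3,4,1,2,3,0,1,2,5,6,5,2,1,0,3,2,1,4,3,2,5,2,3,4,1,2,3,0,1,2,5,6,2,6,5,2,1,0,3,2,1,4,3,2,5,2,3,4,1,2,3,0,1,2,5,6,5,2,1,0,3,2,1,4,3,2,5,2,3,4,1,2,3,0,1,2,5,6,5,2,1,0,3,2,1,4,3,2,5,2,3,4,1,2,3,0,1,2,5,2,5,2,1,0,3,2,1,4,3,2,5,2,3,4,1,2,3,0,1,2,5,6,5,2,1,0,3,2])
 (Tr.leaf [3,2,1,4,3,2,5,2,3,4,1,2,3,0,1,2,5,6,5,2,1,0,3,2,1,4,3,2,5,2,3,4,1,2,3,0,1,2,5,6,5,2,1,0,3,2,1,4,3,2,5,2,3,4,1,2,3,0,1,2,5,6,6,6,5,2,1,0,3,2,1,4,3,2,5,2,3,4,1,2,3,0,1,2,5,6,5,2,1,0,3,2,1,4,3,2,5,2,3,4,1,2,3,0,1,2,5,6,5,2,1,0,3,2,1,4,3,2,5,2,3,4,1,2,3,0,1,2,5,6,5,2,1,0]))))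
 (Tr.node (Tr.node (Tr.node (Tr.leaf [5,6,5,2,1,0,3,2,1,4,3,2,5,2,3,4,1,2,3,0,1,2,5,0,5,2,1,0,3,2,1,4,3,2,5,2,3,4,1,2,3,0,1,2,5,6,5,2,1,0,3,2,1,4,3,2,5,2,3,4,1,2,3,0,1,2,5,6,5,2,1,0,3,2,1,4,3,2,5,2,3,4,1,2,3,0,1,2,5,6,0,6,5,2,1,0,3,2,1,4,3,2,5,2,3,4,1,2,3,0,1,2,5,6,5,2,1,0,3,2,1,4,3,2,5,2,3,4,1,2,3,0,1,2])
 (Tr.leaf [1,2,5,6,5,2,1,0,3,2,1,4,3,2,5,2,3,4,1,2,3,0,1,2,5,6,5,2,1,0,3,2,1,4,3,2,5,2,3,4,1,2,3,0,1,2,5,4,5,2,1,0,3,2,1,4,3,2,5,2,3,4,1,2,3,0,1,2,5,6,5,2,1,0,3,2,1,4,3,2,5,2,3,4,1,2,3,0,1,2,5,6,5,2,1,0,3,2,1,4,3,2,5,2,3,4,1,2,3,0,1,2,5,6,4,6,5,2,1,0,3,2,1,4,3,2,5,2,3,4,1,2,3,0]))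
 (Tr.node (Tr.leaf [3,2,5,2,3,4,1,2,3,0,1,2,5,6,5,2,1,0,3,2,1,4,3,2,5,2,3,4,1,2,3,0,1,2,5,2,5,2,1,0,3,2,1,4,3,2,5,2,3,4,1,2,3,0,1,2,5,6,5,2,1,0,3,2,1,4,3,2,5,2,3,4,1,2,3,0,1,2,5,6,5,2,1,0,3,2,1,4,3,2,5,2,3,4,1,2,3,0,1,2,5,6,2,6,5,2,1,0,3,2,1,4,3,2,5,2,3,4,1,2,3,0,1,2,5,6,5,2,1,0,3,2,1,4])
 (Tr.leaf [1,4,3,2,5,2,3,4,1,2,3,0,1,2,5,6,5,2,1,0,3,2,1,4,3,2,5,2,3,4,1,2,3,0,1,2,5,6,5,2,1,0,3,2,1,4,3,2,5,2,3,4,1,2,3,0,1,2,5,6,5,2,1,0,3,2,1,4,3,2,5,2,3,4,1,2,3,0,1,2,5,6,5,2,1,0,3,2,1,4,3,2,5,2,3,4,1,2,3,0,1,2,5,6,5,2,1,0,3,2,1,4,3,2,5,2,3,4,1,2,3,0,1,2,5,6,6,6,5,2,1,0,3,2])))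
 (Tr.node (Tr.node (Tr.leaf [1,2,3,0,1,2,5,6,5,2,1,0,3,2,1,4,3,2,5,2,3,4,1,2,3,0,1,2,5,1,5,2,1,0,3,2,1,4,3,2,5,2,3,4,1,2,3,0,1,2,5,6,5,2,1,0,3,2,1,4,3,2,5,2,3,4,1,2,3,0,1,2,5,6,5,2,1,0,3,2,1,4,3,2,5,2,3,4,1,2,3,0,1,2,5,6,1,6,5,2,1,0,3,2,1,4,3,2,5,2,3,4,1,2,3,0,1,2,5,6,5,2,1,0,3,2,1,4,3,2,5,2,3,4])
 (Tr.leaf [3,4,1,2,3,0,1,2,5,6,5,2,1,0,3,2,1,4,3,2,5,2,3,4,1,2,3,0,1,2,5,6,5,2,1,0,3,2,1,4,3,2,5,2,3,4,1,2,3,0,1,2,5,5,5,2,1,0,3,2,1,4,3,2,5,2,3,4,1,2,3,0,1,2,5,6,5,2,1,0,3,2,1,4,3,2,5,2,3,4,1,2,3,0,1,2,5,6,5,2,1,0,3,2,1,4,3,2,5,2,3,4,1,2,3,0,1,2,5,6,5,6,5,2,1,0,3,2,1,4,3,2,5,2]))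
 (Tr.node (Tr.leaf [1,0,3,2,1,4,3,2,5,2,3,4,1,2,3,0,1,2,5,6,5,2,1,0,3,2,1,4,3,2,5,2,3,4,1,2,3,0,1,2,5,3,5,2,1,0,3,2,1,4,3,2,5,2,3,4,1,2,3,0,1,2,5,6,5,2,1,0,3,2,1,4,3,2,5,2,3,4,1,2,3,0,1,2,5,6,5,2,1,0,3,2,1,4,3,2,5,2,3,4,1,2,3,0,1,2,5,6,3,6,5,2,1,0,3,2,1,4,3,2,5,2,3,4,1,2,3,0,1,2,5,6,5,2])
 (Tr.leaf [6,6,6,5,2,1,0,3,2,1,4,3,2,5,2,3,4,1,2,3,0,1,2,5,6,5,2,1,0,3,2,1,4,3,2,5,2,3,4,1,2,3,0,1,2,5,6,5,2,1,0,3,2,1,4,3,2,5,2,3,4,1,2,3,0,1,2,5,6,5,2,1,0,3,2,1,4,3,2,5,2,3,4,1,2,3,0,1,2,5,6,5,2,1,0,3,2,1,4,3,2,5,2,3,4,1,2,3,0,1,2,5,6,5,2,1,0,3,2,1,4,3,2,5,2,3,4,1,2,3,0,1,2,5])))))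
 (Tr.node (Tr.node (Tr.node (Tr.node (Tr.leaf [5,2,3,4,1,2,3,0,1,2,5,6,5,2,1,0,3,2,1,4,3,2,5,2,3,4,1,2,3,0,1,2,5,6,5,2,1,0,3,2,1,4,3,2,5,2,3,4,1,2,3,0,1,2,5,0,5,2,1,0,3,2,1,4,3,2,5,2,3,4,1,2,3,0,1,2,5,6,5,2,1,0,3,2,1,4,3,2,5,2,3,4,1,2,3,0,1,2,5,6,5,2,1,0,3,2,1,4,3,2,5,2,3,4,1,2,3,0,1,2,5,6,0,6,5,2,1,0,3,2,1,4,3,2])
 (Tr.leaf [5,2,3,4,1,2,3,0,1,2,5,6,3,6,5,2,1,0,3,2,1,4,3,2,5,2,3,4,1,2,3,0,1,2,5,6,5,2,1,0,3,2,1,4,3,2,5,2,3,4,1,2,3,0,1,2,5,6,5,2,1,0,3,2,1,4,3,2,5,2,3,4,1,2,3,0,1,2,5,3,5,2,1,0,3,2,1,4,3,2,5,2,3,4,1,2,3,0,1,2,5,6,5,2,1,0,3,2,1,4,3,2,5,2,3,4,1,2,3,0,1,2,5,6,5,2,1,0,3,2,1,4,3,2]))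
 (Tr.node (Tr.leaf [6,5,2,1,0,3,2,1,4,3,2,5,2,3,4,1,2,3,0,1,2,5,6,5,2,1,0,3,2,1,4,3,2,5,2,3,4,1,2,3,0,1,2,5,6,5,2,1,0,3,2,1,4,3,2,5,2,3,4,1,2,3,0,1,2,5,2,5,2,1,0,3,2,1,4,3,2,5,2,3,4,1,2,3,0,1,2,5,6,5,2,1,0,3,2,1,4,3,2,5,2,3,4,1,2,3,0,1,2,5,6,5,2,1,0,3,2,1,4,3,2,5,2,3,4,1,2,3,0,1,2,5,6,2])
 (Tr.leaf [5,6,5,2,1,0,3,2,1,4,3,2,5,2,3,4,1,2,3,0,1,2,5,6,5,6,5,2,1,0,3,2,1,4,3,2,5,2,3,4,1,2,3,0,1,2,5,6,5,2,1,0,3,2,1,4,3,2,5,2,3,4,1,2,3,0,1,2,5,6,5,2,1,0,3,2,1,4,3,2,5,2,3,4,1,2,3,0,1,2,5,5,5,2,1,0,3,2,1,4,3,2,5,2,3,4,1,2,3,0,1,2,5,6,5,2,1,0,3,2,1,4,3,2,5,2,3,4,1,2,3,0,1,2])))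
 (Tr.node (Tr.node (Tr.leaf [3,2,1,4,3,2,5,2,3,4,1,2,3,0,1,2,5,6,5,2,1,0,3,2,1,4,3,2,5,2,3,4,1,2,3,0,1,2,5,6,5,2,1,0,3,2,1,4,3,2,5,2,3,4,1,2,3,0,1,2,5,1,5,2,1,0,3,2,1,4,3,2,5,2,3,4,1,2,3,0,1,2,5,6,5,2,1,0,3,2,1,4,3,2,5,2,3,4,1,2,3,0,1,2,5,6,5,2,1,0,3,2,1,4,3,2,5,2,3,4,1,2,3,0,1,2,5,6,1,6,5,2,1,0])
 (Tr.leaf [3,2,1,4,3,2,5,2,3,4,1,2,3,0,1,2,5,6,4,6,5,2,1,0,3,2,1,4,3,2,5,2,3,4,1,2,3,0,1,2,5,6,5,2,1,0,3,2,1,4,3,2,5,2,3,4,1,2,3,0,1,2,5,6,5,2,1,0,3,2,1,4,3,2,5,2,3,4,1,2,3,0,1,2,5,4,5,2,1,0,3,2,1,4,3,2,5,2,3,4,1,2,3,0,1,2,5,6,5,2,1,0,3,2,1,4,3,2,5,2,3,4,1,2,3,0,1,2,5,6,5,2,1,0]))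
 (Tr.node (Tr.leaf [3,0,1,2,5,6,2,6,5,2,1,0,3,2,1,4,3,2,5,2,3,4,1,2,3,0,1,2,5,6,5,2,1,0,3,2,1,4,3,2,5,2,3,4,1,2,3,0,1,2,5,6,5,2,1,0,3,2,1,4,3,2,5,2,3,4,1,2,3,0,1,2,5,2,5,2,1,0,3,2,1,4,3,2,5,2,3,4,1,2,3,0,1,2,5,6,5,2,1,0,3,2,1,4,3,2,5,2,3,4,1,2,3,0,1,2,5,6,5,2,1,0,3,2,1,4,3,2,5,2,3,4,1,2])
 (Tr.leaf [1,2,3,0,1,2,5,6,5,2,1,0,3,2,1,4,3,2,5,2,3,4,1,2,3,0,1,2,5,6,6,6,5,2,1,0,3,2,1,4,3,2,5,2,3,4,1,2,3,0,1,2,5,6,5,2,1,0,3,2,1,4,3,2,5,2,3,4,1,2,3,0,1,2,5,6,5,2,1,0,3,2,1,4,3,2,5,2,3,4,1,2,3,0,1,2,5,6,5,2,1,0,3,2,1,4,3,2,5,2,3,4,1,2,3,0,1,2,5,6,5,2,1,0,3,2,1,4,3,2,5,2,3,4]))))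
 (Tr.node (Tr.node (Tr.node (Tr.leaf [3,2,5,2,3,4,1,2,3,0,1,2,5,6,5,2,1,0,3,2,1,4,3,2,5,2,3,4,1,2,3,0,1,2,5,6,5,2,1,0,3,2,1,4,3,2,5,2,3,4,1,2,3,0,1,2,5,6,0,6,5,2,1,0,3,2,1,4,3,2,5,2,3,4,1,2,3,0,1,2,5,6,5,2,1,0,3,2,1,4,3,2,5,2,3,4,1,2,3,0,1,2,5,6,5,2,1,0,3,2,1,4,3,2,5,2,3,4,1,2,3,0,1,2,5,0,5,2,1,0,3,2,1,4])
 (Tr.leaf [1,4,3,2,5,2,3,4,1,2,3,0,1,2,5,4,5,2,1,0,3,2,1,4,3,2,5,2,3,4,1,2,3,0,1,2,5,6,5,2,1,0,3,2,1,4,3,2,5,2,3,4,1,2,3,0,1,2,5,6,5,2,1,0,3,2,1,4,3,2,5,2,3,4,1,2,3,0,1,2,5,6,4,6,5,2,1,0,3,2,1,4,3,2,5,2,3,4,1,2,3,0,1,2,5,6,5,2,1,0,3,2,1,4,3,2,5,2,3,4,1,2,3,0,1,2,5,6,5,2,1,0,3,2]))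
 (Tr.node (Tr.leaf [1,2,5,2,5,2,1,0,3,2,1,4,3,2,5,2,3,4,1,2,3,0,1,2,5,6,5,2,1,0,3,2,1,4,3,2,5,2,3,4,1,2,3,0,1,2,5,6,5,2,1,0,3,2,1,4,3,2,5,2,3,4,1,2,3,0,1,2,5,6,2,6,5,2,1,0,3,2,1,4,3,2,5,2,3,4,1,2,3,0,1,2,5,6,5,2,1,0,3,2,1,4,3,2,5,2,3,4,1,2,3,0,1,2,5,6,5,2,1,0,3,2,1,4,3,2,5,2,3,4,1,2,3,0])
 (Tr.leaf [3,0,1,2,5,6,5,2,1,0,3,2,1,4,3,2,5,2,3,4,1,2,3,0,1,2,5,6,5,2,1,0,3,2,1,4,3,2,5,2,3,4,1,2,3,0,1,2,5,6,5,2,1,0,3,2,1,4,3,2,5,2,3,4,1,2,3,0,1,2,5,6,5,2,1,0,3,2,1,4,3,2,5,2,3,4,1,2,3,0,1,2,5,6,6,6,5,2,1,0,3,2,1,4,3,2,5,2,3,4,1,2,3,0,1,2,5,6,5,2,1,0,3,2,1,4,3,2,5,2,3,4,1,2])))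
 (Tr.node (Tr.node (Tr.leaf [1,0,3,2,1,4,3,2,5,2,3,4,1,2,3,0,1,2,5,6,5,2,1,0,3,2,1,4,3,2,5,2,3,4,1,2,3,0,1,2,5,6,5,2,1,0,3,2,1,4,3,2,5,2,3,4,1,2,3,0,1,2,5,6,1,6,5,2,1,0,3,2,1,4,3,2,5,2,3,4,1,2,3,0,1,2,5,6,5,2,1,0,3,2,1,4,3,2,5,2,3,4,1,2,3,0,1,2,5,6,5,2,1,0,3,2,1,4,3,2,5,2,3,4,1,2,3,0,1,2,5,1,5,2])
 (Tr.leaf [5,2,1,0,3,2,1,4,3,2,5,2,3,4,1,2,3,0,1,2,5,5,5,2,1,0,3,2,1,4,3,2,5,2,3,4,1,2,3,0,1,2,5,6,5,2,1,0,3,2,1,4,3,2,5,2,3,4,1,2,3,0,1,2,5,6,5,2,1,0,3,2,1,4,3,2,5,2,3,4,1,2,3,0,1,2,5,6,5,6,5,2,1,0,3,2,1,4,3,2,5,2,3,4,1,2,3,0,1,2,5,6,5,2,1,0,3,2,1,4,3,2,5,2,3,4,1,2,3,0,1,2,5,6]))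
 (Tr.node (Tr.leaf [3,4,1,2,3,0,1,2,5,3,5,2,1,0,3,2,1,4,3,2,5,2,3,4,1,2,3,0,1,2,5,6,5,2,1,0,3,2,1,4,3,2,5,2,3,4,1,2,3,0,1,2,5,6,5,2,1,0,3,2,1,4,3,2,5,2,3,4,1,2,3,0,1,2,5,6,3,6,5,2,1,0,3,2,1,4,3,2,5,2,3,4,1,2,3,0,1,2,5,6,5,2,1,0,3,2,1,4,3,2,5,2,3,4,1,2,3,0,1,2,5,6,5,2,1,0,3,2,1,4,3,2,5,2])
 (Tr.leaf [6,6,6,5,2,1,0,3,2,1,4,3,2,5,2,3,4,1,2,3,0,1,2,5,6,5,2,1,0,3,2,1,4,3,2,5,2,3,4,1,2,3,0,1,2,5,6,5,2,1,0,3,2,1,4,3,2,5,2,3,4,1,2,3,0,1,2,5,6,5,2,1,0,3,2,1,4,3,2,5,2,3,4,1,2,3,0,1,2,5,6,5,2,1,0,3,2,1,4,3,2,5,2,3,4,1,2,3,0,1,2,5,6,5,2,1,0,3,2,1,4,3,2,5,2,3,4,1,2,3,0,1,2,5]))))))))))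
 (Tr.node (Tr.node (Tr.node (Tr.node (Tr.node (Tr.node (Tr.node (Tr.node (Tr.node (Tr.leaf [0,0])
 (Tr.leaf [2,3,0,1,2,5,3,5,2,1,0,3,2,1,4,3,2,5,2,3,4,1,2,3,0,1,2,5,6,5,2,1,0,3,2,1,4,3,2,5,2,3,4,1,2,3,0,1,2,5,6,5,2,1,0,3,2,1,4,3,2,5,2,3,4,1,2,3,0,1,2,5,6,3,6,5,2,1,0,3,2,1,4,3,2,5,2,3,4,1,2,3,0,1,2,5,6,5,2,1,0,3,2,1,4,3,2,5,2,3,4,1,2,3,0,1,2,5,6,5,2,1,0,3,2,1,4,3,2,5,2,3,4,1]))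
 (Tr.node (Tr.leaf [2,1,4,3,2,5,2,3,4,1,2,3,0,1,2,5,6,5,2,1,0,3,2,1,4,3,2,5,2,3,4,1,2,3,0,1,2,5,6,5,2,1,0,3,2,1,4,3,2,5,2,3,4,1,2,3,0,1,2,5,6,1,6,5,2,1,0,3,2,1,4,3,2,5,2,3,4,1,2,3,0,1,2,5,6,5,2,1,0,3,2,1,4,3,2,5,2,3,4,1,2,3,0,1,2,5,6,5,2,1,0,3,2,1,4,3,2,5,2,3,4,1,2,3,0,1,2,5,1,5,2,1,0,3])
 (Tr.leaf [0,3,2,1,4,3,2,5,2,3,4,1,2,3,0,1,2,5,5,5,2,1,0,3,2,1,4,3,2,5,2,3,4,1,2,3,0,1,2,5,6,5,2,1,0,3,2,1,4,3,2,5,2,3,4,1,2,3,0,1,2,5,6,5,2,1,0,3,2,1,4,3,2,5,2,3,4,1,2,3,0,1,2,5,6,5,6,5,2,1,0,3,2,1,4,3,2,5,2,3,4,1,2,3,0,1,2,5,6,5,2,1,0,3,2,1,4,3,2,5,2,3,4,1,2,3,0,1,2,5,6,5,2,1])))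
 (Tr.node (Tr.node (Tr.leaf [2,3,4,1,2,3,0,1,2,5,6,5,2,1,0,3,2,1,4,3,2,5,2,3,4,1,2,3,0,1,2,5,6,5,2,1,0,3,2,1,4,3,2,5,2,3,4,1,2,3,0,1,2,5,6,0,6,5,2,1,0,3,2,1,4,3,2,5,2,3,4,1,2,3,0,1,2,5,6,5,2,1,0,3,2,1,4,3,2,5,2,3,4,1,2,3,0,1,2,5,6,5,2,1,0,3,2,1,4,3,2,5,2,3,4,1,2,3,0,1,2,5,0,5,2,1,0,3,2,1,4,3,2,5])
 (Tr.leaf [2,5,2,3,4,1,2,3,0,1,2,5,4,5,2,1,0,3,2,1,4,3,2,5,2,3,4,1,2,3,0,1,2,5,6,5,2,1,0,3,2,1,4,3,2,5,2,3,4,1,2,3,0,1,2,5,6,5,2,1,0,3,2,1,4,3,2,5,2,3,4,1,2,3,0,1,2,5,6,4,6,5,2,1,0,3,2,1,4,3,2,5,2,3,4,1,2,3,0,1,2,5,6,5,2,1,0,3,2,1,4,3,2,5,2,3,4,1,2,3,0,1,2,5,6,5,2,1,0,3,2,1,4,3]))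
 (Tr.node (Tr.leaf [2,5,2,1,0,3,2,1,4,3,2,5,2,3,4,1,2,3,0,1,2,5,6,5,2,1,0,3,2,1,4,3,2,5,2,3,4,1,2,3,0,1,2,5,6,5,2,1,0,3,2,1,4,3,2,5,2,3,4,1,2,3,0,1,2,5,6,2,6,5,2,1,0,3,2,1,4,3,2,5,2,3,4,1,2,3,0,1,2,5,6,5,2,1,0,3,2,1,4,3,2,5,2,3,4,1,2,3,0,1,2,5,6,5,2,1,0,3,2,1,4,3,2,5,2,3,4,1,2,3,0,1,2,5])
 (Tr.leaf [2,5,6,5,2,1,0,3,2,1,4,3,2,5,2,3,4,1,2,3,0,1,2,5,6,5,2,1,0,3,2,1,4,3,2,5,2,3,4,1,2,3,0,1,2,5,6,5,2,1,0,3,2,1,4,3,2,5,2,3,4,1,2,3,0,1,2,5,6,5,2,1,0,3,2,1,4,3,2,5,2,3,4,1,2,3,0,1,2,5,6,6,6,5,2,1,0,3,2,1,4,3,2,5,2,3,4,1,2,3,0,1,2,5,6,5,2,1,0,3,2,1,4,3,2,5,2,3,4,1,2,3,0,1]))))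
 (Tr.node (Tr.node (Tr.node (Tr.leaf [4,1,2,3,0,1,2,5,6,5,2,1,0,3,2,1,4,3,2,5,2,3,4,1,2,3,0,1,2,5,6,5,2,1,0,3,2,1,4,3,2,5,2,3,4,1,2,3,0,1,2,5,0,5,2,1,0,3,2,1,4,3,2,5,2,3,4,1,2,3,0,1,2,5,6,5,2,1,0,3,2,1,4,3,2,5,2,3,4,1,2,3,0,1,2,5,6,5,2,1,0,3,2,1,4,3,2,5,2,3,4,1,2,3,0,1,2,5,6,0,6,5,2,1,0,3,2,1,4,3,2,5,2,3])
 (Tr.leaf [4,1,2,3,0,1,2,5,6,3,6,5,2,1,0,3,2,1,4,3,2,5,2,3,4,1,2,3,0,1,2,5,6,5,2,1,0,3,2,1,4,3,2,5,2,3,4,1,2,3,0,1,2,5,6,5,2,1,0,3,2,1,4,3,2,5,2,3,4,1,2,3,0,1,2,5,3,5,2,1,0,3,2,1,4,3,2,5,2,3,4,1,2,3,0,1,2,5,6,5,2,1,0,3,2,1,4,3,2,5,2,3,4,1,2,3,0,1,2,5,6,5,2,1,0,3,2,1,4,3,2,5,2,3]))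
 (Tr.node (Tr.leaf [2,1,0,3,2,1,4,3,2,5,2,3,4,1,2,3,0,1,2,5,6,5,2,1,0,3,2,1,4,3,2,5,2,3,4,1,2,3,0,1,2,5,6,5,2,1,0,3,2,1,4,3,2,5,2,3,4,1,2,3,0,1,2,5,2,5,2,1,0,3,2,1,4,3,2,5,2,3,4,1,2,3,0,1,2,5,6,5,2,1,0,3,2,1,4,3,2,5,2,3,4,1,2,3,0,1,2,5,6,5,2,1,0,3,2,1,4,3,2,5,2,3,4,1,2,3,0,1,2,5,6,2,6,5])
 (Tr.leaf [2,1,0,3,2,1,4,3,2,5,2,3,4,1,2,3,0,1,2,5,6,5,6,5,2,1,0,3,2,1,4,3,2,5,2,3,4,1,2,3,0,1,2,5,6,5,2,1,0,3,2,1,4,3,2,5,2,3,4,1,2,3,0,1,2,5,6,5,2,1,0,3,2,1,4,3,2,5,2,3,4,1,2,3,0,1,2,5,5,5,2,1,0,3,2,1,4,3,2,5,2,3,4,1,2,3,0,1,2,5,6,5,2,1,0,3,2,1,4,3,2,5,2,3,4,1,2,3,0,1,2,5,6,5])))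
 (Tr.node (Tr.node (Tr.leaf [4,3,2,5,2,3,4,1,2,3,0,1,2,5,6,5,2,1,0,3,2,1,4,3,2,5,2,3,4,1,2,3,0,1,2,5,6,5,2,1,0,3,2,1,4,3,2,5,2,3,4,1,2,3,0,1,2,5,1,5,2,1,0,3,2,1,4,3,2,5,2,3,4,1,2,3,0,1,2,5,6,5,2,1,0,3,2,1,4,3,2,5,2,3,4,1,2,3,0,1,2,5,6,5,2,1,0,3,2,1,4,3,2,5,2,3,4,1,2,3,0,1,2,5,6,1,6,5,2,1,0,3,2,1])
 (Tr.leaf [4,3,2,5,2,3,4,1,2,3,0,1,2,5,6,4,6,5,2,1,0,3,2,1,4,3,2,5,2,3,4,1,2,3,0,1,2,5,6,5,2,1,0,3,2,1,4,3,2,5,2,3,4,1,2,3,0,1,2,5,6,5,2,1,0,3,2,1,4,3,2,5,2,3,4,1,2,3,0,1,2,5,4,5,2,1,0,3,2,1,4,3,2,5,2,3,4,1,2,3,0,1,2,5,6,5,2,1,0,3,2,1,4,3,2,5,2,3,4,1,2,3,0,1,2,5,6,5,2,1,0,3,2,1]))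
 (Tr.node (Tr.leaf [2,5,6,2,6,5,2,1,0,3,2,1,4,3,2,5,2,3,4,1,2,3,0,1,2,5,6,5,2,1,0,3,2,1,4,3,2,5,2,3,4,1,2,3,0,1,2,5,6,5,2,1,0,3,2,1,4,3,2,5,2,3,4,1,2,3,0,1,2,5,2,5,2,1,0,3,2,1,4,3,2,5,2,3,4,1,2,3,0,1,2,5,6,5,2,1,0,3,2,1,4,3,2,5,2,3,4,1,2,3,0,1,2,5,6,5,2,1,0,3,2,1,4,3,2,5,2,3,4,1,2,3,0,1])
 (Tr.leaf [0,1,2,5,6,5,2,1,0,3,2,1,4,3,2,5,2,3,4,1,2,3,0,1,2,5,6,6,6,5,2,1,0,3,2,1,4,3,2,5,2,3,4,1,2,3,0,1,2,5,6,5,2,1,0,3,2,1,4,3,2,5,2,3,4,1,2,3,0,1,2,5,6,5,2,1,0,3,2,1,4,3,2,5,2,3,4,1,2,3,0,1,2,5,6,5,2,1,0,3,2,1,4,3,2,5,2,3,4,1,2,3,0,1,2,5,6,5,2,1,0,3,2,1,4,3,2,5,2,3,4,1,2,3])))))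
 (Tr.node (Tr.node (Tr.node (Tr.node (Tr.leaf [4,2,4,2])
 (Tr.leaf [0,3,2,1,4,3,2,5,2,3,4,1,2,3,0,1,2,5,6,5,2,1,0,3,2,1,4,3,2,5,2,3,4,1,2,3,0,1,2,5,6,3,6,5,2,1,0,3,2,1,4,3,2,5,2,3,4,1,2,3,0,1,2,5,6,5,2,1,0,3,2,1,4,3,2,5,2,3,4,1,2,3,0,1,2,5,6,5,2,1,0,3,2,1,4,3,2,5,2,3,4,1,2,3,0,1,2,5,3,5,2,1,0,3,2,1,4,3,2,5,2,3,4,1,2,3,0,1,2,5,6,5,2,1]))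
 (Tr.node (Tr.leaf [2,3,0,1,2,5,6,5,2,1,0,3,2,1,4,3,2,5,2,3,4,1,2,3,0,1,2,5,6,1,6,5,2,1,0,3,2,1,4,3,2,5,2,3,4,1,2,3,0,1,2,5,6,5,2,1,0,3,2,1,4,3,2,5,2,3,4,1,2,3,0,1,2,5,6,5,2,1,0,3,2,1,4,3,2,5,2,3,4,1,2,3,0,1,2,5,1,5,2,1,0,3,2,1,4,3,2,5,2,3,4,1,2,3,0,1,2,5,6,5,2,1,0,3,2,1,4,3,2,5,2,3,4,1])
 (Tr.leaf [4,1,2,3,0,1,2,5,6,5,2,1,0,3,2,1,4,3,2,5,2,3,4,1,2,3,0,1,2,5,6,5,2,1,0,3,2,1,4,3,2,5,2,3,4,1,2,3,0,1,2,5,6,5,6,5,2,1,0,3,2,1,4,3,2,5,2,3,4,1,2,3,0,1,2,5,6,5,2,1,0,3,2,1,4,3,2,5,2,3,4,1,2,3,0,1,2,5,6,5,2,1,0,3,2,1,4,3,2,5,2,3,4,1,2,3,0,1,2,5,5,5,2,1,0,3,2,1,4,3,2,5,2,3])))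
 (Tr.node (Tr.node (Tr.leaf [6,5,2,1,0,3,2,1,4,3,2,5,2,3,4,1,2,3,0,1,2,5,6,0,6,5,2,1,0,3,2,1,4,3,2,5,2,3,4,1,2,3,0,1,2,5,6,5,2,1,0,3,2,1,4,3,2,5,2,3,4,1,2,3,0,1,2,5,6,5,2,1,0,3,2,1,4,3,2,5,2,3,4,1,2,3,0,1,2,5,0,5,2,1,0,3,2,1,4,3,2,5,2,3,4,1,2,3,0,1,2,5,6,5,2,1,0,3,2,1,4,3,2,5,2,3,4,1,2,3,0,1,2,5])
 (Tr.leaf [2,5,6,5,2,1,0,3,2,1,4,3,2,5,2,3,4,1,2,3,0,1,2,5,6,5,2,1,0,3,2,1,4,3,2,5,2,3,4,1,2,3,0,1,2,5,6,4,6,5,2,1,0,3,2,1,4,3,2,5,2,3,4,1,2,3,0,1,2,5,6,5,2,1,0,3,2,1,4,3,2,5,2,3,4,1,2,3,0,1,2,5,6,5,2,1,0,3,2,1,4,3,2,5,2,3,4,1,2,3,0,1,2,5,4,5,2,1,0,3,2,1,4,3,2,5,2,3,4,1,2,3,0,1]))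
 (Tr.node (Tr.leaf [2,5,2,3,4,1,2,3,0,1,2,5,6,5,2,1,0,3,2,1,4,3,2,5,2,3,4,1,2,3,0,1,2,5,6,2,6,5,2,1,0,3,2,1,4,3,2,5,2,3,4,1,2,3,0,1,2,5,6,5,2,1,0,3,2,1,4,3,2,5,2,3,4,1,2,3,0,1,2,5,6,5,2,1,0,3,2,1,4,3,2,5,2,3,4,1,2,3,0,1,2,5,2,5,2,1,0,3,2,1,4,3,2,5,2,3,4,1,2,3,0,1,2,5,6,5,2,1,0,3,2,1,4,3])
 (Tr.leaf [4,3,2,5,2,3,4,1,2,3,0,1,2,5,6,5,2,1,0,3,2,1,4,3,2,5,2,3,4,1,2,3,0,1,2,5,6,5,2,1,0,3,2,1,4,3,2,5,2,3,4,1,2,3,0,1,2,5,6,6,6,5,2,1,0,3,2,1,4,3,2,5,2,3,4,1,2,3,0,1,2,5,6,5,2,1,0,3,2,1,4,3,2,5,2,3,4,1,2,3,0,1,2,5,6,5,2,1,0,3,2,1,4,3,2,5,2,3,4,1,2,3,0,1,2,5,6,5,2,1,0,3,2,1]))))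
 (Tr.node (Tr.node (Tr.node (Tr.leaf [2,1,0,3,2,1,4,3,2,5,2,3,4,1,2,3,0,1,2,5,0,5,2,1,0,3,2,1,4,3,2,5,2,3,4,1,2,3,0,1,2,5,6,5,2,1,0,3,2,1,4,3,2,5,2,3,4,1,2,3,0,1,2,5,6,5,2,1,0,3,2,1,4,3,2,5,2,3,4,1,2,3,0,1,2,5,6,0,6,5,2,1,0,3,2,1,4,3,2,5,2,3,4,1,2,3,0,1,2,5,6,5,2,1,0,3,2,1,4,3,2,5,2,3,4,1,2,3,0,1,2,5,6,5])
 (Tr.leaf [6,5,2,1,0,3,2,1,4,3,2,5,2,3,4,1,2,3,0,1,2,5,6,5,2,1,0,3,2,1,4,3,2,5,2,3,4,1,2,3,0,1,2,5,4,5,2,1,0,3,2,1,4,3,2,5,2,3,4,1,2,3,0,1,2,5,6,5,2,1,0,3,2,1,4,3,2,5,2,3,4,1,2,3,0,1,2,5,6,5,2,1,0,3,2,1,4,3,2,5,2,3,4,1,2,3,0,1,2,5,6,4,6,5,2,1,0,3,2,1,4,3,2,5,2,3,4,1,2,3,0,1,2,5]))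
 (Tr.node (Tr.leaf [2,3,4,1,2,3,0,1,2,5,6,5,2,1,0,3,2,1,4,3,2,5,2,3,4,1,2,3,0,1,2,5,2,5,2,1,0,3,2,1,4,3,2,5,2,3,4,1,2,3,0,1,2,5,6,5,2,1,0,3,2,1,4,3,2,5,2,3,4,1,2,3,0,1,2,5,6,5,2,1,0,3,2,1,4,3,2,5,2,3,4,1,2,3,0,1,2,5,6,2,6,5,2,1,0,3,2,1,4,3,2,5,2,3,4,1,2,3,0,1,2,5,6,5,2,1,0,3,2,1,4,3,2,5])
 (Tr.leaf [2,5,2,3,4,1,2,3,0,1,2,5,6,5,2,1,0,3,2,1,4,3,2,5,2,3,4,1,2,3,0,1,2,5,6,5,2,1,0,3,2,1,4,3,2,5,2,3,4,1,2,3,0,1,2,5,6,5,2,1,0,3,2,1,4,3,2,5,2,3,4,1,2,3,0,1,2,5,6,5,2,1,0,3,2,1,4,3,2,5,2,3,4,1,2,3,0,1,2,5,6,5,2,1,0,3,2,1,4,3,2,5,2,3,4,1,2,3,0,1,2,5,6,6,6,5,2,1,0,3,2,1,4,3])))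
 (Tr.node (Tr.node (Tr.leaf [0,1,2,5,6,5,2,1,0,3,2,1,4,3,2,5,2,3,4,1,2,3,0,1,2,5,1,5,2,1,0,3,2,1,4,3,2,5,2,3,4,1,2,3,0,1,2,5,6,5,2,1,0,3,2,1,4,3,2,5,2,3,4,1,2,3,0,1,2,5,6,5,2,1,0,3,2,1,4,3,2,5,2,3,4,1,2,3,0,1,2,5,6,1,6,5,2,1,0,3,2,1,4,3,2,5,2,3,4,1,2,3,0,1,2,5,6,5,2,1,0,3,2,1,4,3,2,5,2,3,4,1,2,3])
 (Tr.leaf [2,3,0,1,2,5,6,5,2,1,0,3,2,1,4,3,2,5,2,3,4,1,2,3,0,1,2,5,6,5,2,1,0,3,2,1,4,3,2,5,2,3,4,1,2,3,0,1,2,5,5,5,2,1,0,3,2,1,4,3,2,5,2,3,4,1,2,3,0,1,2,5,6,5,2,1,0,3,2,1,4,3,2,5,2,3,4,1,2,3,0,1,2,5,6,5,2,1,0,3,2,1,4,3,2,5,2,3,4,1,2,3,0,1,2,5,6,5,6,5,2,1,0,3,2,1,4,3,2,5,2,3,4,1]))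
 (Tr.node (Tr.leaf [2,1,4,3,2,5,2,3,4,1,2,3,0,1,2,5,6,5,2,1,0,3,2,1,4,3,2,5,2,3,4,1,2,3,0,1,2,5,3,5,2,1,0,3,2,1,4,3,2,5,2,3,4,1,2,3,0,1,2,5,6,5,2,1,0,3,2,1,4,3,2,5,2,3,4,1,2,3,0,1,2,5,6,5,2,1,0,3,2,1,4,3,2,5,2,3,4,1,2,3,0,1,2,5,6,3,6,5,2,1,0,3,2,1,4,3,2,5,2,3,4,1,2,3,0,1,2,5,6,5,2,1,0,3])
 (Tr.leaf [6,6,6,5,2,1,0,3,2,1,4,3,2,5,2,3,4,1,2,3,0,1,2,5,6,5,2,1,0,3,2,1,4,3,2,5,2,3,4,1,2,3,0,1,2,5,6,5,2,1,0,3,2,1,4,3,2,5,2,3,4,1,2,3,0,1,2,5,6,5,2,1,0,3,2,1,4,3,2,5,2,3,4,1,2,3,0,1,2,5,6,5,2,1,0,3,2,1,4,3,2,5,2,3,4,1,2,3,0,1,2,5,6,5,2,1,0,3,2,1,4,3,2,5,2,3,4,1,2,3,0,1,2,5]))))))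
 (Tr.node (Tr.node (Tr.node (Tr.node (Tr.node (Tr.leaf [5,0,5,0])
 (Tr.leaf [2,5,2,3,4,1,2,3,0,1,2,5,6,5,2,1,0,3,2,1,4,3,2,5,2,3,4,1,2,3,0,1,2,5,6,5,2,1,0,3,2,1,4,3,2,5,2,3,4,1,2,3,0,1,2,5,6,3,6,5,2,1,0,3,2,1,4,3,2,5,2,3,4,1,2,3,0,1,2,5,6,5,2,1,0,3,2,1,4,3,2,5,2,3,4,1,2,3,0,1,2,5,6,5,2,1,0,3,2,1,4,3,2,5,2,3,4,1,2,3,0,1,2,5,3,5,2,1,0,3,2,1,4,3]))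
 (Tr.node (Tr.leaf [6,5,2,1,0,3,2,1,4,3,2,5,2,3,4,1,2,3,0,1,2,5,6,5,2,1,0,3,2,1,4,3,2,5,2,3,4,1,2,3,0,1,2,5,6,1,6,5,2,1,0,3,2,1,4,3,2,5,2,3,4,1,2,3,0,1,2,5,6,5,2,1,0,3,2,1,4,3,2,5,2,3,4,1,2,3,0,1,2,5,6,5,2,1,0,3,2,1,4,3,2,5,2,3,4,1,2,3,0,1,2,5,1,5,2,1,0,3,2,1,4,3,2,5,2,3,4,1,2,3,0,1,2,5])
 (Tr.leaf [2,5,5,5,2,1,0,3,2,1,4,3,2,5,2,3,4,1,2,3,0,1,2,5,6,5,2,1,0,3,2,1,4,3,2,5,2,3,4,1,2,3,0,1,2,5,6,5,2,1,0,3,2,1,4,3,2,5,2,3,4,1,2,3,0,1,2,5,6,5,6,5,2,1,0,3,2,1,4,3,2,5,2,3,4,1,2,3,0,1,2,5,6,5,2,1,0,3,2,1,4,3,2,5,2,3,4,1,2,3,0,1,2,5,6,5,2,1,0,3,2,1,4,3,2,5,2,3,4,1,2,3,0,1])))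
 (Tr.node (Tr.node (Tr.leaf [2,1,4,3,2,5,2,3,4,1,2,3,0,1,2,5,6,5,2,1,0,3,2,1,4,3,2,5,2,3,4,1,2,3,0,1,2,5,6,0,6,5,2,1,0,3,2,1,4,3,2,5,2,3,4,1,2,3,0,1,2,5,6,5,2,1,0,3,2,1,4,3,2,5,2,3,4,1,2,3,0,1,2,5,6,5,2,1,0,3,2,1,4,3,2,5,2,3,4,1,2,3,0,1,2,5,0,5,2,1,0,3,2,1,4,3,2,5,2,3,4,1,2,3,0,1,2,5,6,5,2,1,0,3])
 (Tr.leaf [0,3,2,1,4,3,2,5,2,3,4,1,2,3,0,1,2,5,6,5,2,1,0,3,2,1,4,3,2,5,2,3,4,1,2,3,0,1,2,5,6,5,2,1,0,3,2,1,4,3,2,5,2,3,4,1,2,3,0,1,2,5,6,4,6,5,2,1,0,3,2,1,4,3,2,5,2,3,4,1,2,3,0,1,2,5,6,5,2,1,0,3,2,1,4,3,2,5,2,3,4,1,2,3,0,1,2,5,6,5,2,1,0,3,2,1,4,3,2,5,2,3,4,1,2,3,0,1,2,5,4,5,2,1]))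
 (Tr.node (Tr.leaf [2,3,0,1,2,5,6,5,2,1,0,3,2,1,4,3,2,5,2,3,4,1,2,3,0,1,2,5,6,5,2,1,0,3,2,1,4,3,2,5,2,3,4,1,2,3,0,1,2,5,6,2,6,5,2,1,0,3,2,1,4,3,2,5,2,3,4,1,2,3,0,1,2,5,6,5,2,1,0,3,2,1,4,3,2,5,2,3,4,1,2,3,0,1,2,5,6,5,2,1,0,3,2,1,4,3,2,5,2,3,4,1,2,3,0,1,2,5,2,5,2,1,0,3,2,1,4,3,2,5,2,3,4,1])
 (Tr.leaf [4,1,2,3,0,1,2,5,6,5,2,1,0,3,2,1,4,3,2,5,2,3,4,1,2,3,0,1,2,5,6,5,2,1,0,3,2,1,4,3,2,5,2,3,4,1,2,3,0,1,2,5,6,5,2,1,0,3,2,1,4,3,2,5,2,3,4,1,2,3,0,1,2,5,6,6,6,5,2,1,0,3,2,1,4,3,2,5,2,3,4,1,2,3,0,1,2,5,6,5,2,1,0,3,2,1,4,3,2,5,2,3,4,1,2,3,0,1,2,5,6,5,2,1,0,3,2,1,4,3,2,5,2,3]))))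
 (Tr.node (Tr.node (Tr.node (Tr.leaf [4,3,2,5,2,3,4,1,2,3,0,1,2,5,6,5,2,1,0,3,2,1,4,3,2,5,2,3,4,1,2,3,0,1,2,5,0,5,2,1,0,3,2,1,4,3,2,5,2,3,4,1,2,3,0,1,2,5,6,5,2,1,0,3,2,1,4,3,2,5,2,3,4,1,2,3,0,1,2,5,6,5,2,1,0,3,2,1,4,3,2,5,2,3,4,1,2,3,0,1,2,5,6,0,6,5,2,1,0,3,2,1,4,3,2,5,2,3,4,1,2,3,0,1,2,5,6,5,2,1,0,3,2,1])
 (Tr.leaf [2,1,4,3,2,5,2,3,4,1,2,3,0,1,2,5,6,5,2,1,0,3,2,1,4,3,2,5,2,3,4,1,2,3,0,1,2,5,6,5,2,1,0,3,2,1,4,3,2,5,2,3,4,1,2,3,0,1,2,5,4,5,2,1,0,3,2,1,4,3,2,5,2,3,4,1,2,3,0,1,2,5,6,5,2,1,0,3,2,1,4,3,2,5,2,3,4,1,2,3,0,1,2,5,6,5,2,1,0,3,2,1,4,3,2,5,2,3,4,1,2,3,0,1,2,5,6,4,6,5,2,1,0,3]))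
 (Tr.node (Tr.leaf [0,1,2,5,6,5,2,1,0,3,2,1,4,3,2,5,2,3,4,1,2,3,0,1,2,5,6,5,2,1,0,3,2,1,4,3,2,5,2,3,4,1,2,3,0,1,2,5,2,5,2,1,0,3,2,1,4,3,2,5,2,3,4,1,2,3,0,1,2,5,6,5,2,1,0,3,2,1,4,3,2,5,2,3,4,1,2,3,0,1,2,5,6,5,2,1,0,3,2,1,4,3,2,5,2,3,4,1,2,3,0,1,2,5,6,2,6,5,2,1,0,3,2,1,4,3,2,5,2,3,4,1,2,3])
 (Tr.leaf [0,1,2,5,6,5,6,5,2,1,0,3,2,1,4,3,2,5,2,3,4,1,2,3,0,1,2,5,6,5,2,1,0,3,2,1,4,3,2,5,2,3,4,1,2,3,0,1,2,5,6,5,2,1,0,3,2,1,4,3,2,5,2,3,4,1,2,3,0,1,2,5,5,5,2,1,0,3,2,1,4,3,2,5,2,3,4,1,2,3,0,1,2,5,6,5,2,1,0,3,2,1,4,3,2,5,2,3,4,1,2,3,0,1,2,5,6,5,2,1,0,3,2,1,4,3,2,5,2,3,4,1,2,3])))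
 (Tr.node (Tr.node (Tr.leaf [2,1,0,3,2,1,4,3,2,5,2,3,4,1,2,3,0,1,2,5,6,5,2,1,0,3,2,1,4,3,2,5,2,3,4,1,2,3,0,1,2,5,1,5,2,1,0,3,2,1,4,3,2,5,2,3,4,1,2,3,0,1,2,5,6,5,2,1,0,3,2,1,4,3,2,5,2,3,4,1,2,3,0,1,2,5,6,5,2,1,0,3,2,1,4,3,2,5,2,3,4,1,2,3,0,1,2,5,6,1,6,5,2,1,0,3,2,1,4,3,2,5,2,3,4,1,2,3,0,1,2,5,6,5])
 (Tr.leaf [5,6,5,2,1,0,3,2,1,4,3,2,5,2,3,4,1,2,3,0,1,2,5,6,5,2,1,0,3,2,1,4,3,2,5,2,3,4,1,2,3,0,1,2,5,6,5,2,1,0,3,2,1,4,3,2,5,2,3,4,1,2,3,0,1,2,5,5,5,2,1,0,3,2,1,4,3,2,5,2,3,4,1,2,3,0,1,2,5,6,5,2,1,0,3,2,1,4,3,2,5,2,3,4,1,2,3,0,1,2,5,6,5,2,1,0,3,2,1,4,3,2,5,2,3,4,1,2,3,0,1,2,5,6]))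
 (Tr.node (Tr.leaf [2,3,4,1,2,3,0,1,2,5,6,5,2,1,0,3,2,1,4,3,2,5,2,3,4,1,2,3,0,1,2,5,6,5,2,1,0,3,2,1,4,3,2,5,2,3,4,1,2,3,0,1,2,5,3,5,2,1,0,3,2,1,4,3,2,5,2,3,4,1,2,3,0,1,2,5,6,5,2,1,0,3,2,1,4,3,2,5,2,3,4,1,2,3,0,1,2,5,6,5,2,1,0,3,2,1,4,3,2,5,2,3,4,1,2,3,0,1,2,5,6,3,6,5,2,1,0,3,2,1,4,3,2,5])
 (Tr.leaf [2,3,4,1,2,3,0,1,2,5,6,6,6,5,2,1,0,3,2,1,4,3,2,5,2,3,4,1,2,3,0,1,2,5,6,5,2,1,0,3,2,1,4,3,2,5,2,3,4,1,2,3,0,1,2,5,6,5,2,1,0,3,2,1,4,3,2,5,2,3,4,1,2,3,0,1,2,5,6,5,2,1,0,3,2,1,4,3,2,5,2,3,4,1,2,3,0,1,2,5,6,5,2,1,0,3,2,1,4,3,2,5,2,3,4,1,2,3,0,1,2,5,6,5,2,1,0,3,2,1,4,3,2,5])))))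
 (Tr.node (Tr.node (Tr.node (Tr.node (Tr.leaf [6,5,6,5,6,5])
 (Tr.leaf [2,5,6,5,2,1,0,3,2,1,4,3,2,5,2,3,4,1,2,3,0,1,2,5,6,3,6,5,2,1,0,3,2,1,4,3,2,5,2,3,4,1,2,3,0,1,2,5,6,5,2,1,0,3,2,1,4,3,2,5,2,3,4,1,2,3,0,1,2,5,6,5,2,1,0,3,2,1,4,3,2,5,2,3,4,1,2,3,0,1,2,5,3,5,2,1,0,3,2,1,4,3,2,5,2,3,4,1,2,3,0,1,2,5,6,5,2,1,0,3,2,1,4,3,2,5,2,3,4,1,2,3,0,1]))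
 (Tr.node (Tr.leaf [2,5,2,3,4,1,2,3,0,1,2,5,6,1,6,5,2,1,0,3,2,1,4,3,2,5,2,3,4,1,2,3,0,1,2,5,6,5,2,1,0,3,2,1,4,3,2,5,2,3,4,1,2,3,0,1,2,5,6,5,2,1,0,3,2,1,4,3,2,5,2,3,4,1,2,3,0,1,2,5,1,5,2,1,0,3,2,1,4,3,2,5,2,3,4,1,2,3,0,1,2,5,6,5,2,1,0,3,2,1,4,3,2,5,2,3,4,1,2,3,0,1,2,5,6,5,2,1,0,3,2,1,4,3])
 (Tr.leaf [4,3,2,5,2,3,4,1,2,3,0,1,2,5,6,5,2,1,0,3,2,1,4,3,2,5,2,3,4,1,2,3,0,1,2,5,6,5,6,5,2,1,0,3,2,1,4,3,2,5,2,3,4,1,2,3,0,1,2,5,6,5,2,1,0,3,2,1,4,3,2,5,2,3,4,1,2,3,0,1,2,5,6,5,2,1,0,3,2,1,4,3,2,5,2,3,4,1,2,3,0,1,2,5,5,5,2,1,0,3,2,1,4,3,2,5,2,3,4,1,2,3,0,1,2,5,6,5,2,1,0,3,2,1])))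
 (Tr.node (Tr.node (Tr.leaf [2,3,0,1,2,5,6,0,6,5,2,1,0,3,2,1,4,3,2,5,2,3,4,1,2,3,0,1,2,5,6,5,2,1,0,3,2,1,4,3,2,5,2,3,4,1,2,3,0,1,2,5,6,5,2,1,0,3,2,1,4,3,2,5,2,3,4,1,2,3,0,1,2,5,0,5,2,1,0,3,2,1,4,3,2,5,2,3,4,1,2,3,0,1,2,5,6,5,2,1,0,3,2,1,4,3,2,5,2,3,4,1,2,3,0,1,2,5,6,5,2,1,0,3,2,1,4,3,2,5,2,3,4,1])
 (Tr.leaf [4,1,2,3,0,1,2,5,6,5,2,1,0,3,2,1,4,3,2,5,2,3,4,1,2,3,0,1,2,5,6,4,6,5,2,1,0,3,2,1,4,3,2,5,2,3,4,1,2,3,0,1,2,5,6,5,2,1,0,3,2,1,4,3,2,5,2,3,4,1,2,3,0,1,2,5,6,5,2,1,0,3,2,1,4,3,2,5,2,3,4,1,2,3,0,1,2,5,4,5,2,1,0,3,2,1,4,3,2,5,2,3,4,1,2,3,0,1,2,5,6,5,2,1,0,3,2,1,4,3,2,5,2,3]))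
 (Tr.node (Tr.leaf [0,3,2,1,4,3,2,5,2,3,4,1,2,3,0,1,2,5,6,2,6,5,2,1,0,3,2,1,4,3,2,5,2,3,4,1,2,3,0,1,2,5,6,5,2,1,0,3,2,1,4,3,2,5,2,3,4,1,2,3,0,1,2,5,6,5,2,1,0,3,2,1,4,3,2,5,2,3,4,1,2,3,0,1,2,5,2,5,2,1,0,3,2,1,4,3,2,5,2,3,4,1,2,3,0,1,2,5,6,5,2,1,0,3,2,1,4,3,2,5,2,3,4,1,2,3,0,1,2,5,6,5,2,1])
 (Tr.leaf [2,1,0,3,2,1,4,3,2,5,2,3,4,1,2,3,0,1,2,5,6,5,2,1,0,3,2,1,4,3,2,5,2,3,4,1,2,3,0,1,2,5,6,6,6,5,2,1,0,3,2,1,4,3,2,5,2,3,4,1,2,3,0,1,2,5,6,5,2,1,0,3,2,1,4,3,2,5,2,3,4,1,2,3,0,1,2,5,6,5,2,1,0,3,2,1,4,3,2,5,2,3,4,1,2,3,0,1,2,5,6,5,2,1,0,3,2,1,4,3,2,5,2,3,4,1,2,3,0,1,2,5,6,5]))))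
 (Tr.node (Tr.node (Tr.node (Tr.leaf [0,1,2,5,0,5,2,1,0,3,2,1,4,3,2,5,2,3,4,1,2,3,0,1,2,5,6,5,2,1,0,3,2,1,4,3,2,5,2,3,4,1,2,3,0,1,2,5,6,5,2,1,0,3,2,1,4,3,2,5,2,3,4,1,2,3,0,1,2,5,6,0,6,5,2,1,0,3,2,1,4,3,2,5,2,3,4,1,2,3,0,1,2,5,6,5,2,1,0,3,2,1,4,3,2,5,2,3,4,1,2,3,0,1,2,5,6,5,2,1,0,3,2,1,4,3,2,5,2,3,4,1,2,3])
 (Tr.leaf [2,3,0,1,2,5,6,5,2,1,0,3,2,1,4,3,2,5,2,3,4,1,2,3,0,1,2,5,4,5,2,1,0,3,2,1,4,3,2,5,2,3,4,1,2,3,0,1,2,5,6,5,2,1,0,3,2,1,4,3,2,5,2,3,4,1,2,3,0,1,2,5,6,5,2,1,0,3,2,1,4,3,2,5,2,3,4,1,2,3,0,1,2,5,6,4,6,5,2,1,0,3,2,1,4,3,2,5,2,3,4,1,2,3,0,1,2,5,6,5,2,1,0,3,2,1,4,3,2,5,2,3,4,1]))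
 (Tr.node (Tr.leaf [2,1,4,3,2,5,2,3,4,1,2,3,0,1,2,5,2,5,2,1,0,3,2,1,4,3,2,5,2,3,4,1,2,3,0,1,2,5,6,5,2,1,0,3,2,1,4,3,2,5,2,3,4,1,2,3,0,1,2,5,6,5,2,1,0,3,2,1,4,3,2,5,2,3,4,1,2,3,0,1,2,5,6,2,6,5,2,1,0,3,2,1,4,3,2,5,2,3,4,1,2,3,0,1,2,5,6,5,2,1,0,3,2,1,4,3,2,5,2,3,4,1,2,3,0,1,2,5,6,5,2,1,0,3])
 (Tr.leaf [0,3,2,1,4,3,2,5,2,3,4,1,2,3,0,1,2,5,6,5,2,1,0,3,2,1,4,3,2,5,2,3,4,1,2,3,0,1,2,5,6,5,2,1,0,3,2,1,4,3,2,5,2,3,4,1,2,3,0,1,2,5,6,5,2,1,0,3,2,1,4,3,2,5,2,3,4,1,2,3,0,1,2,5,6,5,2,1,0,3,2,1,4,3,2,5,2,3,4,1,2,3,0,1,2,5,6,6,6,5,2,1,0,3,2,1,4,3,2,5,2,3,4,1,2,3,0,1,2,5,6,5,2,1])))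
 (Tr.node (Tr.node (Tr.leaf [2,3,4,1,2,3,0,1,2,5,1,5,2,1,0,3,2,1,4,3,2,5,2,3,4,1,2,3,0,1,2,5,6,5,2,1,0,3,2,1,4,3,2,5,2,3,4,1,2,3,0,1,2,5,6,5,2,1,0,3,2,1,4,3,2,5,2,3,4,1,2,3,0,1,2,5,6,1,6,5,2,1,0,3,2,1,4,3,2,5,2,3,4,1,2,3,0,1,2,5,6,5,2,1,0,3,2,1,4,3,2,5,2,3,4,1,2,3,0,1,2,5,6,5,2,1,0,3,2,1,4,3,2,5])
 (Tr.leaf [2,5,2,3,4,1,2,3,0,1,2,5,6,5,2,1,0,3,2,1,4,3,2,5,2,3,4,1,2,3,0,1,2,5,5,5,2,1,0,3,2,1,4,3,2,5,2,3,4,1,2,3,0,1,2,5,6,5,2,1,0,3,2,1,4,3,2,5,2,3,4,1,2,3,0,1,2,5,6,5,2,1,0,3,2,1,4,3,2,5,2,3,4,1,2,3,0,1,2,5,6,5,6,5,2,1,0,3,2,1,4,3,2,5,2,3,4,1,2,3,0,1,2,5,6,5,2,1,0,3,2,1,4,3]))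
 (Tr.node (Tr.leaf [6,5,2,1,0,3,2,1,4,3,2,5,2,3,4,1,2,3,0,1,2,5,3,5,2,1,0,3,2,1,4,3,2,5,2,3,4,1,2,3,0,1,2,5,6,5,2,1,0,3,2,1,4,3,2,5,2,3,4,1,2,3,0,1,2,5,6,5,2,1,0,3,2,1,4,3,2,5,2,3,4,1,2,3,0,1,2,5,6,3,6,5,2,1,0,3,2,1,4,3,2,5,2,3,4,1,2,3,0,1,2,5,6,5,2,1,0,3,2,1,4,3,2,5,2,3,4,1,2,3,0,1,2,5])
 (Tr.leaf [6,6,6,5,2,1,0,3,2,1,4,3,2,5,2,3,4,1,2,3,0,1,2,5,6,5,2,1,0,3,2,1,4,3,2,5,2,3,4,1,2,3,0,1,2,5,6,5,2,1,0,3,2,1,4,3,2,5,2,3,4,1,2,3,0,1,2,5,6,5,2,1,0,3,2,1,4,3,2,5,2,3,4,1,2,3,0,1,2,5,6,5,2,1,0,3,2,1,4,3,2,5,2,3,4,1,2,3,0,1,2,5,6,5,2,1,0,3,2,1,4,3,2,5,2,3,4,1,2,3,0,1,2,5])))))))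
 (Tr.node (Tr.node (Tr.node (Tr.node (Tr.node (Tr.node (Tr.leaf [1,0,1,0,1,0])
 (Tr.leaf [2,1,0,3,2,1,4,3,2,5,2,3,4,1,2,3,0,1,2,5,6,5,2,1,0,3,2,1,4,3,2,5,2,3,4,1,2,3,0,1,2,5,6,5,2,1,0,3,2,1,4,3,2,5,2,3,4,1,2,3,0,1,2,5,6,3,6,5,2,1,0,3,2,1,4,3,2,5,2,3,4,1,2,3,0,1,2,5,6,5,2,1,0,3,2,1,4,3,2,5,2,3,4,1,2,3,0,1,2,5,6,5,2,1,0,3,2,1,4,3,2,5,2,3,4,1,2,3,0,1,2,5,3,5]))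
 (Tr.node (Tr.leaf [4,1,2,3,0,1,2,5,6,5,2,1,0,3,2,1,4,3,2,5,2,3,4,1,2,3,0,1,2,5,6,5,2,1,0,3,2,1,4,3,2,5,2,3,4,1,2,3,0,1,2,5,6,1,6,5,2,1,0,3,2,1,4,3,2,5,2,3,4,1,2,3,0,1,2,5,6,5,2,1,0,3,2,1,4,3,2,5,2,3,4,1,2,3,0,1,2,5,6,5,2,1,0,3,2,1,4,3,2,5,2,3,4,1,2,3,0,1,2,5,1,5,2,1,0,3,2,1,4,3,2,5,2,3])
 (Tr.leaf [2,3,4,1,2,3,0,1,2,5,5,5,2,1,0,3,2,1,4,3,2,5,2,3,4,1,2,3,0,1,2,5,6,5,2,1,0,3,2,1,4,3,2,5,2,3,4,1,2,3,0,1,2,5,6,5,2,1,0,3,2,1,4,3,2,5,2,3,4,1,2,3,0,1,2,5,6,5,6,5,2,1,0,3,2,1,4,3,2,5,2,3,4,1,2,3,0,1,2,5,6,5,2,1,0,3,2,1,4,3,2,5,2,3,4,1,2,3,0,1,2,5,6,5,2,1,0,3,2,1,4,3,2,5])))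
 (Tr.node (Tr.node (Tr.leaf [2,5,6,5,2,1,0,3,2,1,4,3,2,5,2,3,4,1,2,3,0,1,2,5,6,5,2,1,0,3,2,1,4,3,2,5,2,3,4,1,2,3,0,1,2,5,6,0,6,5,2,1,0,3,2,1,4,3,2,5,2,3,4,1,2,3,0,1,2,5,6,5,2,1,0,3,2,1,4,3,2,5,2,3,4,1,2,3,0,1,2,5,6,5,2,1,0,3,2,1,4,3,2,5,2,3,4,1,2,3,0,1,2,5,0,5,2,1,0,3,2,1,4,3,2,5,2,3,4,1,2,3,0,1])
 (Tr.leaf [0,1,2,5,4,5,2,1,0,3,2,1,4,3,2,5,2,3,4,1,2,3,0,1,2,5,6,5,2,1,0,3,2,1,4,3,2,5,2,3,4,1,2,3,0,1,2,5,6,5,2,1,0,3,2,1,4,3,2,5,2,3,4,1,2,3,0,1,2,5,6,4,6,5,2,1,0,3,2,1,4,3,2,5,2,3,4,1,2,3,0,1,2,5,6,5,2,1,0,3,2,1,4,3,2,5,2,3,4,1,2,3,0,1,2,5,6,5,2,1,0,3,2,1,4,3,2,5,2,3,4,1,2,3]))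
 (Tr.node (Tr.leaf [4,3,2,5,2,3,4,1,2,3,0,1,2,5,6,5,2,1,0,3,2,1,4,3,2,5,2,3,4,1,2,3,0,1,2,5,6,5,2,1,0,3,2,1,4,3,2,5,2,3,4,1,2,3,0,1,2,5,6,2,6,5,2,1,0,3,2,1,4,3,2,5,2,3,4,1,2,3,0,1,2,5,6,5,2,1,0,3,2,1,4,3,2,5,2,3,4,1,2,3,0,1,2,5,6,5,2,1,0,3,2,1,4,3,2,5,2,3,4,1,2,3,0,1,2,5,2,5,2,1,0,3,2,1])
 (Tr.leaf [2,1,4,3,2,5,2,3,4,1,2,3,0,1,2,5,6,5,2,1,0,3,2,1,4,3,2,5,2,3,4,1,2,3,0,1,2,5,6,5,2,1,0,3,2,1,4,3,2,5,2,3,4,1,2,3,0,1,2,5,6,5,2,1,0,3,2,1,4,3,2,5,2,3,4,1,2,3,0,1,2,5,6,6,6,5,2,1,0,3,2,1,4,3,2,5,2,3,4,1,2,3,0,1,2,5,6,5,2,1,0,3,2,1,4,3,2,5,2,3,4,1,2,3,0,1,2,5,6,5,2,1,0,3]))))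
 (Tr.node (Tr.node (Tr.node (Tr.leaf [6,5,2,1,0,3,2,1,4,3,2,5,2,3,4,1,2,3,0,1,2,5,6,5,2,1,0,3,2,1,4,3,2,5,2,3,4,1,2,3,0,1,2,5,0,5,2,1,0,3,2,1,4,3,2,5,2,3,4,1,2,3,0,1,2,5,6,5,2,1,0,3,2,1,4,3,2,5,2,3,4,1,2,3,0,1,2,5,6,5,2,1,0,3,2,1,4,3,2,5,2,3,4,1,2,3,0,1,2,5,6,0,6,5,2,1,0,3,2,1,4,3,2,5,2,3,4,1,2,3,0,1,2,5])
 (Tr.leaf [6,3,6,5,2,1,0,3,2,1,4,3,2,5,2,3,4,1,2,3,0,1,2,5,6,5,2,1,0,3,2,1,4,3,2,5,2,3,4,1,2,3,0,1,2,5,6,5,2,1,0,3,2,1,4,3,2,5,2,3,4,1,2,3,0,1,2,5,3,5,2,1,0,3,2,1,4,3,2,5,2,3,4,1,2,3,0,1,2,5,6,5,2,1,0,3,2,1,4,3,2,5,2,3,4,1,2,3,0,1,2,5,6,5,2,1,0,3,2,1,4,3,2,5,2,3,4,1,2,3,0,1,2,5]))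
 (Tr.node (Tr.leaf [2,5,2,3,4,1,2,3,0,1,2,5,6,5,2,1,0,3,2,1,4,3,2,5,2,3,4,1,2,3,0,1,2,5,6,5,2,1,0,3,2,1,4,3,2,5,2,3,4,1,2,3,0,1,2,5,2,5,2,1,0,3,2,1,4,3,2,5,2,3,4,1,2,3,0,1,2,5,6,5,2,1,0,3,2,1,4,3,2,5,2,3,4,1,2,3,0,1,2,5,6,5,2,1,0,3,2,1,4,3,2,5,2,3,4,1,2,3,0,1,2,5,6,2,6,5,2,1,0,3,2,1,4,3])
 (Tr.leaf [2,5,2,3,4,1,2,3,0,1,2,5,6,5,6,5,2,1,0,3,2,1,4,3,2,5,2,3,4,1,2,3,0,1,2,5,6,5,2,1,0,3,2,1,4,3,2,5,2,3,4,1,2,3,0,1,2,5,6,5,2,1,0,3,2,1,4,3,2,5,2,3,4,1,2,3,0,1,2,5,5,5,2,1,0,3,2,1,4,3,2,5,2,3,4,1,2,3,0,1,2,5,6,5,2,1,0,3,2,1,4,3,2,5,2,3,4,1,2,3,0,1,2,5,6,5,2,1,0,3,2,1,4,3])))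
 (Tr.node (Tr.node (Tr.leaf [2,3,0,1,2,5,6,5,2,1,0,3,2,1,4,3,2,5,2,3,4,1,2,3,0,1,2,5,6,5,2,1,0,3,2,1,4,3,2,5,2,3,4,1,2,3,0,1,2,5,1,5,2,1,0,3,2,1,4,3,2,5,2,3,4,1,2,3,0,1,2,5,6,5,2,1,0,3,2,1,4,3,2,5,2,3,4,1,2,3,0,1,2,5,6,5,2,1,0,3,2,1,4,3,2,5,2,3,4,1,2,3,0,1,2,5,6,1,6,5,2,1,0,3,2,1,4,3,2,5,2,3,4,1])
 (Tr.leaf [2,3,0,1,2,5,6,4,6,5,2,1,0,3,2,1,4,3,2,5,2,3,4,1,2,3,0,1,2,5,6,5,2,1,0,3,2,1,4,3,2,5,2,3,4,1,2,3,0,1,2,5,6,5,2,1,0,3,2,1,4,3,2,5,2,3,4,1,2,3,0,1,2,5,4,5,2,1,0,3,2,1,4,3,2,5,2,3,4,1,2,3,0,1,2,5,6,5,2,1,0,3,2,1,4,3,2,5,2,3,4,1,2,3,0,1,2,5,6,5,2,1,0,3,2,1,4,3,2,5,2,3,4,1]))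
 (Tr.node (Tr.leaf [0,3,2,1,4,3,2,5,2,3,4,1,2,3,0,1,2,5,6,5,2,1,0,3,2,1,4,3,2,5,2,3,4,1,2,3,0,1,2,5,6,5,2,1,0,3,2,1,4,3,2,5,2,3,4,1,2,3,0,1,2,5,3,5,2,1,0,3,2,1,4,3,2,5,2,3,4,1,2,3,0,1,2,5,6,5,2,1,0,3,2,1,4,3,2,5,2,3,4,1,2,3,0,1,2,5,6,5,2,1,0,3,2,1,4,3,2,5,2,3,4,1,2,3,0,1,2,5,6,3,6,5,2,1])
 (Tr.leaf [0,3,2,1,4,3,2,5,2,3,4,1,2,3,0,1,2,5,6,6,6,5,2,1,0,3,2,1,4,3,2,5,2,3,4,1,2,3,0,1,2,5,6,5,2,1,0,3,2,1,4,3,2,5,2,3,4,1,2,3,0,1,2,5,6,5,2,1,0,3,2,1,4,3,2,5,2,3,4,1,2,3,0,1,2,5,6,5,2,1,0,3,2,1,4,3,2,5,2,3,4,1,2,3,0,1,2,5,6,5,2,1,0,3,2,1,4,3,2,5,2,3,4,1,2,3,0,1,2,5,6,5,2,1])))))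
 (Tr.node (Tr.node (Tr.node (Tr.node (Tr.leaf [5,3,5,3])
 (Tr.leaf [2,3,4,1,2,3,0,1,2,5,6,5,2,1,0,3,2,1,4,3,2,5,2,3,4,1,2,3,0,1,2,5,6,3,6,5,2,1,0,3,2,1,4,3,2,5,2,3,4,1,2,3,0,1,2,5,6,5,2,1,0,3,2,1,4,3,2,5,2,3,4,1,2,3,0,1,2,5,6,5,2,1,0,3,2,1,4,3,2,5,2,3,4,1,2,3,0,1,2,5,3,5,2,1,0,3,2,1,4,3,2,5,2,3,4,1,2,3,0,1,2,5,6,5,2,1,0,3,2,1,4,3,2,5]))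
 (Tr.node (Tr.leaf [2,1,0,3,2,1,4,3,2,5,2,3,4,1,2,3,0,1,2,5,6,1,6,5,2,1,0,3,2,1,4,3,2,5,2,3,4,1,2,3,0,1,2,5,6,5,2,1,0,3,2,1,4,3,2,5,2,3,4,1,2,3,0,1,2,5,6,5,2,1,0,3,2,1,4,3,2,5,2,3,4,1,2,3,0,1,2,5,1,5,2,1,0,3,2,1,4,3,2,5,2,3,4,1,2,3,0,1,2,5,6,5,2,1,0,3,2,1,4,3,2,5,2,3,4,1,2,3,0,1,2,5,6,5])
 (Tr.leaf [6,5,2,1,0,3,2,1,4,3,2,5,2,3,4,1,2,3,0,1,2,5,6,5,2,1,0,3,2,1,4,3,2,5,2,3,4,1,2,3,0,1,2,5,6,5,6,5,2,1,0,3,2,1,4,3,2,5,2,3,4,1,2,3,0,1,2,5,6,5,2,1,0,3,2,1,4,3,2,5,2,3,4,1,2,3,0,1,2,5,6,5,2,1,0,3,2,1,4,3,2,5,2,3,4,1,2,3,0,1,2,5,5,5,2,1,0,3,2,1,4,3,2,5,2,3,4,1,2,3,0,1,2,5])))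
 (Tr.node (Tr.node (Tr.leaf [4,3,2,5,2,3,4,1,2,3,0,1,2,5,6,0,6,5,2,1,0,3,2,1,4,3,2,5,2,3,4,1,2,3,0,1,2,5,6,5,2,1,0,3,2,1,4,3,2,5,2,3,4,1,2,3,0,1,2,5,6,5,2,1,0,3,2,1,4,3,2,5,2,3,4,1,2,3,0,1,2,5,0,5,2,1,0,3,2,1,4,3,2,5,2,3,4,1,2,3,0,1,2,5,6,5,2,1,0,3,2,1,4,3,2,5,2,3,4,1,2,3,0,1,2,5,6,5,2,1,0,3,2,1])
 (Tr.leaf [2,1,4,3,2,5,2,3,4,1,2,3,0,1,2,5,6,5,2,1,0,3,2,1,4,3,2,5,2,3,4,1,2,3,0,1,2,5,6,4,6,5,2,1,0,3,2,1,4,3,2,5,2,3,4,1,2,3,0,1,2,5,6,5,2,1,0,3,2,1,4,3,2,5,2,3,4,1,2,3,0,1,2,5,6,5,2,1,0,3,2,1,4,3,2,5,2,3,4,1,2,3,0,1,2,5,4,5,2,1,0,3,2,1,4,3,2,5,2,3,4,1,2,3,0,1,2,5,6,5,2,1,0,3]))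
 (Tr.node (Tr.leaf [0,1,2,5,6,5,2,1,0,3,2,1,4,3,2,5,2,3,4,1,2,3,0,1,2,5,6,2,6,5,2,1,0,3,2,1,4,3,2,5,2,3,4,1,2,3,0,1,2,5,6,5,2,1,0,3,2,1,4,3,2,5,2,3,4,1,2,3,0,1,2,5,6,5,2,1,0,3,2,1,4,3,2,5,2,3,4,1,2,3,0,1,2,5,2,5,2,1,0,3,2,1,4,3,2,5,2,3,4,1,2,3,0,1,2,5,6,5,2,1,0,3,2,1,4,3,2,5,2,3,4,1,2,3])
 (Tr.leaf [2,3,0,1,2,5,6,5,2,1,0,3,2,1,4,3,2,5,2,3,4,1,2,3,0,1,2,5,6,5,2,1,0,3,2,1,4,3,2,5,2,3,4,1,2,3,0,1,2,5,6,6,6,5,2,1,0,3,2,1,4,3,2,5,2,3,4,1,2,3,0,1,2,5,6,5,2,1,0,3,2,1,4,3,2,5,2,3,4,1,2,3,0,1,2,5,6,5,2,1,0,3,2,1,4,3,2,5,2,3,4,1,2,3,0,1,2,5,6,5,2,1,0,3,2,1,4,3,2,5,2,3,4,1]))))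
 (Tr.node (Tr.node (Tr.node (Tr.leaf [2,5,2,3,4,1,2,3,0,1,2,5,0,5,2,1,0,3,2,1,4,3,2,5,2,3,4,1,2,3,0,1,2,5,6,5,2,1,0,3,2,1,4,3,2,5,2,3,4,1,2,3,0,1,2,5,6,5,2,1,0,3,2,1,4,3,2,5,2,3,4,1,2,3,0,1,2,5,6,0,6,5,2,1,0,3,2,1,4,3,2,5,2,3,4,1,2,3,0,1,2,5,6,5,2,1,0,3,2,1,4,3,2,5,2,3,4,1,2,3,0,1,2,5,6,5,2,1,0,3,2,1,4,3])
 (Tr.leaf [4,3,2,5,2,3,4,1,2,3,0,1,2,5,6,5,2,1,0,3,2,1,4,3,2,5,2,3,4,1,2,3,0,1,2,5,4,5,2,1,0,3,2,1,4,3,2,5,2,3,4,1,2,3,0,1,2,5,6,5,2,1,0,3,2,1,4,3,2,5,2,3,4,1,2,3,0,1,2,5,6,5,2,1,0,3,2,1,4,3,2,5,2,3,4,1,2,3,0,1,2,5,6,4,6,5,2,1,0,3,2,1,4,3,2,5,2,3,4,1,2,3,0,1,2,5,6,5,2,1,0,3,2,1]))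
 (Tr.node (Tr.leaf [2,5,6,5,2,1,0,3,2,1,4,3,2,5,2,3,4,1,2,3,0,1,2,5,2,5,2,1,0,3,2,1,4,3,2,5,2,3,4,1,2,3,0,1,2,5,6,5,2,1,0,3,2,1,4,3,2,5,2,3,4,1,2,3,0,1,2,5,6,5,2,1,0,3,2,1,4,3,2,5,2,3,4,1,2,3,0,1,2,5,6,2,6,5,2,1,0,3,2,1,4,3,2,5,2,3,4,1,2,3,0,1,2,5,6,5,2,1,0,3,2,1,4,3,2,5,2,3,4,1,2,3,0,1])
 (Tr.leaf [0,1,2,5,6,5,2,1,0,3,2,1,4,3,2,5,2,3,4,1,2,3,0,1,2,5,6,5,2,1,0,3,2,1,4,3,2,5,2,3,4,1,2,3,0,1,2,5,6,5,2,1,0,3,2,1,4,3,2,5,2,3,4,1,2,3,0,1,2,5,6,5,2,1,0,3,2,1,4,3,2,5,2,3,4,1,2,3,0,1,2,5,6,5,2,1,0,3,2,1,4,3,2,5,2,3,4,1,2,3,0,1,2,5,6,6,6,5,2,1,0,3,2,1,4,3,2,5,2,3,4,1,2,3])))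
 (Tr.node (Tr.node (Tr.leaf [0,3,2,1,4,3,2,5,2,3,4,1,2,3,0,1,2,5,1,5,2,1,0,3,2,1,4,3,2,5,2,3,4,1,2,3,0,1,2,5,6,5,2,1,0,3,2,1,4,3,2,5,2,3,4,1,2,3,0,1,2,5,6,5,2,1,0,3,2,1,4,3,2,5,2,3,4,1,2,3,0,1,2,5,6,1,6,5,2,1,0,3,2,1,4,3,2,5,2,3,4,1,2,3,0,1,2,5,6,5,2,1,0,3,2,1,4,3,2,5,2,3,4,1,2,3,0,1,2,5,6,5,2,1])
 (Tr.leaf [2,1,0,3,2,1,4,3,2,5,2,3,4,1,2,3,0,1,2,5,6,5,2,1,0,3,2,1,4,3,2,5,2,3,4,1,2,3,0,1,2,5,5,5,2,1,0,3,2,1,4,3,2,5,2,3,4,1,2,3,0,1,2,5,6,5,2,1,0,3,2,1,4,3,2,5,2,3,4,1,2,3,0,1,2,5,6,5,2,1,0,3,2,1,4,3,2,5,2,3,4,1,2,3,0,1,2,5,6,5,6,5,2,1,0,3,2,1,4,3,2,5,2,3,4,1,2,3,0,1,2,5,6,5]))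
 (Tr.node (Tr.leaf [4,1,2,3,0,1,2,5,6,5,2,1,0,3,2,1,4,3,2,5,2,3,4,1,2,3,0,1,2,5,3,5,2,1,0,3,2,1,4,3,2,5,2,3,4,1,2,3,0,1,2,5,6,5,2,1,0,3,2,1,4,3,2,5,2,3,4,1,2,3,0,1,2,5,6,5,2,1,0,3,2,1,4,3,2,5,2,3,4,1,2,3,0,1,2,5,6,3,6,5,2,1,0,3,2,1,4,3,2,5,2,3,4,1,2,3,0,1,2,5,6,5,2,1,0,3,2,1,4,3,2,5,2,3])
 (Tr.leaf [6,6,6,5,2,1,0,3,2,1,4,3,2,5,2,3,4,1,2,3,0,1,2,5,6,5,2,1,0,3,2,1,4,3,2,5,2,3,4,1,2,3,0,1,2,5,6,5,2,1,0,3,2,1,4,3,2,5,2,3,4,1,2,3,0,1,2,5,6,5,2,1,0,3,2,1,4,3,2,5,2,3,4,1,2,3,0,1,2,5,6,5,2,1,0,3,2,1,4,3,2,5,2,3,4,1,2,3,0,1,2,5,6,5,2,1,0,3,2,1,4,3,2,5,2,3,4,1,2,3,0,1,2,5]))))))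
 (Tr.node (Tr.node (Tr.node (Tr.node (Tr.node (Tr.leaf [4,1,4,1])
 (Tr.leaf [0,1,2,5,6,5,2,1,0,3,2,1,4,3,2,5,2,3,4,1,2,3,0,1,2,5,6,5,2,1,0,3,2,1,4,3,2,5,2,3,4,1,2,3,0,1,2,5,6,3,6,5,2,1,0,3,2,1,4,3,2,5,2,3,4,1,2,3,0,1,2,5,6,5,2,1,0,3,2,1,4,3,2,5,2,3,4,1,2,3,0,1,2,5,6,5,2,1,0,3,2,1,4,3,2,5,2,3,4,1,2,3,0,1,2,5,3,5,2,1,0,3,2,1,4,3,2,5,2,3,4,1,2,3]))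
 (Tr.node (Tr.leaf [4,3,2,5,2,3,4,1,2,3,0,1,2,5,6,5,2,1,0,3,2,1,4,3,2,5,2,3,4,1,2,3,0,1,2,5,6,1,6,5,2,1,0,3,2,1,4,3,2,5,2,3,4,1,2,3,0,1,2,5,6,5,2,1,0,3,2,1,4,3,2,5,2,3,4,1,2,3,0,1,2,5,6,5,2,1,0,3,2,1,4,3,2,5,2,3,4,1,2,3,0,1,2,5,1,5,2,1,0,3,2,1,4,3,2,5,2,3,4,1,2,3,0,1,2,5,6,5,2,1,0,3,2,1])
 (Tr.leaf [2,1,4,3,2,5,2,3,4,1,2,3,0,1,2,5,6,5,2,1,0,3,2,1,4,3,2,5,2,3,4,1,2,3,0,1,2,5,6,5,2,1,0,3,2,1,4,3,2,5,2,3,4,1,2,3,0,1,2,5,6,5,6,5,2,1,0,3,2,1,4,3,2,5,2,3,4,1,2,3,0,1,2,5,6,5,2,1,0,3,2,1,4,3,2,5,2,3,4,1,2,3,0,1,2,5,6,5,2,1,0,3,2,1,4,3,2,5,2,3,4,1,2,3,0,1,2,5,5,5,2,1,0,3])))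
 (Tr.node (Tr.node (Tr.leaf [4,1,2,3,0,1,2,5,6,5,2,1,0,3,2,1,4,3,2,5,2,3,4,1,2,3,0,1,2,5,6,0,6,5,2,1,0,3,2,1,4,3,2,5,2,3,4,1,2,3,0,1,2,5,6,5,2,1,0,3,2,1,4,3,2,5,2,3,4,1,2,3,0,1,2,5,6,5,2,1,0,3,2,1,4,3,2,5,2,3,4,1,2,3,0,1,2,5,0,5,2,1,0,3,2,1,4,3,2,5,2,3,4,1,2,3,0,1,2,5,6,5,2,1,0,3,2,1,4,3,2,5,2,3])
 (Tr.leaf [2,3,4,1,2,3,0,1,2,5,6,5,2,1,0,3,2,1,4,3,2,5,2,3,4,1,2,3,0,1,2,5,6,5,2,1,0,3,2,1,4,3,2,5,2,3,4,1,2,3,0,1,2,5,6,4,6,5,2,1,0,3,2,1,4,3,2,5,2,3,4,1,2,3,0,1,2,5,6,5,2,1,0,3,2,1,4,3,2,5,2,3,4,1,2,3,0,1,2,5,6,5,2,1,0,3,2,1,4,3,2,5,2,3,4,1,2,3,0,1,2,5,4,5,2,1,0,3,2,1,4,3,2,5]))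
 (Tr.node (Tr.leaf [2,1,0,3,2,1,4,3,2,5,2,3,4,1,2,3,0,1,2,5,6,5,2,1,0,3,2,1,4,3,2,5,2,3,4,1,2,3,0,1,2,5,6,2,6,5,2,1,0,3,2,1,4,3,2,5,2,3,4,1,2,3,0,1,2,5,6,5,2,1,0,3,2,1,4,3,2,5,2,3,4,1,2,3,0,1,2,5,6,5,2,1,0,3,2,1,4,3,2,5,2,3,4,1,2,3,0,1,2,5,2,5,2,1,0,3,2,1,4,3,2,5,2,3,4,1,2,3,0,1,2,5,6,5])
 (Tr.leaf [6,5,2,1,0,3,2,1,4,3,2,5,2,3,4,1,2,3,0,1,2,5,6,5,2,1,0,3,2,1,4,3,2,5,2,3,4,1,2,3,0,1,2,5,6,5,2,1,0,3,2,1,4,3,2,5,2,3,4,1,2,3,0,1,2,5,6,6,6,5,2,1,0,3,2,1,4,3,2,5,2,3,4,1,2,3,0,1,2,5,6,5,2,1,0,3,2,1,4,3,2,5,2,3,4,1,2,3,0,1,2,5,6,5,2,1,0,3,2,1,4,3,2,5,2,3,4,1,2,3,0,1,2,5]))))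
 (Tr.node (Tr.node (Tr.node (Tr.leaf [2,3,0,1,2,5,6,5,2,1,0,3,2,1,4,3,2,5,2,3,4,1,2,3,0,1,2,5,0,5,2,1,0,3,2,1,4,3,2,5,2,3,4,1,2,3,0,1,2,5,6,5,2,1,0,3,2,1,4,3,2,5,2,3,4,1,2,3,0,1,2,5,6,5,2,1,0,3,2,1,4,3,2,5,2,3,4,1,2,3,0,1,2,5,6,0,6,5,2,1,0,3,2,1,4,3,2,5,2,3,4,1,2,3,0,1,2,5,6,5,2,1,0,3,2,1,4,3,2,5,2,3,4,1])
 (Tr.leaf [4,1,2,3,0,1,2,5,6,5,2,1,0,3,2,1,4,3,2,5,2,3,4,1,2,3,0,1,2,5,6,5,2,1,0,3,2,1,4,3,2,5,2,3,4,1,2,3,0,1,2,5,4,5,2,1,0,3,2,1,4,3,2,5,2,3,4,1,2,3,0,1,2,5,6,5,2,1,0,3,2,1,4,3,2,5,2,3,4,1,2,3,0,1,2,5,6,5,2,1,0,3,2,1,4,3,2,5,2,3,4,1,2,3,0,1,2,5,6,4,6,5,2,1,0,3,2,1,4,3,2,5,2,3]))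
 (Tr.node (Tr.leaf [0,3,2,1,4,3,2,5,2,3,4,1,2,3,0,1,2,5,6,5,2,1,0,3,2,1,4,3,2,5,2,3,4,1,2,3,0,1,2,5,2,5,2,1,0,3,2,1,4,3,2,5,2,3,4,1,2,3,0,1,2,5,6,5,2,1,0,3,2,1,4,3,2,5,2,3,4,1,2,3,0,1,2,5,6,5,2,1,0,3,2,1,4,3,2,5,2,3,4,1,2,3,0,1,2,5,6,2,6,5,2,1,0,3,2,1,4,3,2,5,2,3,4,1,2,3,0,1,2,5,6,5,2,1])
 (Tr.leaf [2,1,0,3,2,1,4,3,2,5,2,3,4,1,2,3,0,1,2,5,6,5,2,1,0,3,2,1,4,3,2,5,2,3,4,1,2,3,0,1,2,5,6,5,2,1,0,3,2,1,4,3,2,5,2,3,4,1,2,3,0,1,2,5,6,5,2,1,0,3,2,1,4,3,2,5,2,3,4,1,2,3,0,1,2,5,6,5,2,1,0,3,2,1,4,3,2,5,2,3,4,1,2,3,0,1,2,5,6,5,2,1,0,3,2,1,4,3,2,5,2,3,4,1,2,3,0,1,2,5,6,6,6,5])))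
 (Tr.node (Tr.node (Tr.leaf [2,5,2,3,4,1,2,3,0,1,2,5,6,5,2,1,0,3,2,1,4,3,2,5,2,3,4,1,2,3,0,1,2,5,1,5,2,1,0,3,2,1,4,3,2,5,2,3,4,1,2,3,0,1,2,5,6,5,2,1,0,3,2,1,4,3,2,5,2,3,4,1,2,3,0,1,2,5,6,5,2,1,0,3,2,1,4,3,2,5,2,3,4,1,2,3,0,1,2,5,6,1,6,5,2,1,0,3,2,1,4,3,2,5,2,3,4,1,2,3,0,1,2,5,6,5,2,1,0,3,2,1,4,3])
 (Tr.leaf [4,3,2,5,2,3,4,1,2,3,0,1,2,5,6,5,2,1,0,3,2,1,4,3,2,5,2,3,4,1,2,3,0,1,2,5,6,5,2,1,0,3,2,1,4,3,2,5,2,3,4,1,2,3,0,1,2,5,5,5,2,1,0,3,2,1,4,3,2,5,2,3,4,1,2,3,0,1,2,5,6,5,2,1,0,3,2,1,4,3,2,5,2,3,4,1,2,3,0,1,2,5,6,5,2,1,0,3,2,1,4,3,2,5,2,3,4,1,2,3,0,1,2,5,6,5,6,5,2,1,0,3,2,1]))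
 (Tr.node (Tr.leaf [2,5,6,5,2,1,0,3,2,1,4,3,2,5,2,3,4,1,2,3,0,1,2,5,6,5,2,1,0,3,2,1,4,3,2,5,2,3,4,1,2,3,0,1,2,5,3,5,2,1,0,3,2,1,4,3,2,5,2,3,4,1,2,3,0,1,2,5,6,5,2,1,0,3,2,1,4,3,2,5,2,3,4,1,2,3,0,1,2,5,6,5,2,1,0,3,2,1,4,3,2,5,2,3,4,1,2,3,0,1,2,5,6,3,6,5,2,1,0,3,2,1,4,3,2,5,2,3,4,1,2,3,0,1])
 (Tr.leaf [2,5,6,6,6,5,2,1,0,3,2,1,4,3,2,5,2,3,4,1,2,3,0,1,2,5,6,5,2,1,0,3,2,1,4,3,2,5,2,3,4,1,2,3,0,1,2,5,6,5,2,1,0,3,2,1,4,3,2,5,2,3,4,1,2,3,0,1,2,5,6,5,2,1,0,3,2,1,4,3,2,5,2,3,4,1,2,3,0,1,2,5,6,5,2,1,0,3,2,1,4,3,2,5,2,3,4,1,2,3,0,1,2,5,6,5,2,1,0,3,2,1,4,3,2,5,2,3,4,1,2,3,0,1])))))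
 (Tr.node (Tr.node (Tr.node (Tr.node (Tr.leaf [2,1,4,3,2,5,2,3,4,1,2,3,0,1,2,5,6,5,2,1,0,3,2,1,4,3,2,5,2,3,4,1,2,3,0,1,2,5,6,5,2,1,0,3,2,1,4,3,2,5,2,3,4,1,2,3,0,1,2,5,0,5,2,1,0,3,2,1,4,3,2,5,2,3,4,1,2,3,0,1,2,5,6,5,2,1,0,3,2,1,4,3,2,5,2,3,4,1,2,3,0,1,2,5,6,5,2,1,0,3,2,1,4,3,2,5,2,3,4,1,2,3,0,1,2,5,6,0,6,5,2,1,0,3])
 (Tr.leaf [2,1,4,3,2,5,2,3,4,1,2,3,0,1,2,5,6,3,6,5,2,1,0,3,2,1,4,3,2,5,2,3,4,1,2,3,0,1,2,5,6,5,2,1,0,3,2,1,4,3,2,5,2,3,4,1,2,3,0,1,2,5,6,5,2,1,0,3,2,1,4,3,2,5,2,3,4,1,2,3,0,1,2,5,3,5,2,1,0,3,2,1,4,3,2,5,2,3,4,1,2,3,0,1,2,5,6,5,2,1,0,3,2,1,4,3,2,5,2,3,4,1,2,3,0,1,2,5,6,5,2,1,0,3]))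
 (Tr.node (Tr.leaf [0,1,2,5,6,1,6,5,2,1,0,3,2,1,4,3,2,5,2,3,4,1,2,3,0,1,2,5,6,5,2,1,0,3,2,1,4,3,2,5,2,3,4,1,2,3,0,1,2,5,6,5,2,1,0,3,2,1,4,3,2,5,2,3,4,1,2,3,0,1,2,5,1,5,2,1,0,3,2,1,4,3,2,5,2,3,4,1,2,3,0,1,2,5,6,5,2,1,0,3,2,1,4,3,2,5,2,3,4,1,2,3,0,1,2,5,6,5,2,1,0,3,2,1,4,3,2,5,2,3,4,1,2,3])
 (Tr.leaf [2,3,0,1,2,5,6,5,2,1,0,3,2,1,4,3,2,5,2,3,4,1,2,3,0,1,2,5,6,5,6,5,2,1,0,3,2,1,4,3,2,5,2,3,4,1,2,3,0,1,2,5,6,5,2,1,0,3,2,1,4,3,2,5,2,3,4,1,2,3,0,1,2,5,6,5,2,1,0,3,2,1,4,3,2,5,2,3,4,1,2,3,0,1,2,5,5,5,2,1,0,3,2,1,4,3,2,5,2,3,4,1,2,3,0,1,2,5,6,5,2,1,0,3,2,1,4,3,2,5,2,3,4,1])))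
 (Tr.node (Tr.node (Tr.leaf [1,6,5,2,1,0,3,2,1,4,3,2,5,2,3,4,1,2,3,0,1,2,5,6,5,2,1,0,3,2,1,4,3,2,5,2,3,4,1,2,3,0,1,2,5,6,5,2,1,0,3,2,1,4,3,2,5,2,3,4,1,2,3,0,1,2,5,1,5,2,1,0,3,2,1,4,3,2,5,2,3,4,1,2,3,0,1,2,5,6,5,2,1,0,3,2,1,4,3,2,5,2,3,4,1,2,3,0,1,2,5,6,5,2,1,0,3,2,1,4,3,2,5,2,3,4,1,2,3,0,1,2,5,6])
 (Tr.leaf [6,5,2,1,0,3,2,1,4,3,2,5,2,3,4,1,2,3,0,1,2,5,6,4,6,5,2,1,0,3,2,1,4,3,2,5,2,3,4,1,2,3,0,1,2,5,6,5,2,1,0,3,2,1,4,3,2,5,2,3,4,1,2,3,0,1,2,5,6,5,2,1,0,3,2,1,4,3,2,5,2,3,4,1,2,3,0,1,2,5,4,5,2,1,0,3,2,1,4,3,2,5,2,3,4,1,2,3,0,1,2,5,6,5,2,1,0,3,2,1,4,3,2,5,2,3,4,1,2,3,0,1,2,5]))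
 (Tr.node (Tr.leaf [2,3,4,1,2,3,0,1,2,5,6,2,6,5,2,1,0,3,2,1,4,3,2,5,2,3,4,1,2,3,0,1,2,5,6,5,2,1,0,3,2,1,4,3,2,5,2,3,4,1,2,3,0,1,2,5,6,5,2,1,0,3,2,1,4,3,2,5,2,3,4,1,2,3,0,1,2,5,2,5,2,1,0,3,2,1,4,3,2,5,2,3,4,1,2,3,0,1,2,5,6,5,2,1,0,3,2,1,4,3,2,5,2,3,4,1,2,3,0,1,2,5,6,5,2,1,0,3,2,1,4,3,2,5])
 (Tr.leaf [2,5,2,3,4,1,2,3,0,1,2,5,6,5,2,1,0,3,2,1,4,3,2,5,2,3,4,1,2,3,0,1,2,5,6,6,6,5,2,1,0,3,2,1,4,3,2,5,2,3,4,1,2,3,0,1,2,5,6,5,2,1,0,3,2,1,4,3,2,5,2,3,4,1,2,3,0,1,2,5,6,5,2,1,0,3,2,1,4,3,2,5,2,3,4,1,2,3,0,1,2,5,6,5,2,1,0,3,2,1,4,3,2,5,2,3,4,1,2,3,0,1,2,5,6,5,2,1,0,3,2,1,4,3]))))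
 (Tr.node (Tr.node (Tr.node (Tr.leaf [0,3,2,1,4,3,2,5,2,3,4,1,2,3,0,1,2,5,6,5,2,1,0,3,2,1,4,3,2,5,2,3,4,1,2,3,0,1,2,5,6,5,2,1,0,3,2,1,4,3,2,5,2,3,4,1,2,3,0,1,2,5,6,0,6,5,2,1,0,3,2,1,4,3,2,5,2,3,4,1,2,3,0,1,2,5,6,5,2,1,0,3,2,1,4,3,2,5,2,3,4,1,2,3,0,1,2,5,6,5,2,1,0,3,2,1,4,3,2,5,2,3,4,1,2,3,0,1,2,5,0,5,2,1])
 (Tr.leaf [2,1,0,3,2,1,4,3,2,5,2,3,4,1,2,3,0,1,2,5,4,5,2,1,0,3,2,1,4,3,2,5,2,3,4,1,2,3,0,1,2,5,6,5,2,1,0,3,2,1,4,3,2,5,2,3,4,1,2,3,0,1,2,5,6,5,2,1,0,3,2,1,4,3,2,5,2,3,4,1,2,3,0,1,2,5,6,4,6,5,2,1,0,3,2,1,4,3,2,5,2,3,4,1,2,3,0,1,2,5,6,5,2,1,0,3,2,1,4,3,2,5,2,3,4,1,2,3,0,1,2,5,6,5]))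
 (Tr.node (Tr.leaf [4,1,2,3,0,1,2,5,2,5,2,1,0,3,2,1,4,3,2,5,2,3,4,1,2,3,0,1,2,5,6,5,2,1,0,3,2,1,4,3,2,5,2,3,4,1,2,3,0,1,2,5,6,5,2,1,0,3,2,1,4,3,2,5,2,3,4,1,2,3,0,1,2,5,6,2,6,5,2,1,0,3,2,1,4,3,2,5,2,3,4,1,2,3,0,1,2,5,6,5,2,1,0,3,2,1,4,3,2,5,2,3,4,1,2,3,0,1,2,5,6,5,2,1,0,3,2,1,4,3,2,5,2,3])
 (Tr.leaf [2,3,4,1,2,3,0,1,2,5,6,5,2,1,0,3,2,1,4,3,2,5,2,3,4,1,2,3,0,1,2,5,6,5,2,1,0,3,2,1,4,3,2,5,2,3,4,1,2,3,0,1,2,5,6,5,2,1,0,3,2,1,4,3,2,5,2,3,4,1,2,3,0,1,2,5,6,5,2,1,0,3,2,1,4,3,2,5,2,3,4,1,2,3,0,1,2,5,6,6,6,5,2,1,0,3,2,1,4,3,2,5,2,3,4,1,2,3,0,1,2,5,6,5,2,1,0,3,2,1,4,3,2,5])))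
 (Tr.node (Tr.node (Tr.leaf [2,5,1,5,2,1,0,3,2,1,4,3,2,5,2,3,4,1,2,3,0,1,2,5,6,5,2,1,0,3,2,1,4,3,2,5,2,3,4,1,2,3,0,1,2,5,6,5,2,1,0,3,2,1,4,3,2,5,2,3,4,1,2,3,0,1,2,5,6,1,6,5,2,1,0,3,2,1,4,3,2,5,2,3,4,1,2,3,0,1,2,5,6,5,2,1,0,3,2,1,4,3,2,5,2,3,4,1,2,3,0,1,2,5,6,5,2,1,0,3,2,1,4,3,2,5,2,3,4,1,2,3,0,1])
 (Tr.leaf [0,1,2,5,6,5,2,1,0,3,2,1,4,3,2,5,2,3,4,1,2,3,0,1,2,5,5,5,2,1,0,3,2,1,4,3,2,5,2,3,4,1,2,3,0,1,2,5,6,5,2,1,0,3,2,1,4,3,2,5,2,3,4,1,2,3,0,1,2,5,6,5,2,1,0,3,2,1,4,3,2,5,2,3,4,1,2,3,0,1,2,5,6,5,6,5,2,1,0,3,2,1,4,3,2,5,2,3,4,1,2,3,0,1,2,5,6,5,2,1,0,3,2,1,4,3,2,5,2,3,4,1,2,3]))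
 (Tr.node (Tr.leaf [4,3,2,5,2,3,4,1,2,3,0,1,2,5,3,5,2,1,0,3,2,1,4,3,2,5,2,3,4,1,2,3,0,1,2,5,6,5,2,1,0,3,2,1,4,3,2,5,2,3,4,1,2,3,0,1,2,5,6,5,2,1,0,3,2,1,4,3,2,5,2,3,4,1,2,3,0,1,2,5,6,3,6,5,2,1,0,3,2,1,4,3,2,5,2,3,4,1,2,3,0,1,2,5,6,5,2,1,0,3,2,1,4,3,2,5,2,3,4,1,2,3,0,1,2,5,6,5,2,1,0,3,2,1])
 (Tr.leaf [6,6,6,5,2,1,0,3,2,1,4,3,2,5,2,3,4,1,2,3,0,1,2,5,6,5,2,1,0,3,2,1,4,3,2,5,2,3,4,1,2,3,0,1,2,5,6,5,2,1,0,3,2,1,4,3,2,5,2,3,4,1,2,3,0,1,2,5,6,5,2,1,0,3,2,1,4,3,2,5,2,3,4,1,2,3,0,1,2,5,6,5,2,1,0,3,2,1,4,3,2,5,2,3,4,1,2,3,0,1,2,5,6,5,2,1,0,3,2,1,4,3,2,5,2,3,4,1,2,3,0,1,2,5]))))))))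
 (Tr.node (Tr.node (Tr.node (Tr.node (Tr.node (Tr.node (Tr.node (Tr.leaf [4,4])
 (Tr.leaf [2,5,3,5,2,1,0,3,2,1,4,3,2,5,2,3,4,1,2,3,0,1,2,5,6,5,2,1,0,3,2,1,4,3,2,5,2,3,4,1,2,3,0,1,2,5,6,5,2,1,0,3,2,1,4,3,2,5,2,3,4,1,2,3,0,1,2,5,6,3,6,5,2,1,0,3,2,1,4,3,2,5,2,3,4,1,2,3,0,1,2,5,6,5,2,1,0,3,2,1,4,3,2,5,2,3,4,1,2,3,0,1,2,5,6,5,2,1,0,3,2,1,4,3,2,5,2,3,4,1,2,3,0,1]))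
 (Tr.node (Tr.leaf [2,5,2,3,4,1,2,3,0,1,2,5,6,5,2,1,0,3,2,1,4,3,2,5,2,3,4,1,2,3,0,1,2,5,6,5,2,1,0,3,2,1,4,3,2,5,2,3,4,1,2,3,0,1,2,5,6,1,6,5,2,1,0,3,2,1,4,3,2,5,2,3,4,1,2,3,0,1,2,5,6,5,2,1,0,3,2,1,4,3,2,5,2,3,4,1,2,3,0,1,2,5,6,5,2,1,0,3,2,1,4,3,2,5,2,3,4,1,2,3,0,1,2,5,1,5,2,1,0,3,2,1,4,3])
 (Tr.leaf [4,3,2,5,2,3,4,1,2,3,0,1,2,5,5,5,2,1,0,3,2,1,4,3,2,5,2,3,4,1,2,3,0,1,2,5,6,5,2,1,0,3,2,1,4,3,2,5,2,3,4,1,2,3,0,1,2,5,6,5,2,1,0,3,2,1,4,3,2,5,2,3,4,1,2,3,0,1,2,5,6,5,6,5,2,1,0,3,2,1,4,3,2,5,2,3,4,1,2,3,0,1,2,5,6,5,2,1,0,3,2,1,4,3,2,5,2,3,4,1,2,3,0,1,2,5,6,5,2,1,0,3,2,1])))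
 (Tr.node (Tr.node (Tr.leaf [2,3,0,1,2,5,6,5,2,1,0,3,2,1,4,3,2,5,2,3,4,1,2,3,0,1,2,5,6,5,2,1,0,3,2,1,4,3,2,5,2,3,4,1,2,3,0,1,2,5,6,0,6,5,2,1,0,3,2,1,4,3,2,5,2,3,4,1,2,3,0,1,2,5,6,5,2,1,0,3,2,1,4,3,2,5,2,3,4,1,2,3,0,1,2,5,6,5,2,1,0,3,2,1,4,3,2,5,2,3,4,1,2,3,0,1,2,5,0,5,2,1,0,3,2,1,4,3,2,5,2,3,4,1])
 (Tr.leaf [4,1,2,3,0,1,2,5,4,5,2,1,0,3,2,1,4,3,2,5,2,3,4,1,2,3,0,1,2,5,6,5,2,1,0,3,2,1,4,3,2,5,2,3,4,1,2,3,0,1,2,5,6,5,2,1,0,3,2,1,4,3,2,5,2,3,4,1,2,3,0,1,2,5,6,4,6,5,2,1,0,3,2,1,4,3,2,5,2,3,4,1,2,3,0,1,2,5,6,5,2,1,0,3,2,1,4,3,2,5,2,3,4,1,2,3,0,1,2,5,6,5,2,1,0,3,2,1,4,3,2,5,2,3]))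
 (Tr.node (Tr.leaf [0,3,2,1,4,3,2,5,2,3,4,1,2,3,0,1,2,5,6,5,2,1,0,3,2,1,4,3,2,5,2,3,4,1,2,3,0,1,2,5,6,5,2,1,0,3,2,1,4,3,2,5,2,3,4,1,2,3,0,1,2,5,6,2,6,5,2,1,0,3,2,1,4,3,2,5,2,3,4,1,2,3,0,1,2,5,6,5,2,1,0,3,2,1,4,3,2,5,2,3,4,1,2,3,0,1,2,5,6,5,2,1,0,3,2,1,4,3,2,5,2,3,4,1,2,3,0,1,2,5,2,5,2,1])
 (Tr.leaf [2,1,0,3,2,1,4,3,2,5,2,3,4,1,2,3,0,1,2,5,6,5,2,1,0,3,2,1,4,3,2,5,2,3,4,1,2,3,0,1,2,5,6,5,2,1,0,3,2,1,4,3,2,5,2,3,4,1,2,3,0,1,2,5,6,5,2,1,0,3,2,1,4,3,2,5,2,3,4,1,2,3,0,1,2,5,6,6,6,5,2,1,0,3,2,1,4,3,2,5,2,3,4,1,2,3,0,1,2,5,6,5,2,1,0,3,2,1,4,3,2,5,2,3,4,1,2,3,0,1,2,5,6,5]))))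
 (Tr.node (Tr.node (Tr.node (Tr.leaf [0,1,2,5,6,5,2,1,0,3,2,1,4,3,2,5,2,3,4,1,2,3,0,1,2,5,6,5,2,1,0,3,2,1,4,3,2,5,2,3,4,1,2,3,0,1,2,5,0,5,2,1,0,3,2,1,4,3,2,5,2,3,4,1,2,3,0,1,2,5,6,5,2,1,0,3,2,1,4,3,2,5,2,3,4,1,2,3,0,1,2,5,6,5,2,1,0,3,2,1,4,3,2,5,2,3,4,1,2,3,0,1,2,5,6,0,6,5,2,1,0,3,2,1,4,3,2,5,2,3,4,1,2,3])
 (Tr.leaf [0,1,2,5,6,3,6,5,2,1,0,3,2,1,4,3,2,5,2,3,4,1,2,3,0,1,2,5,6,5,2,1,0,3,2,1,4,3,2,5,2,3,4,1,2,3,0,1,2,5,6,5,2,1,0,3,2,1,4,3,2,5,2,3,4,1,2,3,0,1,2,5,3,5,2,1,0,3,2,1,4,3,2,5,2,3,4,1,2,3,0,1,2,5,6,5,2,1,0,3,2,1,4,3,2,5,2,3,4,1,2,3,0,1,2,5,6,5,2,1,0,3,2,1,4,3,2,5,2,3,4,1,2,3]))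
 (Tr.node (Tr.leaf [2,1,4,3,2,5,2,3,4,1,2,3,0,1,2,5,6,5,2,1,0,3,2,1,4,3,2,5,2,3,4,1,2,3,0,1,2,5,6,5,2,1,0,3,2,1,4,3,2,5,2,3,4,1,2,3,0,1,2,5,2,5,2,1,0,3,2,1,4,3,2,5,2,3,4,1,2,3,0,1,2,5,6,5,2,1,0,3,2,1,4,3,2,5,2,3,4,1,2,3,0,1,2,5,6,5,2,1,0,3,2,1,4,3,2,5,2,3,4,1,2,3,0,1,2,5,6,2,6,5,2,1,0,3])
 (Tr.leaf [2,1,4,3,2,5,2,3,4,1,2,3,0,1,2,5,6,5,6,5,2,1,0,3,2,1,4,3,2,5,2,3,4,1,2,3,0,1,2,5,6,5,2,1,0,3,2,1,4,3,2,5,2,3,4,1,2,3,0,1,2,5,6,5,2,1,0,3,2,1,4,3,2,5,2,3,4,1,2,3,0,1,2,5,5,5,2,1,0,3,2,1,4,3,2,5,2,3,4,1,2,3,0,1,2,5,6,5,2,1,0,3,2,1,4,3,2,5,2,3,4,1,2,3,0,1,2,5,6,5,2,1,0,3])))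
 (Tr.node (Tr.node (Tr.leaf [2,3,4,1,2,3,0,1,2,5,6,5,2,1,0,3,2,1,4,3,2,5,2,3,4,1,2,3,0,1,2,5,6,5,2,1,0,3,2,1,4,3,2,5,2,3,4,1,2,3,0,1,2,5,1,5,2,1,0,3,2,1,4,3,2,5,2,3,4,1,2,3,0,1,2,5,6,5,2,1,0,3,2,1,4,3,2,5,2,3,4,1,2,3,0,1,2,5,6,5,2,1,0,3,2,1,4,3,2,5,2,3,4,1,2,3,0,1,2,5,6,1,6,5,2,1,0,3,2,1,4,3,2,5])
 (Tr.leaf [2,3,4,1,2,3,0,1,2,5,6,4,6,5,2,1,0,3,2,1,4,3,2,5,2,3,4,1,2,3,0,1,2,5,6,5,2,1,0,3,2,1,4,3,2,5,2,3,4,1,2,3,0,1,2,5,6,5,2,1,0,3,2,1,4,3,2,5,2,3,4,1,2,3,0,1,2,5,4,5,2,1,0,3,2,1,4,3,2,5,2,3,4,1,2,3,0,1,2,5,6,5,2,1,0,3,2,1,4,3,2,5,2,3,4,1,2,3,0,1,2,5,6,5,2,1,0,3,2,1,4,3,2,5]))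
 (Tr.node (Tr.leaf [3,6,5,2,1,0,3,2,1,4,3,2,5,2,3,4,1,2,3,0,1,2,5,6,5,2,1,0,3,2,1,4,3,2,5,2,3,4,1,2,3,0,1,2,5,6,5,2,1,0,3,2,1,4,3,2,5,2,3,4,1,2,3,0,1,2,5,3,5,2,1,0,3,2,1,4,3,2,5,2,3,4,1,2,3,0,1,2,5,6,5,2,1,0,3,2,1,4,3,2,5,2,3,4,1,2,3,0,1,2,5,6,5,2,1,0,3,2,1,4,3,2,5,2,3,4,1,2,3,0,1,2,5,6])
 (Tr.leaf [6,5,2,1,0,3,2,1,4,3,2,5,2,3,4,1,2,3,0,1,2,5,6,6,6,5,2,1,0,3,2,1,4,3,2,5,2,3,4,1,2,3,0,1,2,5,6,5,2,1,0,3,2,1,4,3,2,5,2,3,4,1,2,3,0,1,2,5,6,5,2,1,0,3,2,1,4,3,2,5,2,3,4,1,2,3,0,1,2,5,6,5,2,1,0,3,2,1,4,3,2,5,2,3,4,1,2,3,0,1,2,5,6,5,2,1,0,3,2,1,4,3,2,5,2,3,4,1,2,3,0,1,2,5])))))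
 (Tr.node (Tr.node (Tr.node (Tr.node (Tr.leaf [6,2,6,2])
 (Tr.leaf [4,3,2,5,2,3,4,1,2,3,0,1,2,5,6,5,2,1,0,3,2,1,4,3,2,5,2,3,4,1,2,3,0,1,2,5,6,3,6,5,2,1,0,3,2,1,4,3,2,5,2,3,4,1,2,3,0,1,2,5,6,5,2,1,0,3,2,1,4,3,2,5,2,3,4,1,2,3,0,1,2,5,6,5,2,1,0,3,2,1,4,3,2,5,2,3,4,1,2,3,0,1,2,5,3,5,2,1,0,3,2,1,4,3,2,5,2,3,4,1,2,3,0,1,2,5,6,5,2,1,0,3,2,1]))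
 (Tr.node (Tr.leaf [2,5,6,5,2,1,0,3,2,1,4,3,2,5,2,3,4,1,2,3,0,1,2,5,6,1,6,5,2,1,0,3,2,1,4,3,2,5,2,3,4,1,2,3,0,1,2,5,6,5,2,1,0,3,2,1,4,3,2,5,2,3,4,1,2,3,0,1,2,5,6,5,2,1,0,3,2,1,4,3,2,5,2,3,4,1,2,3,0,1,2,5,1,5,2,1,0,3,2,1,4,3,2,5,2,3,4,1,2,3,0,1,2,5,6,5,2,1,0,3,2,1,4,3,2,5,2,3,4,1,2,3,0,1])
 (Tr.leaf [0,1,2,5,6,5,2,1,0,3,2,1,4,3,2,5,2,3,4,1,2,3,0,1,2,5,6,5,2,1,0,3,2,1,4,3,2,5,2,3,4,1,2,3,0,1,2,5,6,5,6,5,2,1,0,3,2,1,4,3,2,5,2,3,4,1,2,3,0,1,2,5,6,5,2,1,0,3,2,1,4,3,2,5,2,3,4,1,2,3,0,1,2,5,6,5,2,1,0,3,2,1,4,3,2,5,2,3,4,1,2,3,0,1,2,5,5,5,2,1,0,3,2,1,4,3,2,5,2,3,4,1,2,3])))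
 (Tr.node (Tr.node (Tr.leaf [0,3,2,1,4,3,2,5,2,3,4,1,2,3,0,1,2,5,6,0,6,5,2,1,0,3,2,1,4,3,2,5,2,3,4,1,2,3,0,1,2,5,6,5,2,1,0,3,2,1,4,3,2,5,2,3,4,1,2,3,0,1,2,5,6,5,2,1,0,3,2,1,4,3,2,5,2,3,4,1,2,3,0,1,2,5,0,5,2,1,0,3,2,1,4,3,2,5,2,3,4,1,2,3,0,1,2,5,6,5,2,1,0,3,2,1,4,3,2,5,2,3,4,1,2,3,0,1,2,5,6,5,2,1])
 (Tr.leaf [2,1,0,3,2,1,4,3,2,5,2,3,4,1,2,3,0,1,2,5,6,5,2,1,0,3,2,1,4,3,2,5,2,3,4,1,2,3,0,1,2,5,6,4,6,5,2,1,0,3,2,1,4,3,2,5,2,3,4,1,2,3,0,1,2,5,6,5,2,1,0,3,2,1,4,3,2,5,2,3,4,1,2,3,0,1,2,5,6,5,2,1,0,3,2,1,4,3,2,5,2,3,4,1,2,3,0,1,2,5,4,5,2,1,0,3,2,1,4,3,2,5,2,3,4,1,2,3,0,1,2,5,6,5]))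
 (Tr.node (Tr.leaf [4,1,2,3,0,1,2,5,6,5,2,1,0,3,2,1,4,3,2,5,2,3,4,1,2,3,0,1,2,5,6,2,6,5,2,1,0,3,2,1,4,3,2,5,2,3,4,1,2,3,0,1,2,5,6,5,2,1,0,3,2,1,4,3,2,5,2,3,4,1,2,3,0,1,2,5,6,5,2,1,0,3,2,1,4,3,2,5,2,3,4,1,2,3,0,1,2,5,2,5,2,1,0,3,2,1,4,3,2,5,2,3,4,1,2,3,0,1,2,5,6,5,2,1,0,3,2,1,4,3,2,5,2,3])
 (Tr.leaf [2,3,4,1,2,3,0,1,2,5,6,5,2,1,0,3,2,1,4,3,2,5,2,3,4,1,2,3,0,1,2,5,6,5,2,1,0,3,2,1,4,3,2,5,2,3,4,1,2,3,0,1,2,5,6,6,6,5,2,1,0,3,2,1,4,3,2,5,2,3,4,1,2,3,0,1,2,5,6,5,2,1,0,3,2,1,4,3,2,5,2,3,4,1,2,3,0,1,2,5,6,5,2,1,0,3,2,1,4,3,2,5,2,3,4,1,2,3,0,1,2,5,6,5,2,1,0,3,2,1,4,3,2,5]))))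
 (Tr.node (Tr.node (Tr.node (Tr.leaf [2,1,4,3,2,5,2,3,4,1,2,3,0,1,2,5,0,5,2,1,0,3,2,1,4,3,2,5,2,3,4,1,2,3,0,1,2,5,6,5,2,1,0,3,2,1,4,3,2,5,2,3,4,1,2,3,0,1,2,5,6,5,2,1,0,3,2,1,4,3,2,5,2,3,4,1,2,3,0,1,2,5,6,0,6,5,2,1,0,3,2,1,4,3,2,5,2,3,4,1,2,3,0,1,2,5,6,5,2,1,0,3,2,1,4,3,2,5,2,3,4,1,2,3,0,1,2,5,6,5,2,1,0,3])
 (Tr.leaf [0,3,2,1,4,3,2,5,2,3,4,1,2,3,0,1,2,5,6,5,2,1,0,3,2,1,4,3,2,5,2,3,4,1,2,3,0,1,2,5,4,5,2,1,0,3,2,1,4,3,2,5,2,3,4,1,2,3,0,1,2,5,6,5,2,1,0,3,2,1,4,3,2,5,2,3,4,1,2,3,0,1,2,5,6,5,2,1,0,3,2,1,4,3,2,5,2,3,4,1,2,3,0,1,2,5,6,4,6,5,2,1,0,3,2,1,4,3,2,5,2,3,4,1,2,3,0,1,2,5,6,5,2,1]))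
 (Tr.node (Tr.leaf [2,3,0,1,2,5,6,5,2,1,0,3,2,1,4,3,2,5,2,3,4,1,2,3,0,1,2,5,2,5,2,1,0,3,2,1,4,3,2,5,2,3,4,1,2,3,0,1,2,5,6,5,2,1,0,3,2,1,4,3,2,5,2,3,4,1,2,3,0,1,2,5,6,5,2,1,0,3,2,1,4,3,2,5,2,3,4,1,2,3,0,1,2,5,6,2,6,5,2,1,0,3,2,1,4,3,2,5,2,3,4,1,2,3,0,1,2,5,6,5,2,1,0,3,2,1,4,3,2,5,2,3,4,1])
 (Tr.leaf [4,1,2,3,0,1,2,5,6,5,2,1,0,3,2,1,4,3,2,5,2,3,4,1,2,3,0,1,2,5,6,5,2,1,0,3,2,1,4,3,2,5,2,3,4,1,2,3,0,1,2,5,6,5,2,1,0,3,2,1,4,3,2,5,2,3,4,1,2,3,0,1,2,5,6,5,2,1,0,3,2,1,4,3,2,5,2,3,4,1,2,3,0,1,2,5,6,5,2,1,0,3,2,1,4,3,2,5,2,3,4,1,2,3,0,1,2,5,6,6,6,5,2,1,0,3,2,1,4,3,2,5,2,3])))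
 (Tr.node (Tr.node (Tr.leaf [6,5,2,1,0,3,2,1,4,3,2,5,2,3,4,1,2,3,0,1,2,5,1,5,2,1,0,3,2,1,4,3,2,5,2,3,4,1,2,3,0,1,2,5,6,5,2,1,0,3,2,1,4,3,2,5,2,3,4,1,2,3,0,1,2,5,6,5,2,1,0,3,2,1,4,3,2,5,2,3,4,1,2,3,0,1,2,5,6,1,6,5,2,1,0,3,2,1,4,3,2,5,2,3,4,1,2,3,0,1,2,5,6,5,2,1,0,3,2,1,4,3,2,5,2,3,4,1,2,3,0,1,2,5])
 (Tr.leaf [2,5,6,5,2,1,0,3,2,1,4,3,2,5,2,3,4,1,2,3,0,1,2,5,6,5,2,1,0,3,2,1,4,3,2,5,2,3,4,1,2,3,0,1,2,5,5,5,2,1,0,3,2,1,4,3,2,5,2,3,4,1,2,3,0,1,2,5,6,5,2,1,0,3,2,1,4,3,2,5,2,3,4,1,2,3,0,1,2,5,6,5,2,1,0,3,2,1,4,3,2,5,2,3,4,1,2,3,0,1,2,5,6,5,6,5,2,1,0,3,2,1,4,3,2,5,2,3,4,1,2,3,0,1]))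
 (Tr.node (Tr.leaf [2,5,2,3,4,1,2,3,0,1,2,5,6,5,2,1,0,3,2,1,4,3,2,5,2,3,4,1,2,3,0,1,2,5,3,5,2,1,0,3,2,1,4,3,2,5,2,3,4,1,2,3,0,1,2,5,6,5,2,1,0,3,2,1,4,3,2,5,2,3,4,1,2,3,0,1,2,5,6,5,2,1,0,3,2,1,4,3,2,5,2,3,4,1,2,3,0,1,2,5,6,3,6,5,2,1,0,3,2,1,4,3,2,5,2,3,4,1,2,3,0,1,2,5,6,5,2,1,0,3,2,1,4,3])
 (Tr.leaf [6,6,6,5,2,1,0,3,2,1,4,3,2,5,2,3,4,1,2,3,0,1,2,5,6,5,2,1,0,3,2,1,4,3,2,5,2,3,4,1,2,3,0,1,2,5,6,5,2,1,0,3,2,1,4,3,2,5,2,3,4,1,2,3,0,1,2,5,6,5,2,1,0,3,2,1,4,3,2,5,2,3,4,1,2,3,0,1,2,5,6,5,2,1,0,3,2,1,4,3,2,5,2,3,4,1,2,3,0,1,2,5,6,5,2,1,0,3,2,1,4,3,2,5,2,3,4,1,2,3,0,1,2,5]))))))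
 (Tr.node (Tr.node (Tr.node (Tr.node (Tr.node (Tr.leaf [2,1,2,1,2,1])
 (Tr.leaf [4,1,2,3,0,1,2,5,6,5,2,1,0,3,2,1,4,3,2,5,2,3,4,1,2,3,0,1,2,5,6,5,2,1,0,3,2,1,4,3,2,5,2,3,4,1,2,3,0,1,2,5,6,3,6,5,2,1,0,3,2,1,4,3,2,5,2,3,4,1,2,3,0,1,2,5,6,5,2,1,0,3,2,1,4,3,2,5,2,3,4,1,2,3,0,1,2,5,6,5,2,1,0,3,2,1,4,3,2,5,2,3,4,1,2,3,0,1,2,5,3,5,2,1,0,3,2,1,4,3,2,5,2,3]))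
 (Tr.node (Tr.leaf [0,3,2,1,4,3,2,5,2,3,4,1,2,3,0,1,2,5,6,5,2,1,0,3,2,1,4,3,2,5,2,3,4,1,2,3,0,1,2,5,6,1,6,5,2,1,0,3,2,1,4,3,2,5,2,3,4,1,2,3,0,1,2,5,6,5,2,1,0,3,2,1,4,3,2,5,2,3,4,1,2,3,0,1,2,5,6,5,2,1,0,3,2,1,4,3,2,5,2,3,4,1,2,3,0,1,2,5,1,5,2,1,0,3,2,1,4,3,2,5,2,3,4,1,2,3,0,1,2,5,6,5,2,1])
 (Tr.leaf [2,1,0,3,2,1,4,3,2,5,2,3,4,1,2,3,0,1,2,5,6,5,2,1,0,3,2,1,4,3,2,5,2,3,4,1,2,3,0,1,2,5,6,5,2,1,0,3,2,1,4,3,2,5,2,3,4,1,2,3,0,1,2,5,6,5,6,5,2,1,0,3,2,1,4,3,2,5,2,3,4,1,2,3,0,1,2,5,6,5,2,1,0,3,2,1,4,3,2,5,2,3,4,1,2,3,0,1,2,5,6,5,2,1,0,3,2,1,4,3,2,5,2,3,4,1,2,3,0,1,2,5,5,5])))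
 (Tr.node (Tr.node (Tr.leaf [2,5,2,3,4,1,2,3,0,1,2,5,6,5,2,1,0,3,2,1,4,3,2,5,2,3,4,1,2,3,0,1,2,5,6,0,6,5,2,1,0,3,2,1,4,3,2,5,2,3,4,1,2,3,0,1,2,5,6,5,2,1,0,3,2,1,4,3,2,5,2,3,4,1,2,3,0,1,2,5,6,5,2,1,0,3,2,1,4,3,2,5,2,3,4,1,2,3,0,1,2,5,0,5,2,1,0,3,2,1,4,3,2,5,2,3,4,1,2,3,0,1,2,5,6,5,2,1,0,3,2,1,4,3])
 (Tr.leaf [4,3,2,5,2,3,4,1,2,3,0,1,2,5,6,5,2,1,0,3,2,1,4,3,2,5,2,3,4,1,2,3,0,1,2,5,6,5,2,1,0,3,2,1,4,3,2,5,2,3,4,1,2,3,0,1,2,5,6,4,6,5,2,1,0,3,2,1,4,3,2,5,2,3,4,1,2,3,0,1,2,5,6,5,2,1,0,3,2,1,4,3,2,5,2,3,4,1,2,3,0,1,2,5,6,5,2,1,0,3,2,1,4,3,2,5,2,3,4,1,2,3,0,1,2,5,4,5,2,1,0,3,2,1]))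
 (Tr.node (Tr.leaf [2,5,6,5,2,1,0,3,2,1,4,3,2,5,2,3,4,1,2,3,0,1,2,5,6,5,2,1,0,3,2,1,4,3,2,5,2,3,4,1,2,3,0,1,2,5,6,2,6,5,2,1,0,3,2,1,4,3,2,5,2,3,4,1,2,3,0,1,2,5,6,5,2,1,0,3,2,1,4,3,2,5,2,3,4,1,2,3,0,1,2,5,6,5,2,1,0,3,2,1,4,3,2,5,2,3,4,1,2,3,0,1,2,5,2,5,2,1,0,3,2,1,4,3,2,5,2,3,4,1,2,3,0,1])
 (Tr.leaf [0,1,2,5,6,5,2,1,0,3,2,1,4,3,2,5,2,3,4,1,2,3,0,1,2,5,6,5,2,1,0,3,2,1,4,3,2,5,2,3,4,1,2,3,0,1,2,5,6,5,2,1,0,3,2,1,4,3,2,5,2,3,4,1,2,3,0,1,2,5,6,6,6,5,2,1,0,3,2,1,4,3,2,5,2,3,4,1,2,3,0,1,2,5,6,5,2,1,0,3,2,1,4,3,2,5,2,3,4,1,2,3,0,1,2,5,6,5,2,1,0,3,2,1,4,3,2,5,2,3,4,1,2,3]))))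
 (Tr.node (Tr.node (Tr.node (Tr.leaf [2,3,4,1,2,3,0,1,2,5,6,5,2,1,0,3,2,1,4,3,2,5,2,3,4,1,2,3,0,1,2,5,0,5,2,1,0,3,2,1,4,3,2,5,2,3,4,1,2,3,0,1,2,5,6,5,2,1,0,3,2,1,4,3,2,5,2,3,4,1,2,3,0,1,2,5,6,5,2,1,0,3,2,1,4,3,2,5,2,3,4,1,2,3,0,1,2,5,6,0,6,5,2,1,0,3,2,1,4,3,2,5,2,3,4,1,2,3,0,1,2,5,6,5,2,1,0,3,2,1,4,3,2,5])
 (Tr.leaf [2,5,2,3,4,1,2,3,0,1,2,5,6,5,2,1,0,3,2,1,4,3,2,5,2,3,4,1,2,3,0,1,2,5,6,5,2,1,0,3,2,1,4,3,2,5,2,3,4,1,2,3,0,1,2,5,4,5,2,1,0,3,2,1,4,3,2,5,2,3,4,1,2,3,0,1,2,5,6,5,2,1,0,3,2,1,4,3,2,5,2,3,4,1,2,3,0,1,2,5,6,5,2,1,0,3,2,1,4,3,2,5,2,3,4,1,2,3,0,1,2,5,6,4,6,5,2,1,0,3,2,1,4,3]))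
 (Tr.node (Tr.leaf [6,5,2,1,0,3,2,1,4,3,2,5,2,3,4,1,2,3,0,1,2,5,6,5,2,1,0,3,2,1,4,3,2,5,2,3,4,1,2,3,0,1,2,5,2,5,2,1,0,3,2,1,4,3,2,5,2,3,4,1,2,3,0,1,2,5,6,5,2,1,0,3,2,1,4,3,2,5,2,3,4,1,2,3,0,1,2,5,6,5,2,1,0,3,2,1,4,3,2,5,2,3,4,1,2,3,0,1,2,5,6,2,6,5,2,1,0,3,2,1,4,3,2,5,2,3,4,1,2,3,0,1,2,5])
 (Tr.leaf [6,5,6,5,2,1,0,3,2,1,4,3,2,5,2,3,4,1,2,3,0,1,2,5,6,5,2,1,0,3,2,1,4,3,2,5,2,3,4,1,2,3,0,1,2,5,6,5,2,1,0,3,2,1,4,3,2,5,2,3,4,1,2,3,0,1,2,5,5,5,2,1,0,3,2,1,4,3,2,5,2,3,4,1,2,3,0,1,2,5,6,5,2,1,0,3,2,1,4,3,2,5,2,3,4,1,2,3,0,1,2,5,6,5,2,1,0,3,2,1,4,3,2,5,2,3,4,1,2,3,0,1,2,5])))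
 (Tr.node (Tr.node (Tr.leaf [2,1,4,3,2,5,2,3,4,1,2,3,0,1,2,5,6,5,2,1,0,3,2,1,4,3,2,5,2,3,4,1,2,3,0,1,2,5,1,5,2,1,0,3,2,1,4,3,2,5,2,3,4,1,2,3,0,1,2,5,6,5,2,1,0,3,2,1,4,3,2,5,2,3,4,1,2,3,0,1,2,5,6,5,2,1,0,3,2,1,4,3,2,5,2,3,4,1,2,3,0,1,2,5,6,1,6,5,2,1,0,3,2,1,4,3,2,5,2,3,4,1,2,3,0,1,2,5,6,5,2,1,0,3])
 (Tr.leaf [0,3,2,1,4,3,2,5,2,3,4,1,2,3,0,1,2,5,6,5,2,1,0,3,2,1,4,3,2,5,2,3,4,1,2,3,0,1,2,5,6,5,2,1,0,3,2,1,4,3,2,5,2,3,4,1,2,3,0,1,2,5,5,5,2,1,0,3,2,1,4,3,2,5,2,3,4,1,2,3,0,1,2,5,6,5,2,1,0,3,2,1,4,3,2,5,2,3,4,1,2,3,0,1,2,5,6,5,2,1,0,3,2,1,4,3,2,5,2,3,4,1,2,3,0,1,2,5,6,5,6,5,2,1]))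
 (Tr.node (Tr.leaf [2,3,0,1,2,5,6,5,2,1,0,3,2,1,4,3,2,5,2,3,4,1,2,3,0,1,2,5,6,5,2,1,0,3,2,1,4,3,2,5,2,3,4,1,2,3,0,1,2,5,3,5,2,1,0,3,2,1,4,3,2,5,2,3,4,1,2,3,0,1,2,5,6,5,2,1,0,3,2,1,4,3,2,5,2,3,4,1,2,3,0,1,2,5,6,5,2,1,0,3,2,1,4,3,2,5,2,3,4,1,2,3,0,1,2,5,6,3,6,5,2,1,0,3,2,1,4,3,2,5,2,3,4,1])
 (Tr.leaf [2,3,0,1,2,5,6,6,6,5,2,1,0,3,2,1,4,3,2,5,2,3,4,1,2,3,0,1,2,5,6,5,2,1,0,3,2,1,4,3,2,5,2,3,4,1,2,3,0,1,2,5,6,5,2,1,0,3,2,1,4,3,2,5,2,3,4,1,2,3,0,1,2,5,6,5,2,1,0,3,2,1,4,3,2,5,2,3,4,1,2,3,0,1,2,5,6,5,2,1,0,3,2,1,4,3,2,5,2,3,4,1,2,3,0,1,2,5,6,5,2,1,0,3,2,1,4,3,2,5,2,3,4,1])))))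
 (Tr.node (Tr.node (Tr.node (Tr.node (Tr.leaf [2,1,0,3,2,1,4,3,2,5,2,3,4,1,2,3,0,1,2,5,6,5,2,1,0,3,2,1,4,3,2,5,2,3,4,1,2,3,0,1,2,5,6,5,2,1,0,3,2,1,4,3,2,5,2,3,4,1,2,3,0,1,2,5,0,5,2,1,0,3,2,1,4,3,2,5,2,3,4,1,2,3,0,1,2,5,6,5,2,1,0,3,2,1,4,3,2,5,2,3,4,1,2,3,0,1,2,5,6,5,2,1,0,3,2,1,4,3,2,5,2,3,4,1,2,3,0,1,2,5,6,0,6,5])
 (Tr.leaf [2,1,0,3,2,1,4,3,2,5,2,3,4,1,2,3,0,1,2,5,6,3,6,5,2,1,0,3,2,1,4,3,2,5,2,3,4,1,2,3,0,1,2,5,6,5,2,1,0,3,2,1,4,3,2,5,2,3,4,1,2,3,0,1,2,5,6,5,2,1,0,3,2,1,4,3,2,5,2,3,4,1,2,3,0,1,2,5,3,5,2,1,0,3,2,1,4,3,2,5,2,3,4,1,2,3,0,1,2,5,6,5,2,1,0,3,2,1,4,3,2,5,2,3,4,1,2,3,0,1,2,5,6,5]))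
 (Tr.node (Tr.leaf [4,1,2,3,0,1,2,5,6,1,6,5,2,1,0,3,2,1,4,3,2,5,2,3,4,1,2,3,0,1,2,5,6,5,2,1,0,3,2,1,4,3,2,5,2,3,4,1,2,3,0,1,2,5,6,5,2,1,0,3,2,1,4,3,2,5,2,3,4,1,2,3,0,1,2,5,1,5,2,1,0,3,2,1,4,3,2,5,2,3,4,1,2,3,0,1,2,5,6,5,2,1,0,3,2,1,4,3,2,5,2,3,4,1,2,3,0,1,2,5,6,5,2,1,0,3,2,1,4,3,2,5,2,3])
 (Tr.leaf [2,3,4,1,2,3,0,1,2,5,6,5,2,1,0,3,2,1,4,3,2,5,2,3,4,1,2,3,0,1,2,5,6,5,6,5,2,1,0,3,2,1,4,3,2,5,2,3,4,1,2,3,0,1,2,5,6,5,2,1,0,3,2,1,4,3,2,5,2,3,4,1,2,3,0,1,2,5,6,5,2,1,0,3,2,1,4,3,2,5,2,3,4,1,2,3,0,1,2,5,5,5,2,1,0,3,2,1,4,3,2,5,2,3,4,1,2,3,0,1,2,5,6,5,2,1,0,3,2,1,4,3,2,5])))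
 (Tr.node (Tr.node (Tr.leaf [2,5,6,0,6,5,2,1,0,3,2,1,4,3,2,5,2,3,4,1,2,3,0,1,2,5,6,5,2,1,0,3,2,1,4,3,2,5,2,3,4,1,2,3,0,1,2,5,6,5,2,1,0,3,2,1,4,3,2,5,2,3,4,1,2,3,0,1,2,5,0,5,2,1,0,3,2,1,4,3,2,5,2,3,4,1,2,3,0,1,2,5,6,5,2,1,0,3,2,1,4,3,2,5,2,3,4,1,2,3,0,1,2,5,6,5,2,1,0,3,2,1,4,3,2,5,2,3,4,1,2,3,0,1])
 (Tr.leaf [0,1,2,5,6,5,2,1,0,3,2,1,4,3,2,5,2,3,4,1,2,3,0,1,2,5,6,4,6,5,2,1,0,3,2,1,4,3,2,5,2,3,4,1,2,3,0,1,2,5,6,5,2,1,0,3,2,1,4,3,2,5,2,3,4,1,2,3,0,1,2,5,6,5,2,1,0,3,2,1,4,3,2,5,2,3,4,1,2,3,0,1,2,5,4,5,2,1,0,3,2,1,4,3,2,5,2,3,4,1,2,3,0,1,2,5,6,5,2,1,0,3,2,1,4,3,2,5,2,3,4,1,2,3]))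
 (Tr.node (Tr.leaf [4,3,2,5,2,3,4,1,2,3,0,1,2,5,6,2,6,5,2,1,0,3,2,1,4,3,2,5,2,3,4,1,2,3,0,1,2,5,6,5,2,1,0,3,2,1,4,3,2,5,2,3,4,1,2,3,0,1,2,5,6,5,2,1,0,3,2,1,4,3,2,5,2,3,4,1,2,3,0,1,2,5,2,5,2,1,0,3,2,1,4,3,2,5,2,3,4,1,2,3,0,1,2,5,6,5,2,1,0,3,2,1,4,3,2,5,2,3,4,1,2,3,0,1,2,5,6,5,2,1,0,3,2,1])
 (Tr.leaf [2,1,4,3,2,5,2,3,4,1,2,3,0,1,2,5,6,5,2,1,0,3,2,1,4,3,2,5,2,3,4,1,2,3,0,1,2,5,6,6,6,5,2,1,0,3,2,1,4,3,2,5,2,3,4,1,2,3,0,1,2,5,6,5,2,1,0,3,2,1,4,3,2,5,2,3,4,1,2,3,0,1,2,5,6,5,2,1,0,3,2,1,4,3,2,5,2,3,4,1,2,3,0,1,2,5,6,5,2,1,0,3,2,1,4,3,2,5,2,3,4,1,2,3,0,1,2,5,6,5,2,1,0,3]))))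
 (Tr.node (Tr.node (Tr.node (Tr.leaf [0,5,2,1,0,3,2,1,4,3,2,5,2,3,4,1,2,3,0,1,2,5,6,5,2,1,0,3,2,1,4,3,2,5,2,3,4,1,2,3,0,1,2,5,6,5,2,1,0,3,2,1,4,3,2,5,2,3,4,1,2,3,0,1,2,5,6,0,6,5,2,1,0,3,2,1,4,3,2,5,2,3,4,1,2,3,0,1,2,5,6,5,2,1,0,3,2,1,4,3,2,5,2,3,4,1,2,3,0,1,2,5,6,5,2,1,0,3,2,1,4,3,2,5,2,3,4,1,2,3,0,1,2,5])
 (Tr.leaf [2,5,6,5,2,1,0,3,2,1,4,3,2,5,2,3,4,1,2,3,0,1,2,5,4,5,2,1,0,3,2,1,4,3,2,5,2,3,4,1,2,3,0,1,2,5,6,5,2,1,0,3,2,1,4,3,2,5,2,3,4,1,2,3,0,1,2,5,6,5,2,1,0,3,2,1,4,3,2,5,2,3,4,1,2,3,0,1,2,5,6,4,6,5,2,1,0,3,2,1,4,3,2,5,2,3,4,1,2,3,0,1,2,5,6,5,2,1,0,3,2,1,4,3,2,5,2,3,4,1,2,3,0,1]))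
 (Tr.node (Tr.leaf [2,5,2,3,4,1,2,3,0,1,2,5,2,5,2,1,0,3,2,1,4,3,2,5,2,3,4,1,2,3,0,1,2,5,6,5,2,1,0,3,2,1,4,3,2,5,2,3,4,1,2,3,0,1,2,5,6,5,2,1,0,3,2,1,4,3,2,5,2,3,4,1,2,3,0,1,2,5,6,2,6,5,2,1,0,3,2,1,4,3,2,5,2,3,4,1,2,3,0,1,2,5,6,5,2,1,0,3,2,1,4,3,2,5,2,3,4,1,2,3,0,1,2,5,6,5,2,1,0,3,2,1,4,3])
 (Tr.leaf [4,3,2,5,2,3,4,1,2,3,0,1,2,5,6,5,2,1,0,3,2,1,4,3,2,5,2,3,4,1,2,3,0,1,2,5,6,5,2,1,0,3,2,1,4,3,2,5,2,3,4,1,2,3,0,1,2,5,6,5,2,1,0,3,2,1,4,3,2,5,2,3,4,1,2,3,0,1,2,5,6,5,2,1,0,3,2,1,4,3,2,5,2,3,4,1,2,3,0,1,2,5,6,6,6,5,2,1,0,3,2,1,4,3,2,5,2,3,4,1,2,3,0,1,2,5,6,5,2,1,0,3,2,1])))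
 (Tr.node (Tr.node (Tr.leaf [2,3,0,1,2,5,1,5,2,1,0,3,2,1,4,3,2,5,2,3,4,1,2,3,0,1,2,5,6,5,2,1,0,3,2,1,4,3,2,5,2,3,4,1,2,3,0,1,2,5,6,5,2,1,0,3,2,1,4,3,2,5,2,3,4,1,2,3,0,1,2,5,6,1,6,5,2,1,0,3,2,1,4,3,2,5,2,3,4,1,2,3,0,1,2,5,6,5,2,1,0,3,2,1,4,3,2,5,2,3,4,1,2,3,0,1,2,5,6,5,2,1,0,3,2,1,4,3,2,5,2,3,4,1])
 (Tr.leaf [4,1,2,3,0,1,2,5,6,5,2,1,0,3,2,1,4,3,2,5,2,3,4,1,2,3,0,1,2,5,5,5,2,1,0,3,2,1,4,3,2,5,2,3,4,1,2,3,0,1,2,5,6,5,2,1,0,3,2,1,4,3,2,5,2,3,4,1,2,3,0,1,2,5,6,5,2,1,0,3,2,1,4,3,2,5,2,3,4,1,2,3,0,1,2,5,6,5,6,5,2,1,0,3,2,1,4,3,2,5,2,3,4,1,2,3,0,1,2,5,6,5,2,1,0,3,2,1,4,3,2,5,2,3]))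
 (Tr.node (Tr.leaf [0,3,2,1,4,3,2,5,2,3,4,1,2,3,0,1,2,5,3,5,2,1,0,3,2,1,4,3,2,5,2,3,4,1,2,3,0,1,2,5,6,5,2,1,0,3,2,1,4,3,2,5,2,3,4,1,2,3,0,1,2,5,6,5,2,1,0,3,2,1,4,3,2,5,2,3,4,1,2,3,0,1,2,5,6,3,6,5,2,1,0,3,2,1,4,3,2,5,2,3,4,1,2,3,0,1,2,5,6,5,2,1,0,3,2,1,4,3,2,5,2,3,4,1,2,3,0,1,2,5,6,5,2,1])
 (Tr.leaf [6,6,6,5,2,1,0,3,2,1,4,3,2,5,2,3,4,1,2,3,0,1,2,5,6,5,2,1,0,3,2,1,4,3,2,5,2,3,4,1,2,3,0,1,2,5,6,5,2,1,0,3,2,1,4,3,2,5,2,3,4,1,2,3,0,1,2,5,6,5,2,1,0,3,2,1,4,3,2,5,2,3,4,1,2,3,0,1,2,5,6,5,2,1,0,3,2,1,4,3,2,5,2,3,4,1,2,3,0,1,2,5,6,5,2,1,0,3,2,1,4,3,2,5,2,3,4,1,2,3,0,1,2,5])))))))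
 (Tr.node (Tr.node (Tr.node (Tr.node (Tr.node (Tr.node (Tr.leaf [3,0,3,0])
 (Tr.leaf [2,1,4,3,2,5,2,3,4,1,2,3,0,1,2,5,6,5,2,1,0,3,2,1,4,3,2,5,2,3,4,1,2,3,0,1,2,5,6,5,2,1,0,3,2,1,4,3,2,5,2,3,4,1,2,3,0,1,2,5,6,3,6,5,2,1,0,3,2,1,4,3,2,5,2,3,4,1,2,3,0,1,2,5,6,5,2,1,0,3,2,1,4,3,2,5,2,3,4,1,2,3,0,1,2,5,6,5,2,1,0,3,2,1,4,3,2,5,2,3,4,1,2,3,0,1,2,5,3,5,2,1,0,3]))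
 (Tr.node (Tr.leaf [0,1,2,5,6,5,2,1,0,3,2,1,4,3,2,5,2,3,4,1,2,3,0,1,2,5,6,5,2,1,0,3,2,1,4,3,2,5,2,3,4,1,2,3,0,1,2,5,6,1,6,5,2,1,0,3,2,1,4,3,2,5,2,3,4,1,2,3,0,1,2,5,6,5,2,1,0,3,2,1,4,3,2,5,2,3,4,1,2,3,0,1,2,5,6,5,2,1,0,3,2,1,4,3,2,5,2,3,4,1,2,3,0,1,2,5,1,5,2,1,0,3,2,1,4,3,2,5,2,3,4,1,2,3])
 (Tr.leaf [2,3,0,1,2,5,5,5,2,1,0,3,2,1,4,3,2,5,2,3,4,1,2,3,0,1,2,5,6,5,2,1,0,3,2,1,4,3,2,5,2,3,4,1,2,3,0,1,2,5,6,5,2,1,0,3,2,1,4,3,2,5,2,3,4,1,2,3,0,1,2,5,6,5,6,5,2,1,0,3,2,1,4,3,2,5,2,3,4,1,2,3,0,1,2,5,6,5,2,1,0,3,2,1,4,3,2,5,2,3,4,1,2,3,0,1,2,5,6,5,2,1,0,3,2,1,4,3,2,5,2,3,4,1])))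
 (Tr.node (Tr.node (Tr.leaf [2,1,0,3,2,1,4,3,2,5,2,3,4,1,2,3,0,1,2,5,6,5,2,1,0,3,2,1,4,3,2,5,2,3,4,1,2,3,0,1,2,5,6,0,6,5,2,1,0,3,2,1,4,3,2,5,2,3,4,1,2,3,0,1,2,5,6,5,2,1,0,3,2,1,4,3,2,5,2,3,4,1,2,3,0,1,2,5,6,5,2,1,0,3,2,1,4,3,2,5,2,3,4,1,2,3,0,1,2,5,0,5,2,1,0,3,2,1,4,3,2,5,2,3,4,1,2,3,0,1,2,5,6,5])
 (Tr.leaf [4,5,2,1,0,3,2,1,4,3,2,5,2,3,4,1,2,3,0,1,2,5,6,5,2,1,0,3,2,1,4,3,2,5,2,3,4,1,2,3,0,1,2,5,6,5,2,1,0,3,2,1,4,3,2,5,2,3,4,1,2,3,0,1,2,5,6,4,6,5,2,1,0,3,2,1,4,3,2,5,2,3,4,1,2,3,0,1,2,5,6,5,2,1,0,3,2,1,4,3,2,5,2,3,4,1,2,3,0,1,2,5,6,5,2,1,0,3,2,1,4,3,2,5,2,3,4,1,2,3,0,1,2,5]))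
 (Tr.node (Tr.leaf [2,3,4,1,2,3,0,1,2,5,6,5,2,1,0,3,2,1,4,3,2,5,2,3,4,1,2,3,0,1,2,5,6,5,2,1,0,3,2,1,4,3,2,5,2,3,4,1,2,3,0,1,2,5,6,2,6,5,2,1,0,3,2,1,4,3,2,5,2,3,4,1,2,3,0,1,2,5,6,5,2,1,0,3,2,1,4,3,2,5,2,3,4,1,2,3,0,1,2,5,6,5,2,1,0,3,2,1,4,3,2,5,2,3,4,1,2,3,0,1,2,5,2,5,2,1,0,3,2,1,4,3,2,5])
 (Tr.leaf [2,5,2,3,4,1,2,3,0,1,2,5,6,5,2,1,0,3,2,1,4,3,2,5,2,3,4,1,2,3,0,1,2,5,6,5,2,1,0,3,2,1,4,3,2,5,2,3,4,1,2,3,0,1,2,5,6,5,2,1,0,3,2,1,4,3,2,5,2,3,4,1,2,3,0,1,2,5,6,6,6,5,2,1,0,3,2,1,4,3,2,5,2,3,4,1,2,3,0,1,2,5,6,5,2,1,0,3,2,1,4,3,2,5,2,3,4,1,2,3,0,1,2,5,6,5,2,1,0,3,2,1,4,3]))))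
 (Tr.node (Tr.node (Tr.node (Tr.leaf [0,3,2,1,4,3,2,5,2,3,4,1,2,3,0,1,2,5,6,5,2,1,0,3,2,1,4,3,2,5,2,3,4,1,2,3,0,1,2,5,0,5,2,1,0,3,2,1,4,3,2,5,2,3,4,1,2,3,0,1,2,5,6,5,2,1,0,3,2,1,4,3,2,5,2,3,4,1,2,3,0,1,2,5,6,5,2,1,0,3,2,1,4,3,2,5,2,3,4,1,2,3,0,1,2,5,6,0,6,5,2,1,0,3,2,1,4,3,2,5,2,3,4,1,2,3,0,1,2,5,6,5,2,1])
 (Tr.leaf [2,1,0,3,2,1,4,3,2,5,2,3,4,1,2,3,0,1,2,5,6,5,2,1,0,3,2,1,4,3,2,5,2,3,4,1,2,3,0,1,2,5,6,5,2,1,0,3,2,1,4,3,2,5,2,3,4,1,2,3,0,1,2,5,4,5,2,1,0,3,2,1,4,3,2,5,2,3,4,1,2,3,0,1,2,5,6,5,2,1,0,3,2,1,4,3,2,5,2,3,4,1,2,3,0,1,2,5,6,5,2,1,0,3,2,1,4,3,2,5,2,3,4,1,2,3,0,1,2,5,6,4,6,5]))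
 (Tr.node (Tr.leaf [4,1,2,3,0,1,2,5,6,5,2,1,0,3,2,1,4,3,2,5,2,3,4,1,2,3,0,1,2,5,6,5,2,1,0,3,2,1,4,3,2,5,2,3,4,1,2,3,0,1,2,5,2,5,2,1,0,3,2,1,4,3,2,5,2,3,4,1,2,3,0,1,2,5,6,5,2,1,0,3,2,1,4,3,2,5,2,3,4,1,2,3,0,1,2,5,6,5,2,1,0,3,2,1,4,3,2,5,2,3,4,1,2,3,0,1,2,5,6,2,6,5,2,1,0,3,2,1,4,3,2,5,2,3])
 (Tr.leaf [4,1,2,3,0,1,2,5,6,5,6,5,2,1,0,3,2,1,4,3,2,5,2,3,4,1,2,3,0,1,2,5,6,5,2,1,0,3,2,1,4,3,2,5,2,3,4,1,2,3,0,1,2,5,6,5,2,1,0,3,2,1,4,3,2,5,2,3,4,1,2,3,0,1,2,5,5,5,2,1,0,3,2,1,4,3,2,5,2,3,4,1,2,3,0,1,2,5,6,5,2,1,0,3,2,1,4,3,2,5,2,3,4,1,2,3,0,1,2,5,6,5,2,1,0,3,2,1,4,3,2,5,2,3])))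
 (Tr.node (Tr.node (Tr.leaf [2,5,6,5,2,1,0,3,2,1,4,3,2,5,2,3,4,1,2,3,0,1,2,5,6,5,2,1,0,3,2,1,4,3,2,5,2,3,4,1,2,3,0,1,2,5,1,5,2,1,0,3,2,1,4,3,2,5,2,3,4,1,2,3,0,1,2,5,6,5,2,1,0,3,2,1,4,3,2,5,2,3,4,1,2,3,0,1,2,5,6,5,2,1,0,3,2,1,4,3,2,5,2,3,4,1,2,3,0,1,2,5,6,1,6,5,2,1,0,3,2,1,4,3,2,5,2,3,4,1,2,3,0,1])
 (Tr.leaf [2,5,6,4,6,5,2,1,0,3,2,1,4,3,2,5,2,3,4,1,2,3,0,1,2,5,6,5,2,1,0,3,2,1,4,3,2,5,2,3,4,1,2,3,0,1,2,5,6,5,2,1,0,3,2,1,4,3,2,5,2,3,4,1,2,3,0,1,2,5,4,5,2,1,0,3,2,1,4,3,2,5,2,3,4,1,2,3,0,1,2,5,6,5,2,1,0,3,2,1,4,3,2,5,2,3,4,1,2,3,0,1,2,5,6,5,2,1,0,3,2,1,4,3,2,5,2,3,4,1,2,3,0,1]))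
 (Tr.node (Tr.leaf [4,3,2,5,2,3,4,1,2,3,0,1,2,5,6,5,2,1,0,3,2,1,4,3,2,5,2,3,4,1,2,3,0,1,2,5,6,5,2,1,0,3,2,1,4,3,2,5,2,3,4,1,2,3,0,1,2,5,3,5,2,1,0,3,2,1,4,3,2,5,2,3,4,1,2,3,0,1,2,5,6,5,2,1,0,3,2,1,4,3,2,5,2,3,4,1,2,3,0,1,2,5,6,5,2,1,0,3,2,1,4,3,2,5,2,3,4,1,2,3,0,1,2,5,6,3,6,5,2,1,0,3,2,1])
 (Tr.leaf [4,3,2,5,2,3,4,1,2,3,0,1,2,5,6,6,6,5,2,1,0,3,2,1,4,3,2,5,2,3,4,1,2,3,0,1,2,5,6,5,2,1,0,3,2,1,4,3,2,5,2,3,4,1,2,3,0,1,2,5,6,5,2,1,0,3,2,1,4,3,2,5,2,3,4,1,2,3,0,1,2,5,6,5,2,1,0,3,2,1,4,3,2,5,2,3,4,1,2,3,0,1,2,5,6,5,2,1,0,3,2,1,4,3,2,5,2,3,4,1,2,3,0,1,2,5,6,5,2,1,0,3,2,1])))))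
 (Tr.node (Tr.node (Tr.node (Tr.node (Tr.leaf [5,4,5,4])
 (Tr.leaf [2,3,0,1,2,5,6,5,2,1,0,3,2,1,4,3,2,5,2,3,4,1,2,3,0,1,2,5,6,3,6,5,2,1,0,3,2,1,4,3,2,5,2,3,4,1,2,3,0,1,2,5,6,5,2,1,0,3,2,1,4,3,2,5,2,3,4,1,2,3,0,1,2,5,6,5,2,1,0,3,2,1,4,3,2,5,2,3,4,1,2,3,0,1,2,5,3,5,2,1,0,3,2,1,4,3,2,5,2,3,4,1,2,3,0,1,2,5,6,5,2,1,0,3,2,1,4,3,2,5,2,3,4,1]))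
 (Tr.node (Tr.leaf [2,1,4,3,2,5,2,3,4,1,2,3,0,1,2,5,6,1,6,5,2,1,0,3,2,1,4,3,2,5,2,3,4,1,2,3,0,1,2,5,6,5,2,1,0,3,2,1,4,3,2,5,2,3,4,1,2,3,0,1,2,5,6,5,2,1,0,3,2,1,4,3,2,5,2,3,4,1,2,3,0,1,2,5,1,5,2,1,0,3,2,1,4,3,2,5,2,3,4,1,2,3,0,1,2,5,6,5,2,1,0,3,2,1,4,3,2,5,2,3,4,1,2,3,0,1,2,5,6,5,2,1,0,3])
 (Tr.leaf [0,3,2,1,4,3,2,5,2,3,4,1,2,3,0,1,2,5,6,5,2,1,0,3,2,1,4,3,2,5,2,3,4,1,2,3,0,1,2,5,6,5,6,5,2,1,0,3,2,1,4,3,2,5,2,3,4,1,2,3,0,1,2,5,6,5,2,1,0,3,2,1,4,3,2,5,2,3,4,1,2,3,0,1,2,5,6,5,2,1,0,3,2,1,4,3,2,5,2,3,4,1,2,3,0,1,2,5,5,5,2,1,0,3,2,1,4,3,2,5,2,3,4,1,2,3,0,1,2,5,6,5,2,1])))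
 (Tr.node (Tr.node (Tr.leaf [2,3,4,1,2,3,0,1,2,5,6,0,6,5,2,1,0,3,2,1,4,3,2,5,2,3,4,1,2,3,0,1,2,5,6,5,2,1,0,3,2,1,4,3,2,5,2,3,4,1,2,3,0,1,2,5,6,5,2,1,0,3,2,1,4,3,2,5,2,3,4,1,2,3,0,1,2,5,0,5,2,1,0,3,2,1,4,3,2,5,2,3,4,1,2,3,0,1,2,5,6,5,2,1,0,3,2,1,4,3,2,5,2,3,4,1,2,3,0,1,2,5,6,5,2,1,0,3,2,1,4,3,2,5])
 (Tr.leaf [2,5,2,3,4,1,2,3,0,1,2,5,6,5,2,1,0,3,2,1,4,3,2,5,2,3,4,1,2,3,0,1,2,5,6,4,6,5,2,1,0,3,2,1,4,3,2,5,2,3,4,1,2,3,0,1,2,5,6,5,2,1,0,3,2,1,4,3,2,5,2,3,4,1,2,3,0,1,2,5,6,5,2,1,0,3,2,1,4,3,2,5,2,3,4,1,2,3,0,1,2,5,4,5,2,1,0,3,2,1,4,3,2,5,2,3,4,1,2,3,0,1,2,5,6,5,2,1,0,3,2,1,4,3]))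
 (Tr.node (Tr.leaf [6,5,2,1,0,3,2,1,4,3,2,5,2,3,4,1,2,3,0,1,2,5,6,2,6,5,2,1,0,3,2,1,4,3,2,5,2,3,4,1,2,3,0,1,2,5,6,5,2,1,0,3,2,1,4,3,2,5,2,3,4,1,2,3,0,1,2,5,6,5,2,1,0,3,2,1,4,3,2,5,2,3,4,1,2,3,0,1,2,5,2,5,2,1,0,3,2,1,4,3,2,5,2,3,4,1,2,3,0,1,2,5,6,5,2,1,0,3,2,1,4,3,2,5,2,3,4,1,2,3,0,1,2,5])
 (Tr.leaf [2,5,6,5,2,1,0,3,2,1,4,3,2,5,2,3,4,1,2,3,0,1,2,5,6,5,2,1,0,3,2,1,4,3,2,5,2,3,4,1,2,3,0,1,2,5,6,6,6,5,2,1,0,3,2,1,4,3,2,5,2,3,4,1,2,3,0,1,2,5,6,5,2,1,0,3,2,1,4,3,2,5,2,3,4,1,2,3,0,1,2,5,6,5,2,1,0,3,2,1,4,3,2,5,2,3,4,1,2,3,0,1,2,5,6,5,2,1,0,3,2,1,4,3,2,5,2,3,4,1,2,3,0,1]))))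
 (Tr.node (Tr.node (Tr.node (Tr.leaf [4,1,2,3,0,1,2,5,0,5,2,1,0,3,2,1,4,3,2,5,2,3,4,1,2,3,0,1,2,5,6,5,2,1,0,3,2,1,4,3,2,5,2,3,4,1,2,3,0,1,2,5,6,5,2,1,0,3,2,1,4,3,2,5,2,3,4,1,2,3,0,1,2,5,6,0,6,5,2,1,0,3,2,1,4,3,2,5,2,3,4,1,2,3,0,1,2,5,6,5,2,1,0,3,2,1,4,3,2,5,2,3,4,1,2,3,0,1,2,5,6,5,2,1,0,3,2,1,4,3,2,5,2,3])
 (Tr.leaf [2,3,4,1,2,3,0,1,2,5,6,5,2,1,0,3,2,1,4,3,2,5,2,3,4,1,2,3,0,1,2,5,4,5,2,1,0,3,2,1,4,3,2,5,2,3,4,1,2,3,0,1,2,5,6,5,2,1,0,3,2,1,4,3,2,5,2,3,4,1,2,3,0,1,2,5,6,5,2,1,0,3,2,1,4,3,2,5,2,3,4,1,2,3,0,1,2,5,6,4,6,5,2,1,0,3,2,1,4,3,2,5,2,3,4,1,2,3,0,1,2,5,6,5,2,1,0,3,2,1,4,3,2,5]))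
 (Tr.node (Tr.leaf [2,1,0,3,2,1,4,3,2,5,2,3,4,1,2,3,0,1,2,5,2,5,2,1,0,3,2,1,4,3,2,5,2,3,4,1,2,3,0,1,2,5,6,5,2,1,0,3,2,1,4,3,2,5,2,3,4,1,2,3,0,1,2,5,6,5,2,1,0,3,2,1,4,3,2,5,2,3,4,1,2,3,0,1,2,5,6,2,6,5,2,1,0,3,2,1,4,3,2,5,2,3,4,1,2,3,0,1,2,5,6,5,2,1,0,3,2,1,4,3,2,5,2,3,4,1,2,3,0,1,2,5,6,5])
 (Tr.leaf [6,5,2,1,0,3,2,1,4,3,2,5,2,3,4,1,2,3,0,1,2,5,6,5,2,1,0,3,2,1,4,3,2,5,2,3,4,1,2,3,0,1,2,5,6,5,2,1,0,3,2,1,4,3,2,5,2,3,4,1,2,3,0,1,2,5,6,5,2,1,0,3,2,1,4,3,2,5,2,3,4,1,2,3,0,1,2,5,6,5,2,1,0,3,2,1,4,3,2,5,2,3,4,1,2,3,0,1,2,5,6,6,6,5,2,1,0,3,2,1,4,3,2,5,2,3,4,1,2,3,0,1,2,5])))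
 (Tr.node (Tr.node (Tr.leaf [4,3,2,5,2,3,4,1,2,3,0,1,2,5,1,5,2,1,0,3,2,1,4,3,2,5,2,3,4,1,2,3,0,1,2,5,6,5,2,1,0,3,2,1,4,3,2,5,2,3,4,1,2,3,0,1,2,5,6,5,2,1,0,3,2,1,4,3,2,5,2,3,4,1,2,3,0,1,2,5,6,1,6,5,2,1,0,3,2,1,4,3,2,5,2,3,4,1,2,3,0,1,2,5,6,5,2,1,0,3,2,1,4,3,2,5,2,3,4,1,2,3,0,1,2,5,6,5,2,1,0,3,2,1])
 (Tr.leaf [2,1,4,3,2,5,2,3,4,1,2,3,0,1,2,5,6,5,2,1,0,3,2,1,4,3,2,5,2,3,4,1,2,3,0,1,2,5,5,5,2,1,0,3,2,1,4,3,2,5,2,3,4,1,2,3,0,1,2,5,6,5,2,1,0,3,2,1,4,3,2,5,2,3,4,1,2,3,0,1,2,5,6,5,2,1,0,3,2,1,4,3,2,5,2,3,4,1,2,3,0,1,2,5,6,5,6,5,2,1,0,3,2,1,4,3,2,5,2,3,4,1,2,3,0,1,2,5,6,5,2,1,0,3]))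
 (Tr.node (Tr.leaf [0,1,2,5,6,5,2,1,0,3,2,1,4,3,2,5,2,3,4,1,2,3,0,1,2,5,3,5,2,1,0,3,2,1,4,3,2,5,2,3,4,1,2,3,0,1,2,5,6,5,2,1,0,3,2,1,4,3,2,5,2,3,4,1,2,3,0,1,2,5,6,5,2,1,0,3,2,1,4,3,2,5,2,3,4,1,2,3,0,1,2,5,6,3,6,5,2,1,0,3,2,1,4,3,2,5,2,3,4,1,2,3,0,1,2,5,6,5,2,1,0,3,2,1,4,3,2,5,2,3,4,1,2,3])
 (Tr.leaf [6,6,6,5,2,1,0,3,2,1,4,3,2,5,2,3,4,1,2,3,0,1,2,5,6,5,2,1,0,3,2,1,4,3,2,5,2,3,4,1,2,3,0,1,2,5,6,5,2,1,0,3,2,1,4,3,2,5,2,3,4,1,2,3,0,1,2,5,6,5,2,1,0,3,2,1,4,3,2,5,2,3,4,1,2,3,0,1,2,5,6,5,2,1,0,3,2,1,4,3,2,5,2,3,4,1,2,3,0,1,2,5,6,5,2,1,0,3,2,1,4,3,2,5,2,3,4,1,2,3,0,1,2,5]))))))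
 (Tr.node (Tr.node (Tr.node (Tr.node (Tr.node (Tr.leaf [6,1,6,1])
 (Tr.leaf [6,5,2,1,0,3,2,1,4,3,2,5,2,3,4,1,2,3,0,1,2,5,6,5,2,1,0,3,2,1,4,3,2,5,2,3,4,1,2,3,0,1,2,5,6,3,6,5,2,1,0,3,2,1,4,3,2,5,2,3,4,1,2,3,0,1,2,5,6,5,2,1,0,3,2,1,4,3,2,5,2,3,4,1,2,3,0,1,2,5,6,5,2,1,0,3,2,1,4,3,2,5,2,3,4,1,2,3,0,1,2,5,3,5,2,1,0,3,2,1,4,3,2,5,2,3,4,1,2,3,0,1,2,5]))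
 (Tr.node (Tr.leaf [2,3,4,1,2,3,0,1,2,5,6,5,2,1,0,3,2,1,4,3,2,5,2,3,4,1,2,3,0,1,2,5,6,1,6,5,2,1,0,3,2,1,4,3,2,5,2,3,4,1,2,3,0,1,2,5,6,5,2,1,0,3,2,1,4,3,2,5,2,3,4,1,2,3,0,1,2,5,6,5,2,1,0,3,2,1,4,3,2,5,2,3,4,1,2,3,0,1,2,5,1,5,2,1,0,3,2,1,4,3,2,5,2,3,4,1,2,3,0,1,2,5,6,5,2,1,0,3,2,1,4,3,2,5])
 (Tr.leaf [2,5,2,3,4,1,2,3,0,1,2,5,6,5,2,1,0,3,2,1,4,3,2,5,2,3,4,1,2,3,0,1,2,5,6,5,2,1,0,3,2,1,4,3,2,5,2,3,4,1,2,3,0,1,2,5,6,5,6,5,2,1,0,3,2,1,4,3,2,5,2,3,4,1,2,3,0,1,2,5,6,5,2,1,0,3,2,1,4,3,2,5,2,3,4,1,2,3,0,1,2,5,6,5,2,1,0,3,2,1,4,3,2,5,2,3,4,1,2,3,0,1,2,5,5,5,2,1,0,3,2,1,4,3])))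
 (Tr.node (Tr.node (Tr.leaf [0,1,2,5,6,5,2,1,0,3,2,1,4,3,2,5,2,3,4,1,2,3,0,1,2,5,6,0,6,5,2,1,0,3,2,1,4,3,2,5,2,3,4,1,2,3,0,1,2,5,6,5,2,1,0,3,2,1,4,3,2,5,2,3,4,1,2,3,0,1,2,5,6,5,2,1,0,3,2,1,4,3,2,5,2,3,4,1,2,3,0,1,2,5,0,5,2,1,0,3,2,1,4,3,2,5,2,3,4,1,2,3,0,1,2,5,6,5,2,1,0,3,2,1,4,3,2,5,2,3,4,1,2,3])
 (Tr.leaf [2,3,0,1,2,5,6,5,2,1,0,3,2,1,4,3,2,5,2,3,4,1,2,3,0,1,2,5,6,5,2,1,0,3,2,1,4,3,2,5,2,3,4,1,2,3,0,1,2,5,6,4,6,5,2,1,0,3,2,1,4,3,2,5,2,3,4,1,2,3,0,1,2,5,6,5,2,1,0,3,2,1,4,3,2,5,2,3,4,1,2,3,0,1,2,5,6,5,2,1,0,3,2,1,4,3,2,5,2,3,4,1,2,3,0,1,2,5,4,5,2,1,0,3,2,1,4,3,2,5,2,3,4,1]))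
 (Tr.node (Tr.leaf [2,1,4,3,2,5,2,3,4,1,2,3,0,1,2,5,6,5,2,1,0,3,2,1,4,3,2,5,2,3,4,1,2,3,0,1,2,5,6,2,6,5,2,1,0,3,2,1,4,3,2,5,2,3,4,1,2,3,0,1,2,5,6,5,2,1,0,3,2,1,4,3,2,5,2,3,4,1,2,3,0,1,2,5,6,5,2,1,0,3,2,1,4,3,2,5,2,3,4,1,2,3,0,1,2,5,2,5,2,1,0,3,2,1,4,3,2,5,2,3,4,1,2,3,0,1,2,5,6,5,2,1,0,3])
 (Tr.leaf [0,3,2,1,4,3,2,5,2,3,4,1,2,3,0,1,2,5,6,5,2,1,0,3,2,1,4,3,2,5,2,3,4,1,2,3,0,1,2,5,6,5,2,1,0,3,2,1,4,3,2,5,2,3,4,1,2,3,0,1,2,5,6,6,6,5,2,1,0,3,2,1,4,3,2,5,2,3,4,1,2,3,0,1,2,5,6,5,2,1,0,3,2,1,4,3,2,5,2,3,4,1,2,3,0,1,2,5,6,5,2,1,0,3,2,1,4,3,2,5,2,3,4,1,2,3,0,1,2,5,6,5,2,1]))))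
 (Tr.node (Tr.node (Tr.node (Tr.leaf [2,5,6,5,2,1,0,3,2,1,4,3,2,5,2,3,4,1,2,3,0,1,2,5,0,5,2,1,0,3,2,1,4,3,2,5,2,3,4,1,2,3,0,1,2,5,6,5,2,1,0,3,2,1,4,3,2,5,2,3,4,1,2,3,0,1,2,5,6,5,2,1,0,3,2,1,4,3,2,5,2,3,4,1,2,3,0,1,2,5,6,0,6,5,2,1,0,3,2,1,4,3,2,5,2,3,4,1,2,3,0,1,2,5,6,5,2,1,0,3,2,1,4,3,2,5,2,3,4,1,2,3,0,1])
 (Tr.leaf [0,1,2,5,6,5,2,1,0,3,2,1,4,3,2,5,2,3,4,1,2,3,0,1,2,5,6,5,2,1,0,3,2,1,4,3,2,5,2,3,4,1,2,3,0,1,2,5,4,5,2,1,0,3,2,1,4,3,2,5,2,3,4,1,2,3,0,1,2,5,6,5,2,1,0,3,2,1,4,3,2,5,2,3,4,1,2,3,0,1,2,5,6,5,2,1,0,3,2,1,4,3,2,5,2,3,4,1,2,3,0,1,2,5,6,4,6,5,2,1,0,3,2,1,4,3,2,5,2,3,4,1,2,3]))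
 (Tr.node (Tr.leaf [4,3,2,5,2,3,4,1,2,3,0,1,2,5,6,5,2,1,0,3,2,1,4,3,2,5,2,3,4,1,2,3,0,1,2,5,2,5,2,1,0,3,2,1,4,3,2,5,2,3,4,1,2,3,0,1,2,5,6,5,2,1,0,3,2,1,4,3,2,5,2,3,4,1,2,3,0,1,2,5,6,5,2,1,0,3,2,1,4,3,2,5,2,3,4,1,2,3,0,1,2,5,6,2,6,5,2,1,0,3,2,1,4,3,2,5,2,3,4,1,2,3,0,1,2,5,6,5,2,1,0,3,2,1])
 (Tr.leaf [2,1,4,3,2,5,2,3,4,1,2,3,0,1,2,5,6,5,2,1,0,3,2,1,4,3,2,5,2,3,4,1,2,3,0,1,2,5,6,5,2,1,0,3,2,1,4,3,2,5,2,3,4,1,2,3,0,1,2,5,6,5,2,1,0,3,2,1,4,3,2,5,2,3,4,1,2,3,0,1,2,5,6,5,2,1,0,3,2,1,4,3,2,5,2,3,4,1,2,3,0,1,2,5,6,5,2,1,0,3,2,1,4,3,2,5,2,3,4,1,2,3,0,1,2,5,6,6,6,5,2,1,0,3])))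
 (Tr.node (Tr.node (Tr.leaf [4,1,2,3,0,1,2,5,6,5,2,1,0,3,2,1,4,3,2,5,2,3,4,1,2,3,0,1,2,5,1,5,2,1,0,3,2,1,4,3,2,5,2,3,4,1,2,3,0,1,2,5,6,5,2,1,0,3,2,1,4,3,2,5,2,3,4,1,2,3,0,1,2,5,6,5,2,1,0,3,2,1,4,3,2,5,2,3,4,1,2,3,0,1,2,5,6,1,6,5,2,1,0,3,2,1,4,3,2,5,2,3,4,1,2,3,0,1,2,5,6,5,2,1,0,3,2,1,4,3,2,5,2,3])
 (Tr.leaf [2,3,4,1,2,3,0,1,2,5,6,5,2,1,0,3,2,1,4,3,2,5,2,3,4,1,2,3,0,1,2,5,6,5,2,1,0,3,2,1,4,3,2,5,2,3,4,1,2,3,0,1,2,5,5,5,2,1,0,3,2,1,4,3,2,5,2,3,4,1,2,3,0,1,2,5,6,5,2,1,0,3,2,1,4,3,2,5,2,3,4,1,2,3,0,1,2,5,6,5,2,1,0,3,2,1,4,3,2,5,2,3,4,1,2,3,0,1,2,5,6,5,6,5,2,1,0,3,2,1,4,3,2,5]))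
 (Tr.node (Tr.leaf [2,1,0,3,2,1,4,3,2,5,2,3,4,1,2,3,0,1,2,5,6,5,2,1,0,3,2,1,4,3,2,5,2,3,4,1,2,3,0,1,2,5,3,5,2,1,0,3,2,1,4,3,2,5,2,3,4,1,2,3,0,1,2,5,6,5,2,1,0,3,2,1,4,3,2,5,2,3,4,1,2,3,0,1,2,5,6,5,2,1,0,3,2,1,4,3,2,5,2,3,4,1,2,3,0,1,2,5,6,3,6,5,2,1,0,3,2,1,4,3,2,5,2,3,4,1,2,3,0,1,2,5,6,5])
 (Tr.leaf [6,6,6,5,2,1,0,3,2,1,4,3,2,5,2,3,4,1,2,3,0,1,2,5,6,5,2,1,0,3,2,1,4,3,2,5,2,3,4,1,2,3,0,1,2,5,6,5,2,1,0,3,2,1,4,3,2,5,2,3,4,1,2,3,0,1,2,5,6,5,2,1,0,3,2,1,4,3,2,5,2,3,4,1,2,3,0,1,2,5,6,5,2,1,0,3,2,1,4,3,2,5,2,3,4,1,2,3,0,1,2,5,6,5,2,1,0,3,2,1,4,3,2,5,2,3,4,1,2,3,0,1,2,5])))))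
 (Tr.node (Tr.node (Tr.node (Tr.node (Tr.leaf [2,5,2,3,4,1,2,3,0,1,2,5,6,5,2,1,0,3,2,1,4,3,2,5,2,3,4,1,2,3,0,1,2,5,6,5,2,1,0,3,2,1,4,3,2,5,2,3,4,1,2,3,0,1,2,5,0,5,2,1,0,3,2,1,4,3,2,5,2,3,4,1,2,3,0,1,2,5,6,5,2,1,0,3,2,1,4,3,2,5,2,3,4,1,2,3,0,1,2,5,6,5,2,1,0,3,2,1,4,3,2,5,2,3,4,1,2,3,0,1,2,5,6,0,6,5,2,1,0,3,2,1,4,3])
 (Tr.leaf [2,5,2,3,4,1,2,3,0,1,2,5,6,3,6,5,2,1,0,3,2,1,4,3,2,5,2,3,4,1,2,3,0,1,2,5,6,5,2,1,0,3,2,1,4,3,2,5,2,3,4,1,2,3,0,1,2,5,6,5,2,1,0,3,2,1,4,3,2,5,2,3,4,1,2,3,0,1,2,5,3,5,2,1,0,3,2,1,4,3,2,5,2,3,4,1,2,3,0,1,2,5,6,5,2,1,0,3,2,1,4,3,2,5,2,3,4,1,2,3,0,1,2,5,6,5,2,1,0,3,2,1,4,3]))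
 (Tr.node (Tr.leaf [6,1,6,5,2,1,0,3,2,1,4,3,2,5,2,3,4,1,2,3,0,1,2,5,6,5,2,1,0,3,2,1,4,3,2,5,2,3,4,1,2,3,0,1,2,5,6,5,2,1,0,3,2,1,4,3,2,5,2,3,4,1,2,3,0,1,2,5,1,5,2,1,0,3,2,1,4,3,2,5,2,3,4,1,2,3,0,1,2,5,6,5,2,1,0,3,2,1,4,3,2,5,2,3,4,1,2,3,0,1,2,5,6,5,2,1,0,3,2,1,4,3,2,5,2,3,4,1,2,3,0,1,2,5])
 (Tr.leaf [2,5,6,5,2,1,0,3,2,1,4,3,2,5,2,3,4,1,2,3,0,1,2,5,6,5,6,5,2,1,0,3,2,1,4,3,2,5,2,3,4,1,2,3,0,1,2,5,6,5,2,1,0,3,2,1,4,3,2,5,2,3,4,1,2,3,0,1,2,5,6,5,2,1,0,3,2,1,4,3,2,5,2,3,4,1,2,3,0,1,2,5,5,5,2,1,0,3,2,1,4,3,2,5,2,3,4,1,2,3,0,1,2,5,6,5,2,1,0,3,2,1,4,3,2,5,2,3,4,1,2,3,0,1])))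
 (Tr.node (Tr.node (Tr.leaf [0,3,2,1,4,3,2,5,2,3,4,1,2,3,0,1,2,5,6,5,2,1,0,3,2,1,4,3,2,5,2,3,4,1,2,3,0,1,2,5,6,5,2,1,0,3,2,1,4,3,2,5,2,3,4,1,2,3,0,1,2,5,1,5,2,1,0,3,2,1,4,3,2,5,2,3,4,1,2,3,0,1,2,5,6,5,2,1,0,3,2,1,4,3,2,5,2,3,4,1,2,3,0,1,2,5,6,5,2,1,0,3,2,1,4,3,2,5,2,3,4,1,2,3,0,1,2,5,6,1,6,5,2,1])
 (Tr.leaf [0,3,2,1,4,3,2,5,2,3,4,1,2,3,0,1,2,5,6,4,6,5,2,1,0,3,2,1,4,3,2,5,2,3,4,1,2,3,0,1,2,5,6,5,2,1,0,3,2,1,4,3,2,5,2,3,4,1,2,3,0,1,2,5,6,5,2,1,0,3,2,1,4,3,2,5,2,3,4,1,2,3,0,1,2,5,4,5,2,1,0,3,2,1,4,3,2,5,2,3,4,1,2,3,0,1,2,5,6,5,2,1,0,3,2,1,4,3,2,5,2,3,4,1,2,3,0,1,2,5,6,5,2,1]))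
 (Tr.node (Tr.leaf [2,3,0,1,2,5,6,2,6,5,2,1,0,3,2,1,4,3,2,5,2,3,4,1,2,3,0,1,2,5,6,5,2,1,0,3,2,1,4,3,2,5,2,3,4,1,2,3,0,1,2,5,6,5,2,1,0,3,2,1,4,3,2,5,2,3,4,1,2,3,0,1,2,5,2,5,2,1,0,3,2,1,4,3,2,5,2,3,4,1,2,3,0,1,2,5,6,5,2,1,0,3,2,1,4,3,2,5,2,3,4,1,2,3,0,1,2,5,6,5,2,1,0,3,2,1,4,3,2,5,2,3,4,1])
 (Tr.leaf [4,1,2,3,0,1,2,5,6,5,2,1,0,3,2,1,4,3,2,5,2,3,4,1,2,3,0,1,2,5,6,6,6,5,2,1,0,3,2,1,4,3,2,5,2,3,4,1,2,3,0,1,2,5,6,5,2,1,0,3,2,1,4,3,2,5,2,3,4,1,2,3,0,1,2,5,6,5,2,1,0,3,2,1,4,3,2,5,2,3,4,1,2,3,0,1,2,5,6,5,2,1,0,3,2,1,4,3,2,5,2,3,4,1,2,3,0,1,2,5,6,5,2,1,0,3,2,1,4,3,2,5,2,3]))))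
 (Tr.node (Tr.node (Tr.node (Tr.leaf [4,3,2,5,2,3,4,1,2,3,0,1,2,5,6,5,2,1,0,3,2,1,4,3,2,5,2,3,4,1,2,3,0,1,2,5,6,5,2,1,0,3,2,1,4,3,2,5,2,3,4,1,2,3,0,1,2,5,6,0,6,5,2,1,0,3,2,1,4,3,2,5,2,3,4,1,2,3,0,1,2,5,6,5,2,1,0,3,2,1,4,3,2,5,2,3,4,1,2,3,0,1,2,5,6,5,2,1,0,3,2,1,4,3,2,5,2,3,4,1,2,3,0,1,2,5,0,5,2,1,0,3,2,1])
 (Tr.leaf [2,1,4,3,2,5,2,3,4,1,2,3,0,1,2,5,4,5,2,1,0,3,2,1,4,3,2,5,2,3,4,1,2,3,0,1,2,5,6,5,2,1,0,3,2,1,4,3,2,5,2,3,4,1,2,3,0,1,2,5,6,5,2,1,0,3,2,1,4,3,2,5,2,3,4,1,2,3,0,1,2,5,6,4,6,5,2,1,0,3,2,1,4,3,2,5,2,3,4,1,2,3,0,1,2,5,6,5,2,1,0,3,2,1,4,3,2,5,2,3,4,1,2,3,0,1,2,5,6,5,2,1,0,3]))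
 (Tr.node (Tr.leaf [0,1,2,5,2,5,2,1,0,3,2,1,4,3,2,5,2,3,4,1,2,3,0,1,2,5,6,5,2,1,0,3,2,1,4,3,2,5,2,3,4,1,2,3,0,1,2,5,6,5,2,1,0,3,2,1,4,3,2,5,2,3,4,1,2,3,0,1,2,5,6,2,6,5,2,1,0,3,2,1,4,3,2,5,2,3,4,1,2,3,0,1,2,5,6,5,2,1,0,3,2,1,4,3,2,5,2,3,4,1,2,3,0,1,2,5,6,5,2,1,0,3,2,1,4,3,2,5,2,3,4,1,2,3])
 (Tr.leaf [2,3,0,1,2,5,6,5,2,1,0,3,2,1,4,3,2,5,2,3,4,1,2,3,0,1,2,5,6,5,2,1,0,3,2,1,4,3,2,5,2,3,4,1,2,3,0,1,2,5,6,5,2,1,0,3,2,1,4,3,2,5,2,3,4,1,2,3,0,1,2,5,6,5,2,1,0,3,2,1,4,3,2,5,2,3,4,1,2,3,0,1,2,5,6,6,6,5,2,1,0,3,2,1,4,3,2,5,2,3,4,1,2,3,0,1,2,5,6,5,2,1,0,3,2,1,4,3,2,5,2,3,4,1])))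
 (Tr.node (Tr.node (Tr.leaf [2,1,0,3,2,1,4,3,2,5,2,3,4,1,2,3,0,1,2,5,6,5,2,1,0,3,2,1,4,3,2,5,2,3,4,1,2,3,0,1,2,5,6,5,2,1,0,3,2,1,4,3,2,5,2,3,4,1,2,3,0,1,2,5,6,1,6,5,2,1,0,3,2,1,4,3,2,5,2,3,4,1,2,3,0,1,2,5,6,5,2,1,0,3,2,1,4,3,2,5,2,3,4,1,2,3,0,1,2,5,6,5,2,1,0,3,2,1,4,3,2,5,2,3,4,1,2,3,0,1,2,5,1,5])
 (Tr.leaf [6,5,2,1,0,3,2,1,4,3,2,5,2,3,4,1,2,3,0,1,2,5,5,5,2,1,0,3,2,1,4,3,2,5,2,3,4,1,2,3,0,1,2,5,6,5,2,1,0,3,2,1,4,3,2,5,2,3,4,1,2,3,0,1,2,5,6,5,2,1,0,3,2,1,4,3,2,5,2,3,4,1,2,3,0,1,2,5,6,5,6,5,2,1,0,3,2,1,4,3,2,5,2,3,4,1,2,3,0,1,2,5,6,5,2,1,0,3,2,1,4,3,2,5,2,3,4,1,2,3,0,1,2,5]))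
 (Tr.node (Tr.leaf [2,3,4,1,2,3,0,1,2,5,3,5,2,1,0,3,2,1,4,3,2,5,2,3,4,1,2,3,0,1,2,5,6,5,2,1,0,3,2,1,4,3,2,5,2,3,4,1,2,3,0,1,2,5,6,5,2,1,0,3,2,1,4,3,2,5,2,3,4,1,2,3,0,1,2,5,6,3,6,5,2,1,0,3,2,1,4,3,2,5,2,3,4,1,2,3,0,1,2,5,6,5,2,1,0,3,2,1,4,3,2,5,2,3,4,1,2,3,0,1,2,5,6,5,2,1,0,3,2,1,4,3,2,5])
 (Tr.leaf [6,6,6,5,2,1,0,3,2,1,4,3,2,5,2,3,4,1,2,3,0,1,2,5,6,5,2,1,0,3,2,1,4,3,2,5,2,3,4,1,2,3,0,1,2,5,6,5,2,1,0,3,2,1,4,3,2,5,2,3,4,1,2,3,0,1,2,5,6,5,2,1,0,3,2,1,4,3,2,5,2,3,4,1,2,3,0,1,2,5,6,5,2,1,0,3,2,1,4,3,2,5,2,3,4,1,2,3,0,1,2,5,6,5,2,1,0,3,2,1,4,3,2,5,2,3,4,1,2,3,0,1,2,5])))))))))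
 (Tr.node (Tr.node (Tr.node (Tr.node (Tr.node (Tr.node (Tr.node (Tr.node (Tr.leaf [2,2])
 (Tr.leaf [0,1,2,5,3,5,2,1,0,3,2,1,4,3,2,5,2,3,4,1,2,3,0,1,2,5,6,5,2,1,0,3,2,1,4,3,2,5,2,3,4,1,2,3,0,1,2,5,6,5,2,1,0,3,2,1,4,3,2,5,2,3,4,1,2,3,0,1,2,5,6,3,6,5,2,1,0,3,2,1,4,3,2,5,2,3,4,1,2,3,0,1,2,5,6,5,2,1,0,3,2,1,4,3,2,5,2,3,4,1,2,3,0,1,2,5,6,5,2,1,0,3,2,1,4,3,2,5,2,3,4,1,2,3]))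
 (Tr.node (Tr.leaf [4,3,2,5,2,3,4,1,2,3,0,1,2,5,6,5,2,1,0,3,2,1,4,3,2,5,2,3,4,1,2,3,0,1,2,5,6,5,2,1,0,3,2,1,4,3,2,5,2,3,4,1,2,3,0,1,2,5,6,1,6,5,2,1,0,3,2,1,4,3,2,5,2,3,4,1,2,3,0,1,2,5,6,5,2,1,0,3,2,1,4,3,2,5,2,3,4,1,2,3,0,1,2,5,6,5,2,1,0,3,2,1,4,3,2,5,2,3,4,1,2,3,0,1,2,5,1,5,2,1,0,3,2,1])
 (Tr.leaf [2,1,4,3,2,5,2,3,4,1,2,3,0,1,2,5,5,5,2,1,0,3,2,1,4,3,2,5,2,3,4,1,2,3,0,1,2,5,6,5,2,1,0,3,2,1,4,3,2,5,2,3,4,1,2,3,0,1,2,5,6,5,2,1,0,3,2,1,4,3,2,5,2,3,4,1,2,3,0,1,2,5,6,5,6,5,2,1,0,3,2,1,4,3,2,5,2,3,4,1,2,3,0,1,2,5,6,5,2,1,0,3,2,1,4,3,2,5,2,3,4,1,2,3,0,1,2,5,6,5,2,1,0,3])))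
 (Tr.node (Tr.node (Tr.leaf [4,1,2,3,0,1,2,5,6,5,2,1,0,3,2,1,4,3,2,5,2,3,4,1,2,3,0,1,2,5,6,5,2,1,0,3,2,1,4,3,2,5,2,3,4,1,2,3,0,1,2,5,6,0,6,5,2,1,0,3,2,1,4,3,2,5,2,3,4,1,2,3,0,1,2,5,6,5,2,1,0,3,2,1,4,3,2,5,2,3,4,1,2,3,0,1,2,5,6,5,2,1,0,3,2,1,4,3,2,5,2,3,4,1,2,3,0,1,2,5,0,5,2,1,0,3,2,1,4,3,2,5,2,3])
 (Tr.leaf [2,3,4,1,2,3,0,1,2,5,4,5,2,1,0,3,2,1,4,3,2,5,2,3,4,1,2,3,0,1,2,5,6,5,2,1,0,3,2,1,4,3,2,5,2,3,4,1,2,3,0,1,2,5,6,5,2,1,0,3,2,1,4,3,2,5,2,3,4,1,2,3,0,1,2,5,6,4,6,5,2,1,0,3,2,1,4,3,2,5,2,3,4,1,2,3,0,1,2,5,6,5,2,1,0,3,2,1,4,3,2,5,2,3,4,1,2,3,0,1,2,5,6,5,2,1,0,3,2,1,4,3,2,5]))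
 (Tr.node (Tr.leaf [2,1,0,3,2,1,4,3,2,5,2,3,4,1,2,3,0,1,2,5,6,5,2,1,0,3,2,1,4,3,2,5,2,3,4,1,2,3,0,1,2,5,6,5,2,1,0,3,2,1,4,3,2,5,2,3,4,1,2,3,0,1,2,5,6,2,6,5,2,1,0,3,2,1,4,3,2,5,2,3,4,1,2,3,0,1,2,5,6,5,2,1,0,3,2,1,4,3,2,5,2,3,4,1,2,3,0,1,2,5,6,5,2,1,0,3,2,1,4,3,2,5,2,3,4,1,2,3,0,1,2,5,2,5])
 (Tr.leaf [6,5,2,1,0,3,2,1,4,3,2,5,2,3,4,1,2,3,0,1,2,5,6,5,2,1,0,3,2,1,4,3,2,5,2,3,4,1,2,3,0,1,2,5,6,5,2,1,0,3,2,1,4,3,2,5,2,3,4,1,2,3,0,1,2,5,6,5,2,1,0,3,2,1,4,3,2,5,2,3,4,1,2,3,0,1,2,5,6,6,6,5,2,1,0,3,2,1,4,3,2,5,2,3,4,1,2,3,0,1,2,5,6,5,2,1,0,3,2,1,4,3,2,5,2,3,4,1,2,3,0,1,2,5]))))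
 (Tr.node (Tr.node (Tr.node (Tr.leaf [2,3,0,1,2,5,6,5,2,1,0,3,2,1,4,3,2,5,2,3,4,1,2,3,0,1,2,5,6,5,2,1,0,3,2,1,4,3,2,5,2,3,4,1,2,3,0,1,2,5,0,5,2,1,0,3,2,1,4,3,2,5,2,3,4,1,2,3,0,1,2,5,6,5,2,1,0,3,2,1,4,3,2,5,2,3,4,1,2,3,0,1,2,5,6,5,2,1,0,3,2,1,4,3,2,5,2,3,4,1,2,3,0,1,2,5,6,0,6,5,2,1,0,3,2,1,4,3,2,5,2,3,4,1])
 (Tr.leaf [2,3,0,1,2,5,6,3,6,5,2,1,0,3,2,1,4,3,2,5,2,3,4,1,2,3,0,1,2,5,6,5,2,1,0,3,2,1,4,3,2,5,2,3,4,1,2,3,0,1,2,5,6,5,2,1,0,3,2,1,4,3,2,5,2,3,4,1,2,3,0,1,2,5,3,5,2,1,0,3,2,1,4,3,2,5,2,3,4,1,2,3,0,1,2,5,6,5,2,1,0,3,2,1,4,3,2,5,2,3,4,1,2,3,0,1,2,5,6,5,2,1,0,3,2,1,4,3,2,5,2,3,4,1]))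
 (Tr.node (Tr.leaf [0,3,2,1,4,3,2,5,2,3,4,1,2,3,0,1,2,5,6,5,2,1,0,3,2,1,4,3,2,5,2,3,4,1,2,3,0,1,2,5,6,5,2,1,0,3,2,1,4,3,2,5,2,3,4,1,2,3,0,1,2,5,2,5,2,1,0,3,2,1,4,3,2,5,2,3,4,1,2,3,0,1,2,5,6,5,2,1,0,3,2,1,4,3,2,5,2,3,4,1,2,3,0,1,2,5,6,5,2,1,0,3,2,1,4,3,2,5,2,3,4,1,2,3,0,1,2,5,6,2,6,5,2,1])
 (Tr.leaf [0,3,2,1,4,3,2,5,2,3,4,1,2,3,0,1,2,5,6,5,6,5,2,1,0,3,2,1,4,3,2,5,2,3,4,1,2,3,0,1,2,5,6,5,2,1,0,3,2,1,4,3,2,5,2,3,4,1,2,3,0,1,2,5,6,5,2,1,0,3,2,1,4,3,2,5,2,3,4,1,2,3,0,1,2,5,5,5,2,1,0,3,2,1,4,3,2,5,2,3,4,1,2,3,0,1,2,5,6,5,2,1,0,3,2,1,4,3,2,5,2,3,4,1,2,3,0,1,2,5,6,5,2,1])))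
 (Tr.node (Tr.node (Tr.leaf [2,5,2,3,4,1,2,3,0,1,2,5,6,5,2,1,0,3,2,1,4,3,2,5,2,3,4,1,2,3,0,1,2,5,6,5,2,1,0,3,2,1,4,3,2,5,2,3,4,1,2,3,0,1,2,5,1,5,2,1,0,3,2,1,4,3,2,5,2,3,4,1,2,3,0,1,2,5,6,5,2,1,0,3,2,1,4,3,2,5,2,3,4,1,2,3,0,1,2,5,6,5,2,1,0,3,2,1,4,3,2,5,2,3,4,1,2,3,0,1,2,5,6,1,6,5,2,1,0,3,2,1,4,3])
 (Tr.leaf [2,5,2,3,4,1,2,3,0,1,2,5,6,4,6,5,2,1,0,3,2,1,4,3,2,5,2,3,4,1,2,3,0,1,2,5,6,5,2,1,0,3,2,1,4,3,2,5,2,3,4,1,2,3,0,1,2,5,6,5,2,1,0,3,2,1,4,3,2,5,2,3,4,1,2,3,0,1,2,5,4,5,2,1,0,3,2,1,4,3,2,5,2,3,4,1,2,3,0,1,2,5,6,5,2,1,0,3,2,1,4,3,2,5,2,3,4,1,2,3,0,1,2,5,6,5,2,1,0,3,2,1,4,3]))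
 (Tr.node (Tr.leaf [6,2,6,5,2,1,0,3,2,1,4,3,2,5,2,3,4,1,2,3,0,1,2,5,6,5,2,1,0,3,2,1,4,3,2,5,2,3,4,1,2,3,0,1,2,5,6,5,2,1,0,3,2,1,4,3,2,5,2,3,4,1,2,3,0,1,2,5,2,5,2,1,0,3,2,1,4,3,2,5,2,3,4,1,2,3,0,1,2,5,6,5,2,1,0,3,2,1,4,3,2,5,2,3,4,1,2,3,0,1,2,5,6,5,2,1,0,3,2,1,4,3,2,5,2,3,4,1,2,3,0,1,2,5])
 (Tr.leaf [2,5,6,5,2,1,0,3,2,1,4,3,2,5,2,3,4,1,2,3,0,1,2,5,6,6,6,5,2,1,0,3,2,1,4,3,2,5,2,3,4,1,2,3,0,1,2,5,6,5,2,1,0,3,2,1,4,3,2,5,2,3,4,1,2,3,0,1,2,5,6,5,2,1,0,3,2,1,4,3,2,5,2,3,4,1,2,3,0,1,2,5,6,5,2,1,0,3,2,1,4,3,2,5,2,3,4,1,2,3,0,1,2,5,6,5,2,1,0,3,2,1,4,3,2,5,2,3,4,1,2,3,0,1])))))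
 (Tr.node (Tr.node (Tr.node (Tr.node (Tr.leaf [5,2,5,2,5,2])
 (Tr.leaf [2,1,4,3,2,5,2,3,4,1,2,3,0,1,2,5,6,5,2,1,0,3,2,1,4,3,2,5,2,3,4,1,2,3,0,1,2,5,6,3,6,5,2,1,0,3,2,1,4,3,2,5,2,3,4,1,2,3,0,1,2,5,6,5,2,1,0,3,2,1,4,3,2,5,2,3,4,1,2,3,0,1,2,5,6,5,2,1,0,3,2,1,4,3,2,5,2,3,4,1,2,3,0,1,2,5,3,5,2,1,0,3,2,1,4,3,2,5,2,3,4,1,2,3,0,1,2,5,6,5,2,1,0,3]))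
 (Tr.node (Tr.leaf [0,1,2,5,6,5,2,1,0,3,2,1,4,3,2,5,2,3,4,1,2,3,0,1,2,5,6,1,6,5,2,1,0,3,2,1,4,3,2,5,2,3,4,1,2,3,0,1,2,5,6,5,2,1,0,3,2,1,4,3,2,5,2,3,4,1,2,3,0,1,2,5,6,5,2,1,0,3,2,1,4,3,2,5,2,3,4,1,2,3,0,1,2,5,1,5,2,1,0,3,2,1,4,3,2,5,2,3,4,1,2,3,0,1,2,5,6,5,2,1,0,3,2,1,4,3,2,5,2,3,4,1,2,3])
 (Tr.leaf [2,3,0,1,2,5,6,5,2,1,0,3,2,1,4,3,2,5,2,3,4,1,2,3,0,1,2,5,6,5,2,1,0,3,2,1,4,3,2,5,2,3,4,1,2,3,0,1,2,5,6,5,6,5,2,1,0,3,2,1,4,3,2,5,2,3,4,1,2,3,0,1,2,5,6,5,2,1,0,3,2,1,4,3,2,5,2,3,4,1,2,3,0,1,2,5,6,5,2,1,0,3,2,1,4,3,2,5,2,3,4,1,2,3,0,1,2,5,5,5,2,1,0,3,2,1,4,3,2,5,2,3,4,1])))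
 (Tr.node (Tr.node (Tr.leaf [2,1,0,3,2,1,4,3,2,5,2,3,4,1,2,3,0,1,2,5,6,0,6,5,2,1,0,3,2,1,4,3,2,5,2,3,4,1,2,3,0,1,2,5,6,5,2,1,0,3,2,1,4,3,2,5,2,3,4,1,2,3,0,1,2,5,6,5,2,1,0,3,2,1,4,3,2,5,2,3,4,1,2,3,0,1,2,5,0,5,2,1,0,3,2,1,4,3,2,5,2,3,4,1,2,3,0,1,2,5,6,5,2,1,0,3,2,1,4,3,2,5,2,3,4,1,2,3,0,1,2,5,6,5])
 (Tr.leaf [6,5,2,1,0,3,2,1,4,3,2,5,2,3,4,1,2,3,0,1,2,5,6,5,2,1,0,3,2,1,4,3,2,5,2,3,4,1,2,3,0,1,2,5,6,4,6,5,2,1,0,3,2,1,4,3,2,5,2,3,4,1,2,3,0,1,2,5,6,5,2,1,0,3,2,1,4,3,2,5,2,3,4,1,2,3,0,1,2,5,6,5,2,1,0,3,2,1,4,3,2,5,2,3,4,1,2,3,0,1,2,5,4,5,2,1,0,3,2,1,4,3,2,5,2,3,4,1,2,3,0,1,2,5]))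
 (Tr.node (Tr.leaf [2,3,4,1,2,3,0,1,2,5,6,5,2,1,0,3,2,1,4,3,2,5,2,3,4,1,2,3,0,1,2,5,6,2,6,5,2,1,0,3,2,1,4,3,2,5,2,3,4,1,2,3,0,1,2,5,6,5,2,1,0,3,2,1,4,3,2,5,2,3,4,1,2,3,0,1,2,5,6,5,2,1,0,3,2,1,4,3,2,5,2,3,4,1,2,3,0,1,2,5,2,5,2,1,0,3,2,1,4,3,2,5,2,3,4,1,2,3,0,1,2,5,6,5,2,1,0,3,2,1,4,3,2,5])
 (Tr.leaf [2,5,2,3,4,1,2,3,0,1,2,5,6,5,2,1,0,3,2,1,4,3,2,5,2,3,4,1,2,3,0,1,2,5,6,5,2,1,0,3,2,1,4,3,2,5,2,3,4,1,2,3,0,1,2,5,6,6,6,5,2,1,0,3,2,1,4,3,2,5,2,3,4,1,2,3,0,1,2,5,6,5,2,1,0,3,2,1,4,3,2,5,2,3,4,1,2,3,0,1,2,5,6,5,2,1,0,3,2,1,4,3,2,5,2,3,4,1,2,3,0,1,2,5,6,5,2,1,0,3,2,1,4,3]))))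
 (Tr.node (Tr.node (Tr.node (Tr.leaf [0,3,2,1,4,3,2,5,2,3,4,1,2,3,0,1,2,5,0,5,2,1,0,3,2,1,4,3,2,5,2,3,4,1,2,3,0,1,2,5,6,5,2,1,0,3,2,1,4,3,2,5,2,3,4,1,2,3,0,1,2,5,6,5,2,1,0,3,2,1,4,3,2,5,2,3,4,1,2,3,0,1,2,5,6,0,6,5,2,1,0,3,2,1,4,3,2,5,2,3,4,1,2,3,0,1,2,5,6,5,2,1,0,3,2,1,4,3,2,5,2,3,4,1,2,3,0,1,2,5,6,5,2,1])
 (Tr.leaf [2,1,0,3,2,1,4,3,2,5,2,3,4,1,2,3,0,1,2,5,6,5,2,1,0,3,2,1,4,3,2,5,2,3,4,1,2,3,0,1,2,5,4,5,2,1,0,3,2,1,4,3,2,5,2,3,4,1,2,3,0,1,2,5,6,5,2,1,0,3,2,1,4,3,2,5,2,3,4,1,2,3,0,1,2,5,6,5,2,1,0,3,2,1,4,3,2,5,2,3,4,1,2,3,0,1,2,5,6,4,6,5,2,1,0,3,2,1,4,3,2,5,2,3,4,1,2,3,0,1,2,5,6,5]))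
 (Tr.node (Tr.leaf [4,1,2,3,0,1,2,5,6,5,2,1,0,3,2,1,4,3,2,5,2,3,4,1,2,3,0,1,2,5,2,5,2,1,0,3,2,1,4,3,2,5,2,3,4,1,2,3,0,1,2,5,6,5,2,1,0,3,2,1,4,3,2,5,2,3,4,1,2,3,0,1,2,5,6,5,2,1,0,3,2,1,4,3,2,5,2,3,4,1,2,3,0,1,2,5,6,2,6,5,2,1,0,3,2,1,4,3,2,5,2,3,4,1,2,3,0,1,2,5,6,5,2,1,0,3,2,1,4,3,2,5,2,3])
 (Tr.leaf [2,3,4,1,2,3,0,1,2,5,6,5,2,1,0,3,2,1,4,3,2,5,2,3,4,1,2,3,0,1,2,5,6,5,2,1,0,3,2,1,4,3,2,5,2,3,4,1,2,3,0,1,2,5,6,5,2,1,0,3,2,1,4,3,2,5,2,3,4,1,2,3,0,1,2,5,6,5,2,1,0,3,2,1,4,3,2,5,2,3,4,1,2,3,0,1,2,5,6,5,2,1,0,3,2,1,4,3,2,5,2,3,4,1,2,3,0,1,2,5,6,6,6,5,2,1,0,3,2,1,4,3,2,5])))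
 (Tr.node (Tr.node (Tr.leaf [2,5,6,5,2,1,0,3,2,1,4,3,2,5,2,3,4,1,2,3,0,1,2,5,1,5,2,1,0,3,2,1,4,3,2,5,2,3,4,1,2,3,0,1,2,5,6,5,2,1,0,3,2,1,4,3,2,5,2,3,4,1,2,3,0,1,2,5,6,5,2,1,0,3,2,1,4,3,2,5,2,3,4,1,2,3,0,1,2,5,6,1,6,5,2,1,0,3,2,1,4,3,2,5,2,3,4,1,2,3,0,1,2,5,6,5,2,1,0,3,2,1,4,3,2,5,2,3,4,1,2,3,0,1])
 (Tr.leaf [0,1,2,5,6,5,2,1,0,3,2,1,4,3,2,5,2,3,4,1,2,3,0,1,2,5,6,5,2,1,0,3,2,1,4,3,2,5,2,3,4,1,2,3,0,1,2,5,5,5,2,1,0,3,2,1,4,3,2,5,2,3,4,1,2,3,0,1,2,5,6,5,2,1,0,3,2,1,4,3,2,5,2,3,4,1,2,3,0,1,2,5,6,5,2,1,0,3,2,1,4,3,2,5,2,3,4,1,2,3,0,1,2,5,6,5,6,5,2,1,0,3,2,1,4,3,2,5,2,3,4,1,2,3]))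
 (Tr.node (Tr.leaf [4,3,2,5,2,3,4,1,2,3,0,1,2,5,6,5,2,1,0,3,2,1,4,3,2,5,2,3,4,1,2,3,0,1,2,5,3,5,2,1,0,3,2,1,4,3,2,5,2,3,4,1,2,3,0,1,2,5,6,5,2,1,0,3,2,1,4,3,2,5,2,3,4,1,2,3,0,1,2,5,6,5,2,1,0,3,2,1,4,3,2,5,2,3,4,1,2,3,0,1,2,5,6,3,6,5,2,1,0,3,2,1,4,3,2,5,2,3,4,1,2,3,0,1,2,5,6,5,2,1,0,3,2,1])
 (Tr.leaf [6,6,6,5,2,1,0,3,2,1,4,3,2,5,2,3,4,1,2,3,0,1,2,5,6,5,2,1,0,3,2,1,4,3,2,5,2,3,4,1,2,3,0,1,2,5,6,5,2,1,0,3,2,1,4,3,2,5,2,3,4,1,2,3,0,1,2,5,6,5,2,1,0,3,2,1,4,3,2,5,2,3,4,1,2,3,0,1,2,5,6,5,2,1,0,3,2,1,4,3,2,5,2,3,4,1,2,3,0,1,2,5,6,5,2,1,0,3,2,1,4,3,2,5,2,3,4,1,2,3,0,1,2,5]))))))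
 (Tr.node (Tr.node (Tr.node (Tr.node (Tr.node (Tr.leaf [6,0,6,0])
 (Tr.leaf [2,3,4,1,2,3,0,1,2,5,6,5,2,1,0,3,2,1,4,3,2,5,2,3,4,1,2,3,0,1,2,5,6,5,2,1,0,3,2,1,4,3,2,5,2,3,4,1,2,3,0,1,2,5,6,3,6,5,2,1,0,3,2,1,4,3,2,5,2,3,4,1,2,3,0,1,2,5,6,5,2,1,0,3,2,1,4,3,2,5,2,3,4,1,2,3,0,1,2,5,6,5,2,1,0,3,2,1,4,3,2,5,2,3,4,1,2,3,0,1,2,5,3,5,2,1,0,3,2,1,4,3,2,5]))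
 (Tr.node (Tr.leaf [2,1,0,3,2,1,4,3,2,5,2,3,4,1,2,3,0,1,2,5,6,5,2,1,0,3,2,1,4,3,2,5,2,3,4,1,2,3,0,1,2,5,6,1,6,5,2,1,0,3,2,1,4,3,2,5,2,3,4,1,2,3,0,1,2,5,6,5,2,1,0,3,2,1,4,3,2,5,2,3,4,1,2,3,0,1,2,5,6,5,2,1,0,3,2,1,4,3,2,5,2,3,4,1,2,3,0,1,2,5,1,5,2,1,0,3,2,1,4,3,2,5,2,3,4,1,2,3,0,1,2,5,6,5])
 (Tr.leaf [5,5,2,1,0,3,2,1,4,3,2,5,2,3,4,1,2,3,0,1,2,5,6,5,2,1,0,3,2,1,4,3,2,5,2,3,4,1,2,3,0,1,2,5,6,5,2,1,0,3,2,1,4,3,2,5,2,3,4,1,2,3,0,1,2,5,6,5,6,5,2,1,0,3,2,1,4,3,2,5,2,3,4,1,2,3,0,1,2,5,6,5,2,1,0,3,2,1,4,3,2,5,2,3,4,1,2,3,0,1,2,5,6,5,2,1,0,3,2,1,4,3,2,5,2,3,4,1,2,3,0,1,2,5])))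
 (Tr.node (Tr.node (Tr.leaf [4,3,2,5,2,3,4,1,2,3,0,1,2,5,6,5,2,1,0,3,2,1,4,3,2,5,2,3,4,1,2,3,0,1,2,5,6,0,6,5,2,1,0,3,2,1,4,3,2,5,2,3,4,1,2,3,0,1,2,5,6,5,2,1,0,3,2,1,4,3,2,5,2,3,4,1,2,3,0,1,2,5,6,5,2,1,0,3,2,1,4,3,2,5,2,3,4,1,2,3,0,1,2,5,0,5,2,1,0,3,2,1,4,3,2,5,2,3,4,1,2,3,0,1,2,5,6,5,2,1,0,3,2,1])
 (Tr.leaf [2,1,4,3,2,5,2,3,4,1,2,3,0,1,2,5,6,5,2,1,0,3,2,1,4,3,2,5,2,3,4,1,2,3,0,1,2,5,6,5,2,1,0,3,2,1,4,3,2,5,2,3,4,1,2,3,0,1,2,5,6,4,6,5,2,1,0,3,2,1,4,3,2,5,2,3,4,1,2,3,0,1,2,5,6,5,2,1,0,3,2,1,4,3,2,5,2,3,4,1,2,3,0,1,2,5,6,5,2,1,0,3,2,1,4,3,2,5,2,3,4,1,2,3,0,1,2,5,4,5,2,1,0,3]))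
 (Tr.node (Tr.leaf [0,1,2,5,6,5,2,1,0,3,2,1,4,3,2,5,2,3,4,1,2,3,0,1,2,5,6,5,2,1,0,3,2,1,4,3,2,5,2,3,4,1,2,3,0,1,2,5,6,2,6,5,2,1,0,3,2,1,4,3,2,5,2,3,4,1,2,3,0,1,2,5,6,5,2,1,0,3,2,1,4,3,2,5,2,3,4,1,2,3,0,1,2,5,6,5,2,1,0,3,2,1,4,3,2,5,2,3,4,1,2,3,0,1,2,5,2,5,2,1,0,3,2,1,4,3,2,5,2,3,4,1,2,3])
 (Tr.leaf [2,3,0,1,2,5,6,5,2,1,0,3,2,1,4,3,2,5,2,3,4,1,2,3,0,1,2,5,6,5,2,1,0,3,2,1,4,3,2,5,2,3,4,1,2,3,0,1,2,5,6,5,2,1,0,3,2,1,4,3,2,5,2,3,4,1,2,3,0,1,2,5,6,6,6,5,2,1,0,3,2,1,4,3,2,5,2,3,4,1,2,3,0,1,2,5,6,5,2,1,0,3,2,1,4,3,2,5,2,3,4,1,2,3,0,1,2,5,6,5,2,1,0,3,2,1,4,3,2,5,2,3,4,1]))))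
 (Tr.node (Tr.node (Tr.node (Tr.leaf [2,5,2,3,4,1,2,3,0,1,2,5,6,5,2,1,0,3,2,1,4,3,2,5,2,3,4,1,2,3,0,1,2,5,0,5,2,1,0,3,2,1,4,3,2,5,2,3,4,1,2,3,0,1,2,5,6,5,2,1,0,3,2,1,4,3,2,5,2,3,4,1,2,3,0,1,2,5,6,5,2,1,0,3,2,1,4,3,2,5,2,3,4,1,2,3,0,1,2,5,6,0,6,5,2,1,0,3,2,1,4,3,2,5,2,3,4,1,2,3,0,1,2,5,6,5,2,1,0,3,2,1,4,3])
 (Tr.leaf [4,3,2,5,2,3,4,1,2,3,0,1,2,5,6,5,2,1,0,3,2,1,4,3,2,5,2,3,4,1,2,3,0,1,2,5,6,5,2,1,0,3,2,1,4,3,2,5,2,3,4,1,2,3,0,1,2,5,4,5,2,1,0,3,2,1,4,3,2,5,2,3,4,1,2,3,0,1,2,5,6,5,2,1,0,3,2,1,4,3,2,5,2,3,4,1,2,3,0,1,2,5,6,5,2,1,0,3,2,1,4,3,2,5,2,3,4,1,2,3,0,1,2,5,6,4,6,5,2,1,0,3,2,1]))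
 (Tr.node (Tr.leaf [2,5,6,5,2,1,0,3,2,1,4,3,2,5,2,3,4,1,2,3,0,1,2,5,6,5,2,1,0,3,2,1,4,3,2,5,2,3,4,1,2,3,0,1,2,5,2,5,2,1,0,3,2,1,4,3,2,5,2,3,4,1,2,3,0,1,2,5,6,5,2,1,0,3,2,1,4,3,2,5,2,3,4,1,2,3,0,1,2,5,6,5,2,1,0,3,2,1,4,3,2,5,2,3,4,1,2,3,0,1,2,5,6,2,6,5,2,1,0,3,2,1,4,3,2,5,2,3,4,1,2,3,0,1])
 (Tr.leaf [2,5,6,5,6,5,2,1,0,3,2,1,4,3,2,5,2,3,4,1,2,3,0,1,2,5,6,5,2,1,0,3,2,1,4,3,2,5,2,3,4,1,2,3,0,1,2,5,6,5,2,1,0,3,2,1,4,3,2,5,2,3,4,1,2,3,0,1,2,5,5,5,2,1,0,3,2,1,4,3,2,5,2,3,4,1,2,3,0,1,2,5,6,5,2,1,0,3,2,1,4,3,2,5,2,3,4,1,2,3,0,1,2,5,6,5,2,1,0,3,2,1,4,3,2,5,2,3,4,1,2,3,0,1])))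
 (Tr.node (Tr.node (Tr.leaf [0,3,2,1,4,3,2,5,2,3,4,1,2,3,0,1,2,5,6,5,2,1,0,3,2,1,4,3,2,5,2,3,4,1,2,3,0,1,2,5,1,5,2,1,0,3,2,1,4,3,2,5,2,3,4,1,2,3,0,1,2,5,6,5,2,1,0,3,2,1,4,3,2,5,2,3,4,1,2,3,0,1,2,5,6,5,2,1,0,3,2,1,4,3,2,5,2,3,4,1,2,3,0,1,2,5,6,1,6,5,2,1,0,3,2,1,4,3,2,5,2,3,4,1,2,3,0,1,2,5,6,5,2,1])
 (Tr.leaf [2,1,0,3,2,1,4,3,2,5,2,3,4,1,2,3,0,1,2,5,6,5,2,1,0,3,2,1,4,3,2,5,2,3,4,1,2,3,0,1,2,5,6,5,2,1,0,3,2,1,4,3,2,5,2,3,4,1,2,3,0,1,2,5,5,5,2,1,0,3,2,1,4,3,2,5,2,3,4,1,2,3,0,1,2,5,6,5,2,1,0,3,2,1,4,3,2,5,2,3,4,1,2,3,0,1,2,5,6,5,2,1,0,3,2,1,4,3,2,5,2,3,4,1,2,3,0,1,2,5,6,5,6,5]))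
 (Tr.node (Tr.leaf [4,1,2,3,0,1,2,5,6,5,2,1,0,3,2,1,4,3,2,5,2,3,4,1,2,3,0,1,2,5,6,5,2,1,0,3,2,1,4,3,2,5,2,3,4,1,2,3,0,1,2,5,3,5,2,1,0,3,2,1,4,3,2,5,2,3,4,1,2,3,0,1,2,5,6,5,2,1,0,3,2,1,4,3,2,5,2,3,4,1,2,3,0,1,2,5,6,5,2,1,0,3,2,1,4,3,2,5,2,3,4,1,2,3,0,1,2,5,6,3,6,5,2,1,0,3,2,1,4,3,2,5,2,3])
 (Tr.leaf [4,1,2,3,0,1,2,5,6,6,6,5,2,1,0,3,2,1,4,3,2,5,2,3,4,1,2,3,0,1,2,5,6,5,2,1,0,3,2,1,4,3,2,5,2,3,4,1,2,3,0,1,2,5,6,5,2,1,0,3,2,1,4,3,2,5,2,3,4,1,2,3,0,1,2,5,6,5,2,1,0,3,2,1,4,3,2,5,2,3,4,1,2,3,0,1,2,5,6,5,2,1,0,3,2,1,4,3,2,5,2,3,4,1,2,3,0,1,2,5,6,5,2,1,0,3,2,1,4,3,2,5,2,3])))))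
 (Tr.node (Tr.node (Tr.node (Tr.node (Tr.leaf [0,6,5,2,1,0,3,2,1,4,3,2,5,2,3,4,1,2,3,0,1,2,5,6,5,2,1,0,3,2,1,4,3,2,5,2,3,4,1,2,3,0,1,2,5,6,5,2,1,0,3,2,1,4,3,2,5,2,3,4,1,2,3,0,1,2,5,0,5,2,1,0,3,2,1,4,3,2,5,2,3,4,1,2,3,0,1,2,5,6,5,2,1,0,3,2,1,4,3,2,5,2,3,4,1,2,3,0,1,2,5,6,5,2,1,0,3,2,1,4,3,2,5,2,3,4,1,2,3,0,1,2,5,6])
 (Tr.leaf [6,5,2,1,0,3,2,1,4,3,2,5,2,3,4,1,2,3,0,1,2,5,6,3,6,5,2,1,0,3,2,1,4,3,2,5,2,3,4,1,2,3,0,1,2,5,6,5,2,1,0,3,2,1,4,3,2,5,2,3,4,1,2,3,0,1,2,5,6,5,2,1,0,3,2,1,4,3,2,5,2,3,4,1,2,3,0,1,2,5,3,5,2,1,0,3,2,1,4,3,2,5,2,3,4,1,2,3,0,1,2,5,6,5,2,1,0,3,2,1,4,3,2,5,2,3,4,1,2,3,0,1,2,5]))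
 (Tr.node (Tr.leaf [2,3,4,1,2,3,0,1,2,5,6,1,6,5,2,1,0,3,2,1,4,3,2,5,2,3,4,1,2,3,0,1,2,5,6,5,2,1,0,3,2,1,4,3,2,5,2,3,4,1,2,3,0,1,2,5,6,5,2,1,0,3,2,1,4,3,2,5,2,3,4,1,2,3,0,1,2,5,1,5,2,1,0,3,2,1,4,3,2,5,2,3,4,1,2,3,0,1,2,5,6,5,2,1,0,3,2,1,4,3,2,5,2,3,4,1,2,3,0,1,2,5,6,5,2,1,0,3,2,1,4,3,2,5])
 (Tr.leaf [2,5,2,3,4,1,2,3,0,1,2,5,6,5,2,1,0,3,2,1,4,3,2,5,2,3,4,1,2,3,0,1,2,5,6,5,6,5,2,1,0,3,2,1,4,3,2,5,2,3,4,1,2,3,0,1,2,5,6,5,2,1,0,3,2,1,4,3,2,5,2,3,4,1,2,3,0,1,2,5,6,5,2,1,0,3,2,1,4,3,2,5,2,3,4,1,2,3,0,1,2,5,5,5,2,1,0,3,2,1,4,3,2,5,2,3,4,1,2,3,0,1,2,5,6,5,2,1,0,3,2,1,4,3])))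
 (Tr.node (Tr.node (Tr.leaf [0,1,2,5,6,0,6,5,2,1,0,3,2,1,4,3,2,5,2,3,4,1,2,3,0,1,2,5,6,5,2,1,0,3,2,1,4,3,2,5,2,3,4,1,2,3,0,1,2,5,6,5,2,1,0,3,2,1,4,3,2,5,2,3,4,1,2,3,0,1,2,5,0,5,2,1,0,3,2,1,4,3,2,5,2,3,4,1,2,3,0,1,2,5,6,5,2,1,0,3,2,1,4,3,2,5,2,3,4,1,2,3,0,1,2,5,6,5,2,1,0,3,2,1,4,3,2,5,2,3,4,1,2,3])
 (Tr.leaf [2,3,0,1,2,5,6,5,2,1,0,3,2,1,4,3,2,5,2,3,4,1,2,3,0,1,2,5,6,4,6,5,2,1,0,3,2,1,4,3,2,5,2,3,4,1,2,3,0,1,2,5,6,5,2,1,0,3,2,1,4,3,2,5,2,3,4,1,2,3,0,1,2,5,6,5,2,1,0,3,2,1,4,3,2,5,2,3,4,1,2,3,0,1,2,5,4,5,2,1,0,3,2,1,4,3,2,5,2,3,4,1,2,3,0,1,2,5,6,5,2,1,0,3,2,1,4,3,2,5,2,3,4,1]))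
 (Tr.node (Tr.leaf [2,1,4,3,2,5,2,3,4,1,2,3,0,1,2,5,6,2,6,5,2,1,0,3,2,1,4,3,2,5,2,3,4,1,2,3,0,1,2,5,6,5,2,1,0,3,2,1,4,3,2,5,2,3,4,1,2,3,0,1,2,5,6,5,2,1,0,3,2,1,4,3,2,5,2,3,4,1,2,3,0,1,2,5,2,5,2,1,0,3,2,1,4,3,2,5,2,3,4,1,2,3,0,1,2,5,6,5,2,1,0,3,2,1,4,3,2,5,2,3,4,1,2,3,0,1,2,5,6,5,2,1,0,3])
 (Tr.leaf [0,3,2,1,4,3,2,5,2,3,4,1,2,3,0,1,2,5,6,5,2,1,0,3,2,1,4,3,2,5,2,3,4,1,2,3,0,1,2,5,6,6,6,5,2,1,0,3,2,1,4,3,2,5,2,3,4,1,2,3,0,1,2,5,6,5,2,1,0,3,2,1,4,3,2,5,2,3,4,1,2,3,0,1,2,5,6,5,2,1,0,3,2,1,4,3,2,5,2,3,4,1,2,3,0,1,2,5,6,5,2,1,0,3,2,1,4,3,2,5,2,3,4,1,2,3,0,1,2,5,6,5,2,1]))))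
 (Tr.node (Tr.node (Tr.node (Tr.leaf [2,5,0,5,2,1,0,3,2,1,4,3,2,5,2,3,4,1,2,3,0,1,2,5,6,5,2,1,0,3,2,1,4,3,2,5,2,3,4,1,2,3,0,1,2,5,6,5,2,1,0,3,2,1,4,3,2,5,2,3,4,1,2,3,0,1,2,5,6,0,6,5,2,1,0,3,2,1,4,3,2,5,2,3,4,1,2,3,0,1,2,5,6,5,2,1,0,3,2,1,4,3,2,5,2,3,4,1,2,3,0,1,2,5,6,5,2,1,0,3,2,1,4,3,2,5,2,3,4,1,2,3,0,1])
 (Tr.leaf [0,1,2,5,6,5,2,1,0,3,2,1,4,3,2,5,2,3,4,1,2,3,0,1,2,5,4,5,2,1,0,3,2,1,4,3,2,5,2,3,4,1,2,3,0,1,2,5,6,5,2,1,0,3,2,1,4,3,2,5,2,3,4,1,2,3,0,1,2,5,6,5,2,1,0,3,2,1,4,3,2,5,2,3,4,1,2,3,0,1,2,5,6,4,6,5,2,1,0,3,2,1,4,3,2,5,2,3,4,1,2,3,0,1,2,5,6,5,2,1,0,3,2,1,4,3,2,5,2,3,4,1,2,3]))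
 (Tr.node (Tr.leaf [4,3,2,5,2,3,4,1,2,3,0,1,2,5,2,5,2,1,0,3,2,1,4,3,2,5,2,3,4,1,2,3,0,1,2,5,6,5,2,1,0,3,2,1,4,3,2,5,2,3,4,1,2,3,0,1,2,5,6,5,2,1,0,3,2,1,4,3,2,5,2,3,4,1,2,3,0,1,2,5,6,2,6,5,2,1,0,3,2,1,4,3,2,5,2,3,4,1,2,3,0,1,2,5,6,5,2,1,0,3,2,1,4,3,2,5,2,3,4,1,2,3,0,1,2,5,6,5,2,1,0,3,2,1])
 (Tr.leaf [2,1,4,3,2,5,2,3,4,1,2,3,0,1,2,5,6,5,2,1,0,3,2,1,4,3,2,5,2,3,4,1,2,3,0,1,2,5,6,5,2,1,0,3,2,1,4,3,2,5,2,3,4,1,2,3,0,1,2,5,6,5,2,1,0,3,2,1,4,3,2,5,2,3,4,1,2,3,0,1,2,5,6,5,2,1,0,3,2,1,4,3,2,5,2,3,4,1,2,3,0,1,2,5,6,6,6,5,2,1,0,3,2,1,4,3,2,5,2,3,4,1,2,3,0,1,2,5,6,5,2,1,0,3])))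
 (Tr.node (Tr.node (Tr.leaf [4,1,2,3,0,1,2,5,1,5,2,1,0,3,2,1,4,3,2,5,2,3,4,1,2,3,0,1,2,5,6,5,2,1,0,3,2,1,4,3,2,5,2,3,4,1,2,3,0,1,2,5,6,5,2,1,0,3,2,1,4,3,2,5,2,3,4,1,2,3,0,1,2,5,6,1,6,5,2,1,0,3,2,1,4,3,2,5,2,3,4,1,2,3,0,1,2,5,6,5,2,1,0,3,2,1,4,3,2,5,2,3,4,1,2,3,0,1,2,5,6,5,2,1,0,3,2,1,4,3,2,5,2,3])
 (Tr.leaf [2,3,4,1,2,3,0,1,2,5,6,5,2,1,0,3,2,1,4,3,2,5,2,3,4,1,2,3,0,1,2,5,5,5,2,1,0,3,2,1,4,3,2,5,2,3,4,1,2,3,0,1,2,5,6,5,2,1,0,3,2,1,4,3,2,5,2,3,4,1,2,3,0,1,2,5,6,5,2,1,0,3,2,1,4,3,2,5,2,3,4,1,2,3,0,1,2,5,6,5,6,5,2,1,0,3,2,1,4,3,2,5,2,3,4,1,2,3,0,1,2,5,6,5,2,1,0,3,2,1,4,3,2,5]))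
 (Tr.node (Tr.leaf [2,1,0,3,2,1,4,3,2,5,2,3,4,1,2,3,0,1,2,5,3,5,2,1,0,3,2,1,4,3,2,5,2,3,4,1,2,3,0,1,2,5,6,5,2,1,0,3,2,1,4,3,2,5,2,3,4,1,2,3,0,1,2,5,6,5,2,1,0,3,2,1,4,3,2,5,2,3,4,1,2,3,0,1,2,5,6,3,6,5,2,1,0,3,2,1,4,3,2,5,2,3,4,1,2,3,0,1,2,5,6,5,2,1,0,3,2,1,4,3,2,5,2,3,4,1,2,3,0,1,2,5,6,5])
 (Tr.leaf [6,6,6,5,2,1,0,3,2,1,4,3,2,5,2,3,4,1,2,3,0,1,2,5,6,5,2,1,0,3,2,1,4,3,2,5,2,3,4,1,2,3,0,1,2,5,6,5,2,1,0,3,2,1,4,3,2,5,2,3,4,1,2,3,0,1,2,5,6,5,2,1,0,3,2,1,4,3,2,5,2,3,4,1,2,3,0,1,2,5,6,5,2,1,0,3,2,1,4,3,2,5,2,3,4,1,2,3,0,1,2,5,6,5,2,1,0,3,2,1,4,3,2,5,2,3,4,1,2,3,0,1,2,5])))))))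
 (Tr.node (Tr.node (Tr.node (Tr.node (Tr.node (Tr.node (Tr.leaf [2,0,2,0])
 (Tr.leaf [0,3,2,1,4,3,2,5,2,3,4,1,2,3,0,1,2,5,6,5,2,1,0,3,2,1,4,3,2,5,2,3,4,1,2,3,0,1,2,5,6,5,2,1,0,3,2,1,4,3,2,5,2,3,4,1,2,3,0,1,2,5,6,3,6,5,2,1,0,3,2,1,4,3,2,5,2,3,4,1,2,3,0,1,2,5,6,5,2,1,0,3,2,1,4,3,2,5,2,3,4,1,2,3,0,1,2,5,6,5,2,1,0,3,2,1,4,3,2,5,2,3,4,1,2,3,0,1,2,5,3,5,2,1]))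
 (Tr.node (Tr.leaf [2,3,0,1,2,5,6,5,2,1,0,3,2,1,4,3,2,5,2,3,4,1,2,3,0,1,2,5,6,5,2,1,0,3,2,1,4,3,2,5,2,3,4,1,2,3,0,1,2,5,6,1,6,5,2,1,0,3,2,1,4,3,2,5,2,3,4,1,2,3,0,1,2,5,6,5,2,1,0,3,2,1,4,3,2,5,2,3,4,1,2,3,0,1,2,5,6,5,2,1,0,3,2,1,4,3,2,5,2,3,4,1,2,3,0,1,2,5,1,5,2,1,0,3,2,1,4,3,2,5,2,3,4,1])
 (Tr.leaf [4,1,2,3,0,1,2,5,5,5,2,1,0,3,2,1,4,3,2,5,2,3,4,1,2,3,0,1,2,5,6,5,2,1,0,3,2,1,4,3,2,5,2,3,4,1,2,3,0,1,2,5,6,5,2,1,0,3,2,1,4,3,2,5,2,3,4,1,2,3,0,1,2,5,6,5,6,5,2,1,0,3,2,1,4,3,2,5,2,3,4,1,2,3,0,1,2,5,6,5,2,1,0,3,2,1,4,3,2,5,2,3,4,1,2,3,0,1,2,5,6,5,2,1,0,3,2,1,4,3,2,5,2,3])))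
 (Tr.node (Tr.node (Tr.leaf [6,5,2,1,0,3,2,1,4,3,2,5,2,3,4,1,2,3,0,1,2,5,6,5,2,1,0,3,2,1,4,3,2,5,2,3,4,1,2,3,0,1,2,5,6,0,6,5,2,1,0,3,2,1,4,3,2,5,2,3,4,1,2,3,0,1,2,5,6,5,2,1,0,3,2,1,4,3,2,5,2,3,4,1,2,3,0,1,2,5,6,5,2,1,0,3,2,1,4,3,2,5,2,3,4,1,2,3,0,1,2,5,0,5,2,1,0,3,2,1,4,3,2,5,2,3,4,1,2,3,0,1,2,5])
 (Tr.leaf [2,5,4,5,2,1,0,3,2,1,4,3,2,5,2,3,4,1,2,3,0,1,2,5,6,5,2,1,0,3,2,1,4,3,2,5,2,3,4,1,2,3,0,1,2,5,6,5,2,1,0,3,2,1,4,3,2,5,2,3,4,1,2,3,0,1,2,5,6,4,6,5,2,1,0,3,2,1,4,3,2,5,2,3,4,1,2,3,0,1,2,5,6,5,2,1,0,3,2,1,4,3,2,5,2,3,4,1,2,3,0,1,2,5,6,5,2,1,0,3,2,1,4,3,2,5,2,3,4,1,2,3,0,1]))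
 (Tr.node (Tr.leaf [2,5,2,3,4,1,2,3,0,1,2,5,6,5,2,1,0,3,2,1,4,3,2,5,2,3,4,1,2,3,0,1,2,5,6,5,2,1,0,3,2,1,4,3,2,5,2,3,4,1,2,3,0,1,2,5,6,2,6,5,2,1,0,3,2,1,4,3,2,5,2,3,4,1,2,3,0,1,2,5,6,5,2,1,0,3,2,1,4,3,2,5,2,3,4,1,2,3,0,1,2,5,6,5,2,1,0,3,2,1,4,3,2,5,2,3,4,1,2,3,0,1,2,5,2,5,2,1,0,3,2,1,4,3])
 (Tr.leaf [4,3,2,5,2,3,4,1,2,3,0,1,2,5,6,5,2,1,0,3,2,1,4,3,2,5,2,3,4,1,2,3,0,1,2,5,6,5,2,1,0,3,2,1,4,3,2,5,2,3,4,1,2,3,0,1,2,5,6,5,2,1,0,3,2,1,4,3,2,5,2,3,4,1,2,3,0,1,2,5,6,6,6,5,2,1,0,3,2,1,4,3,2,5,2,3,4,1,2,3,0,1,2,5,6,5,2,1,0,3,2,1,4,3,2,5,2,3,4,1,2,3,0,1,2,5,6,5,2,1,0,3,2,1]))))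
 (Tr.node (Tr.node (Tr.node (Tr.leaf [2,1,0,3,2,1,4,3,2,5,2,3,4,1,2,3,0,1,2,5,6,5,2,1,0,3,2,1,4,3,2,5,2,3,4,1,2,3,0,1,2,5,0,5,2,1,0,3,2,1,4,3,2,5,2,3,4,1,2,3,0,1,2,5,6,5,2,1,0,3,2,1,4,3,2,5,2,3,4,1,2,3,0,1,2,5,6,5,2,1,0,3,2,1,4,3,2,5,2,3,4,1,2,3,0,1,2,5,6,0,6,5,2,1,0,3,2,1,4,3,2,5,2,3,4,1,2,3,0,1,2,5,6,5])
 (Tr.leaf [4,6,5,2,1,0,3,2,1,4,3,2,5,2,3,4,1,2,3,0,1,2,5,6,5,2,1,0,3,2,1,4,3,2,5,2,3,4,1,2,3,0,1,2,5,6,5,2,1,0,3,2,1,4,3,2,5,2,3,4,1,2,3,0,1,2,5,4,5,2,1,0,3,2,1,4,3,2,5,2,3,4,1,2,3,0,1,2,5,6,5,2,1,0,3,2,1,4,3,2,5,2,3,4,1,2,3,0,1,2,5,6,5,2,1,0,3,2,1,4,3,2,5,2,3,4,1,2,3,0,1,2,5,6]))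
 (Tr.node (Tr.leaf [2,3,4,1,2,3,0,1,2,5,6,5,2,1,0,3,2,1,4,3,2,5,2,3,4,1,2,3,0,1,2,5,6,5,2,1,0,3,2,1,4,3,2,5,2,3,4,1,2,3,0,1,2,5,2,5,2,1,0,3,2,1,4,3,2,5,2,3,4,1,2,3,0,1,2,5,6,5,2,1,0,3,2,1,4,3,2,5,2,3,4,1,2,3,0,1,2,5,6,5,2,1,0,3,2,1,4,3,2,5,2,3,4,1,2,3,0,1,2,5,6,2,6,5,2,1,0,3,2,1,4,3,2,5])
 (Tr.leaf [2,3,4,1,2,3,0,1,2,5,6,5,6,5,2,1,0,3,2,1,4,3,2,5,2,3,4,1,2,3,0,1,2,5,6,5,2,1,0,3,2,1,4,3,2,5,2,3,4,1,2,3,0,1,2,5,6,5,2,1,0,3,2,1,4,3,2,5,2,3,4,1,2,3,0,1,2,5,5,5,2,1,0,3,2,1,4,3,2,5,2,3,4,1,2,3,0,1,2,5,6,5,2,1,0,3,2,1,4,3,2,5,2,3,4,1,2,3,0,1,2,5,6,5,2,1,0,3,2,1,4,3,2,5])))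
 (Tr.node (Tr.node (Tr.leaf [0,1,2,5,6,5,2,1,0,3,2,1,4,3,2,5,2,3,4,1,2,3,0,1,2,5,6,5,2,1,0,3,2,1,4,3,2,5,2,3,4,1,2,3,0,1,2,5,1,5,2,1,0,3,2,1,4,3,2,5,2,3,4,1,2,3,0,1,2,5,6,5,2,1,0,3,2,1,4,3,2,5,2,3,4,1,2,3,0,1,2,5,6,5,2,1,0,3,2,1,4,3,2,5,2,3,4,1,2,3,0,1,2,5,6,1,6,5,2,1,0,3,2,1,4,3,2,5,2,3,4,1,2,3])
 (Tr.leaf [0,1,2,5,6,4,6,5,2,1,0,3,2,1,4,3,2,5,2,3,4,1,2,3,0,1,2,5,6,5,2,1,0,3,2,1,4,3,2,5,2,3,4,1,2,3,0,1,2,5,6,5,2,1,0,3,2,1,4,3,2,5,2,3,4,1,2,3,0,1,2,5,4,5,2,1,0,3,2,1,4,3,2,5,2,3,4,1,2,3,0,1,2,5,6,5,2,1,0,3,2,1,4,3,2,5,2,3,4,1,2,3,0,1,2,5,6,5,2,1,0,3,2,1,4,3,2,5,2,3,4,1,2,3]))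
 (Tr.node (Tr.leaf [2,1,4,3,2,5,2,3,4,1,2,3,0,1,2,5,6,5,2,1,0,3,2,1,4,3,2,5,2,3,4,1,2,3,0,1,2,5,6,5,2,1,0,3,2,1,4,3,2,5,2,3,4,1,2,3,0,1,2,5,3,5,2,1,0,3,2,1,4,3,2,5,2,3,4,1,2,3,0,1,2,5,6,5,2,1,0,3,2,1,4,3,2,5,2,3,4,1,2,3,0,1,2,5,6,5,2,1,0,3,2,1,4,3,2,5,2,3,4,1,2,3,0,1,2,5,6,3,6,5,2,1,0,3])
 (Tr.leaf [2,1,4,3,2,5,2,3,4,1,2,3,0,1,2,5,6,6,6,5,2,1,0,3,2,1,4,3,2,5,2,3,4,1,2,3,0,1,2,5,6,5,2,1,0,3,2,1,4,3,2,5,2,3,4,1,2,3,0,1,2,5,6,5,2,1,0,3,2,1,4,3,2,5,2,3,4,1,2,3,0,1,2,5,6,5,2,1,0,3,2,1,4,3,2,5,2,3,4,1,2,3,0,1,2,5,6,5,2,1,0,3,2,1,4,3,2,5,2,3,4,1,2,3,0,1,2,5,6,5,2,1,0,3])))))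
 (Tr.node (Tr.node (Tr.node (Tr.node (Tr.leaf [6,3,6,3])
 (Tr.leaf [4,1,2,3,0,1,2,5,6,5,2,1,0,3,2,1,4,3,2,5,2,3,4,1,2,3,0,1,2,5,6,3,6,5,2,1,0,3,2,1,4,3,2,5,2,3,4,1,2,3,0,1,2,5,6,5,2,1,0,3,2,1,4,3,2,5,2,3,4,1,2,3,0,1,2,5,6,5,2,1,0,3,2,1,4,3,2,5,2,3,4,1,2,3,0,1,2,5,3,5,2,1,0,3,2,1,4,3,2,5,2,3,4,1,2,3,0,1,2,5,6,5,2,1,0,3,2,1,4,3,2,5,2,3]))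
 (Tr.node (Tr.leaf [0,3,2,1,4,3,2,5,2,3,4,1,2,3,0,1,2,5,6,1,6,5,2,1,0,3,2,1,4,3,2,5,2,3,4,1,2,3,0,1,2,5,6,5,2,1,0,3,2,1,4,3,2,5,2,3,4,1,2,3,0,1,2,5,6,5,2,1,0,3,2,1,4,3,2,5,2,3,4,1,2,3,0,1,2,5,1,5,2,1,0,3,2,1,4,3,2,5,2,3,4,1,2,3,0,1,2,5,6,5,2,1,0,3,2,1,4,3,2,5,2,3,4,1,2,3,0,1,2,5,6,5,2,1])
 (Tr.leaf [2,1,0,3,2,1,4,3,2,5,2,3,4,1,2,3,0,1,2,5,6,5,2,1,0,3,2,1,4,3,2,5,2,3,4,1,2,3,0,1,2,5,6,5,6,5,2,1,0,3,2,1,4,3,2,5,2,3,4,1,2,3,0,1,2,5,6,5,2,1,0,3,2,1,4,3,2,5,2,3,4,1,2,3,0,1,2,5,6,5,2,1,0,3,2,1,4,3,2,5,2,3,4,1,2,3,0,1,2,5,5,5,2,1,0,3,2,1,4,3,2,5,2,3,4,1,2,3,0,1,2,5,6,5])))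
 (Tr.node (Tr.node (Tr.leaf [2,5,2,3,4,1,2,3,0,1,2,5,6,0,6,5,2,1,0,3,2,1,4,3,2,5,2,3,4,1,2,3,0,1,2,5,6,5,2,1,0,3,2,1,4,3,2,5,2,3,4,1,2,3,0,1,2,5,6,5,2,1,0,3,2,1,4,3,2,5,2,3,4,1,2,3,0,1,2,5,0,5,2,1,0,3,2,1,4,3,2,5,2,3,4,1,2,3,0,1,2,5,6,5,2,1,0,3,2,1,4,3,2,5,2,3,4,1,2,3,0,1,2,5,6,5,2,1,0,3,2,1,4,3])
 (Tr.leaf [4,3,2,5,2,3,4,1,2,3,0,1,2,5,6,5,2,1,0,3,2,1,4,3,2,5,2,3,4,1,2,3,0,1,2,5,6,4,6,5,2,1,0,3,2,1,4,3,2,5,2,3,4,1,2,3,0,1,2,5,6,5,2,1,0,3,2,1,4,3,2,5,2,3,4,1,2,3,0,1,2,5,6,5,2,1,0,3,2,1,4,3,2,5,2,3,4,1,2,3,0,1,2,5,4,5,2,1,0,3,2,1,4,3,2,5,2,3,4,1,2,3,0,1,2,5,6,5,2,1,0,3,2,1]))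
 (Tr.node (Tr.leaf [2,5,6,5,2,1,0,3,2,1,4,3,2,5,2,3,4,1,2,3,0,1,2,5,6,2,6,5,2,1,0,3,2,1,4,3,2,5,2,3,4,1,2,3,0,1,2,5,6,5,2,1,0,3,2,1,4,3,2,5,2,3,4,1,2,3,0,1,2,5,6,5,2,1,0,3,2,1,4,3,2,5,2,3,4,1,2,3,0,1,2,5,2,5,2,1,0,3,2,1,4,3,2,5,2,3,4,1,2,3,0,1,2,5,6,5,2,1,0,3,2,1,4,3,2,5,2,3,4,1,2,3,0,1])
 (Tr.leaf [0,1,2,5,6,5,2,1,0,3,2,1,4,3,2,5,2,3,4,1,2,3,0,1,2,5,6,5,2,1,0,3,2,1,4,3,2,5,2,3,4,1,2,3,0,1,2,5,6,6,6,5,2,1,0,3,2,1,4,3,2,5,2,3,4,1,2,3,0,1,2,5,6,5,2,1,0,3,2,1,4,3,2,5,2,3,4,1,2,3,0,1,2,5,6,5,2,1,0,3,2,1,4,3,2,5,2,3,4,1,2,3,0,1,2,5,6,5,2,1,0,3,2,1,4,3,2,5,2,3,4,1,2,3]))))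
 (Tr.node (Tr.node (Tr.node (Tr.leaf [2,3,4,1,2,3,0,1,2,5,0,5,2,1,0,3,2,1,4,3,2,5,2,3,4,1,2,3,0,1,2,5,6,5,2,1,0,3,2,1,4,3,2,5,2,3,4,1,2,3,0,1,2,5,6,5,2,1,0,3,2,1,4,3,2,5,2,3,4,1,2,3,0,1,2,5,6,0,6,5,2,1,0,3,2,1,4,3,2,5,2,3,4,1,2,3,0,1,2,5,6,5,2,1,0,3,2,1,4,3,2,5,2,3,4,1,2,3,0,1,2,5,6,5,2,1,0,3,2,1,4,3,2,5])
 (Tr.leaf [2,5,2,3,4,1,2,3,0,1,2,5,6,5,2,1,0,3,2,1,4,3,2,5,2,3,4,1,2,3,0,1,2,5,4,5,2,1,0,3,2,1,4,3,2,5,2,3,4,1,2,3,0,1,2,5,6,5,2,1,0,3,2,1,4,3,2,5,2,3,4,1,2,3,0,1,2,5,6,5,2,1,0,3,2,1,4,3,2,5,2,3,4,1,2,3,0,1,2,5,6,4,6,5,2,1,0,3,2,1,4,3,2,5,2,3,4,1,2,3,0,1,2,5,6,5,2,1,0,3,2,1,4,3]))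
 (Tr.node (Tr.leaf [6,5,2,1,0,3,2,1,4,3,2,5,2,3,4,1,2,3,0,1,2,5,2,5,2,1,0,3,2,1,4,3,2,5,2,3,4,1,2,3,0,1,2,5,6,5,2,1,0,3,2,1,4,3,2,5,2,3,4,1,2,3,0,1,2,5,6,5,2,1,0,3,2,1,4,3,2,5,2,3,4,1,2,3,0,1,2,5,6,2,6,5,2,1,0,3,2,1,4,3,2,5,2,3,4,1,2,3,0,1,2,5,6,5,2,1,0,3,2,1,4,3,2,5,2,3,4,1,2,3,0,1,2,5])
 (Tr.leaf [2,5,6,5,2,1,0,3,2,1,4,3,2,5,2,3,4,1,2,3,0,1,2,5,6,5,2,1,0,3,2,1,4,3,2,5,2,3,4,1,2,3,0,1,2,5,6,5,2,1,0,3,2,1,4,3,2,5,2,3,4,1,2,3,0,1,2,5,6,5,2,1,0,3,2,1,4,3,2,5,2,3,4,1,2,3,0,1,2,5,6,5,2,1,0,3,2,1,4,3,2,5,2,3,4,1,2,3,0,1,2,5,6,6,6,5,2,1,0,3,2,1,4,3,2,5,2,3,4,1,2,3,0,1])))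
 (Tr.node (Tr.node (Tr.leaf [2,1,4,3,2,5,2,3,4,1,2,3,0,1,2,5,1,5,2,1,0,3,2,1,4,3,2,5,2,3,4,1,2,3,0,1,2,5,6,5,2,1,0,3,2,1,4,3,2,5,2,3,4,1,2,3,0,1,2,5,6,5,2,1,0,3,2,1,4,3,2,5,2,3,4,1,2,3,0,1,2,5,6,1,6,5,2,1,0,3,2,1,4,3,2,5,2,3,4,1,2,3,0,1,2,5,6,5,2,1,0,3,2,1,4,3,2,5,2,3,4,1,2,3,0,1,2,5,6,5,2,1,0,3])
 (Tr.leaf [0,3,2,1,4,3,2,5,2,3,4,1,2,3,0,1,2,5,6,5,2,1,0,3,2,1,4,3,2,5,2,3,4,1,2,3,0,1,2,5,5,5,2,1,0,3,2,1,4,3,2,5,2,3,4,1,2,3,0,1,2,5,6,5,2,1,0,3,2,1,4,3,2,5,2,3,4,1,2,3,0,1,2,5,6,5,2,1,0,3,2,1,4,3,2,5,2,3,4,1,2,3,0,1,2,5,6,5,6,5,2,1,0,3,2,1,4,3,2,5,2,3,4,1,2,3,0,1,2,5,6,5,2,1]))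
 (Tr.node (Tr.leaf [2,3,0,1,2,5,6,5,2,1,0,3,2,1,4,3,2,5,2,3,4,1,2,3,0,1,2,5,3,5,2,1,0,3,2,1,4,3,2,5,2,3,4,1,2,3,0,1,2,5,6,5,2,1,0,3,2,1,4,3,2,5,2,3,4,1,2,3,0,1,2,5,6,5,2,1,0,3,2,1,4,3,2,5,2,3,4,1,2,3,0,1,2,5,6,3,6,5,2,1,0,3,2,1,4,3,2,5,2,3,4,1,2,3,0,1,2,5,6,5,2,1,0,3,2,1,4,3,2,5,2,3,4,1])
 (Tr.leaf [6,6,6,5,2,1,0,3,2,1,4,3,2,5,2,3,4,1,2,3,0,1,2,5,6,5,2,1,0,3,2,1,4,3,2,5,2,3,4,1,2,3,0,1,2,5,6,5,2,1,0,3,2,1,4,3,2,5,2,3,4,1,2,3,0,1,2,5,6,5,2,1,0,3,2,1,4,3,2,5,2,3,4,1,2,3,0,1,2,5,6,5,2,1,0,3,2,1,4,3,2,5,2,3,4,1,2,3,0,1,2,5,6,5,2,1,0,3,2,1,4,3,2,5,2,3,4,1,2,3,0,1,2,5]))))))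
 (Tr.node (Tr.node (Tr.node (Tr.node (Tr.node (Tr.leaf [5,1,5,1])
 (Tr.leaf [2,5,6,5,2,1,0,3,2,1,4,3,2,5,2,3,4,1,2,3,0,1,2,5,6,5,2,1,0,3,2,1,4,3,2,5,2,3,4,1,2,3,0,1,2,5,6,3,6,5,2,1,0,3,2,1,4,3,2,5,2,3,4,1,2,3,0,1,2,5,6,5,2,1,0,3,2,1,4,3,2,5,2,3,4,1,2,3,0,1,2,5,6,5,2,1,0,3,2,1,4,3,2,5,2,3,4,1,2,3,0,1,2,5,3,5,2,1,0,3,2,1,4,3,2,5,2,3,4,1,2,3,0,1]))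
 (Tr.node (Tr.leaf [2,5,2,3,4,1,2,3,0,1,2,5,6,5,2,1,0,3,2,1,4,3,2,5,2,3,4,1,2,3,0,1,2,5,6,1,6,5,2,1,0,3,2,1,4,3,2,5,2,3,4,1,2,3,0,1,2,5,6,5,2,1,0,3,2,1,4,3,2,5,2,3,4,1,2,3,0,1,2,5,6,5,2,1,0,3,2,1,4,3,2,5,2,3,4,1,2,3,0,1,2,5,1,5,2,1,0,3,2,1,4,3,2,5,2,3,4,1,2,3,0,1,2,5,6,5,2,1,0,3,2,1,4,3])
 (Tr.leaf [4,3,2,5,2,3,4,1,2,3,0,1,2,5,6,5,2,1,0,3,2,1,4,3,2,5,2,3,4,1,2,3,0,1,2,5,6,5,2,1,0,3,2,1,4,3,2,5,2,3,4,1,2,3,0,1,2,5,6,5,6,5,2,1,0,3,2,1,4,3,2,5,2,3,4,1,2,3,0,1,2,5,6,5,2,1,0,3,2,1,4,3,2,5,2,3,4,1,2,3,0,1,2,5,6,5,2,1,0,3,2,1,4,3,2,5,2,3,4,1,2,3,0,1,2,5,5,5,2,1,0,3,2,1])))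
 (Tr.node (Tr.node (Tr.leaf [2,3,0,1,2,5,6,5,2,1,0,3,2,1,4,3,2,5,2,3,4,1,2,3,0,1,2,5,6,0,6,5,2,1,0,3,2,1,4,3,2,5,2,3,4,1,2,3,0,1,2,5,6,5,2,1,0,3,2,1,4,3,2,5,2,3,4,1,2,3,0,1,2,5,6,5,2,1,0,3,2,1,4,3,2,5,2,3,4,1,2,3,0,1,2,5,0,5,2,1,0,3,2,1,4,3,2,5,2,3,4,1,2,3,0,1,2,5,6,5,2,1,0,3,2,1,4,3,2,5,2,3,4,1])
 (Tr.leaf [4,1,2,3,0,1,2,5,6,5,2,1,0,3,2,1,4,3,2,5,2,3,4,1,2,3,0,1,2,5,6,5,2,1,0,3,2,1,4,3,2,5,2,3,4,1,2,3,0,1,2,5,6,4,6,5,2,1,0,3,2,1,4,3,2,5,2,3,4,1,2,3,0,1,2,5,6,5,2,1,0,3,2,1,4,3,2,5,2,3,4,1,2,3,0,1,2,5,6,5,2,1,0,3,2,1,4,3,2,5,2,3,4,1,2,3,0,1,2,5,4,5,2,1,0,3,2,1,4,3,2,5,2,3]))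
 (Tr.node (Tr.leaf [0,3,2,1,4,3,2,5,2,3,4,1,2,3,0,1,2,5,6,5,2,1,0,3,2,1,4,3,2,5,2,3,4,1,2,3,0,1,2,5,6,2,6,5,2,1,0,3,2,1,4,3,2,5,2,3,4,1,2,3,0,1,2,5,6,5,2,1,0,3,2,1,4,3,2,5,2,3,4,1,2,3,0,1,2,5,6,5,2,1,0,3,2,1,4,3,2,5,2,3,4,1,2,3,0,1,2,5,2,5,2,1,0,3,2,1,4,3,2,5,2,3,4,1,2,3,0,1,2,5,6,5,2,1])
 (Tr.leaf [2,1,0,3,2,1,4,3,2,5,2,3,4,1,2,3,0,1,2,5,6,5,2,1,0,3,2,1,4,3,2,5,2,3,4,1,2,3,0,1,2,5,6,5,2,1,0,3,2,1,4,3,2,5,2,3,4,1,2,3,0,1,2,5,6,6,6,5,2,1,0,3,2,1,4,3,2,5,2,3,4,1,2,3,0,1,2,5,6,5,2,1,0,3,2,1,4,3,2,5,2,3,4,1,2,3,0,1,2,5,6,5,2,1,0,3,2,1,4,3,2,5,2,3,4,1,2,3,0,1,2,5,6,5]))))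
 (Tr.node (Tr.node (Tr.node (Tr.leaf [0,1,2,5,6,5,2,1,0,3,2,1,4,3,2,5,2,3,4,1,2,3,0,1,2,5,0,5,2,1,0,3,2,1,4,3,2,5,2,3,4,1,2,3,0,1,2,5,6,5,2,1,0,3,2,1,4,3,2,5,2,3,4,1,2,3,0,1,2,5,6,5,2,1,0,3,2,1,4,3,2,5,2,3,4,1,2,3,0,1,2,5,6,0,6,5,2,1,0,3,2,1,4,3,2,5,2,3,4,1,2,3,0,1,2,5,6,5,2,1,0,3,2,1,4,3,2,5,2,3,4,1,2,3])
 (Tr.leaf [2,3,0,1,2,5,6,5,2,1,0,3,2,1,4,3,2,5,2,3,4,1,2,3,0,1,2,5,6,5,2,1,0,3,2,1,4,3,2,5,2,3,4,1,2,3,0,1,2,5,4,5,2,1,0,3,2,1,4,3,2,5,2,3,4,1,2,3,0,1,2,5,6,5,2,1,0,3,2,1,4,3,2,5,2,3,4,1,2,3,0,1,2,5,6,5,2,1,0,3,2,1,4,3,2,5,2,3,4,1,2,3,0,1,2,5,6,4,6,5,2,1,0,3,2,1,4,3,2,5,2,3,4,1]))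
 (Tr.node (Tr.leaf [2,1,4,3,2,5,2,3,4,1,2,3,0,1,2,5,6,5,2,1,0,3,2,1,4,3,2,5,2,3,4,1,2,3,0,1,2,5,2,5,2,1,0,3,2,1,4,3,2,5,2,3,4,1,2,3,0,1,2,5,6,5,2,1,0,3,2,1,4,3,2,5,2,3,4,1,2,3,0,1,2,5,6,5,2,1,0,3,2,1,4,3,2,5,2,3,4,1,2,3,0,1,2,5,6,2,6,5,2,1,0,3,2,1,4,3,2,5,2,3,4,1,2,3,0,1,2,5,6,5,2,1,0,3])
 (Tr.leaf [0,3,2,1,4,3,2,5,2,3,4,1,2,3,0,1,2,5,6,5,2,1,0,3,2,1,4,3,2,5,2,3,4,1,2,3,0,1,2,5,6,5,2,1,0,3,2,1,4,3,2,5,2,3,4,1,2,3,0,1,2,5,6,5,2,1,0,3,2,1,4,3,2,5,2,3,4,1,2,3,0,1,2,5,6,5,2,1,0,3,2,1,4,3,2,5,2,3,4,1,2,3,0,1,2,5,6,5,2,1,0,3,2,1,4,3,2,5,2,3,4,1,2,3,0,1,2,5,6,6,6,5,2,1])))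
 (Tr.node (Tr.node (Tr.leaf [2,3,4,1,2,3,0,1,2,5,6,5,2,1,0,3,2,1,4,3,2,5,2,3,4,1,2,3,0,1,2,5,1,5,2,1,0,3,2,1,4,3,2,5,2,3,4,1,2,3,0,1,2,5,6,5,2,1,0,3,2,1,4,3,2,5,2,3,4,1,2,3,0,1,2,5,6,5,2,1,0,3,2,1,4,3,2,5,2,3,4,1,2,3,0,1,2,5,6,1,6,5,2,1,0,3,2,1,4,3,2,5,2,3,4,1,2,3,0,1,2,5,6,5,2,1,0,3,2,1,4,3,2,5])
 (Tr.leaf [2,5,2,3,4,1,2,3,0,1,2,5,6,5,2,1,0,3,2,1,4,3,2,5,2,3,4,1,2,3,0,1,2,5,6,5,2,1,0,3,2,1,4,3,2,5,2,3,4,1,2,3,0,1,2,5,5,5,2,1,0,3,2,1,4,3,2,5,2,3,4,1,2,3,0,1,2,5,6,5,2,1,0,3,2,1,4,3,2,5,2,3,4,1,2,3,0,1,2,5,6,5,2,1,0,3,2,1,4,3,2,5,2,3,4,1,2,3,0,1,2,5,6,5,6,5,2,1,0,3,2,1,4,3]))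
 (Tr.node (Tr.leaf [6,5,2,1,0,3,2,1,4,3,2,5,2,3,4,1,2,3,0,1,2,5,6,5,2,1,0,3,2,1,4,3,2,5,2,3,4,1,2,3,0,1,2,5,3,5,2,1,0,3,2,1,4,3,2,5,2,3,4,1,2,3,0,1,2,5,6,5,2,1,0,3,2,1,4,3,2,5,2,3,4,1,2,3,0,1,2,5,6,5,2,1,0,3,2,1,4,3,2,5,2,3,4,1,2,3,0,1,2,5,6,3,6,5,2,1,0,3,2,1,4,3,2,5,2,3,4,1,2,3,0,1,2,5])
 (Tr.leaf [6,6,6,5,2,1,0,3,2,1,4,3,2,5,2,3,4,1,2,3,0,1,2,5,6,5,2,1,0,3,2,1,4,3,2,5,2,3,4,1,2,3,0,1,2,5,6,5,2,1,0,3,2,1,4,3,2,5,2,3,4,1,2,3,0,1,2,5,6,5,2,1,0,3,2,1,4,3,2,5,2,3,4,1,2,3,0,1,2,5,6,5,2,1,0,3,2,1,4,3,2,5,2,3,4,1,2,3,0,1,2,5,6,5,2,1,0,3,2,1,4,3,2,5,2,3,4,1,2,3,0,1,2,5])))))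
 (Tr.node (Tr.node (Tr.node (Tr.node (Tr.leaf [4,3,2,5,2,3,4,1,2,3,0,1,2,5,6,5,2,1,0,3,2,1,4,3,2,5,2,3,4,1,2,3,0,1,2,5,6,5,2,1,0,3,2,1,4,3,2,5,2,3,4,1,2,3,0,1,2,5,0,5,2,1,0,3,2,1,4,3,2,5,2,3,4,1,2,3,0,1,2,5,6,5,2,1,0,3,2,1,4,3,2,5,2,3,4,1,2,3,0,1,2,5,6,5,2,1,0,3,2,1,4,3,2,5,2,3,4,1,2,3,0,1,2,5,6,0,6,5,2,1,0,3,2,1])
 (Tr.leaf [4,3,2,5,2,3,4,1,2,3,0,1,2,5,6,3,6,5,2,1,0,3,2,1,4,3,2,5,2,3,4,1,2,3,0,1,2,5,6,5,2,1,0,3,2,1,4,3,2,5,2,3,4,1,2,3,0,1,2,5,6,5,2,1,0,3,2,1,4,3,2,5,2,3,4,1,2,3,0,1,2,5,3,5,2,1,0,3,2,1,4,3,2,5,2,3,4,1,2,3,0,1,2,5,6,5,2,1,0,3,2,1,4,3,2,5,2,3,4,1,2,3,0,1,2,5,6,5,2,1,0,3,2,1]))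
 (Tr.node (Tr.leaf [2,5,6,1,6,5,2,1,0,3,2,1,4,3,2,5,2,3,4,1,2,3,0,1,2,5,6,5,2,1,0,3,2,1,4,3,2,5,2,3,4,1,2,3,0,1,2,5,6,5,2,1,0,3,2,1,4,3,2,5,2,3,4,1,2,3,0,1,2,5,1,5,2,1,0,3,2,1,4,3,2,5,2,3,4,1,2,3,0,1,2,5,6,5,2,1,0,3,2,1,4,3,2,5,2,3,4,1,2,3,0,1,2,5,6,5,2,1,0,3,2,1,4,3,2,5,2,3,4,1,2,3,0,1])
 (Tr.leaf [0,1,2,5,6,5,2,1,0,3,2,1,4,3,2,5,2,3,4,1,2,3,0,1,2,5,6,5,6,5,2,1,0,3,2,1,4,3,2,5,2,3,4,1,2,3,0,1,2,5,6,5,2,1,0,3,2,1,4,3,2,5,2,3,4,1,2,3,0,1,2,5,6,5,2,1,0,3,2,1,4,3,2,5,2,3,4,1,2,3,0,1,2,5,5,5,2,1,0,3,2,1,4,3,2,5,2,3,4,1,2,3,0,1,2,5,6,5,2,1,0,3,2,1,4,3,2,5,2,3,4,1,2,3])))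
 (Tr.node (Tr.node (Tr.leaf [2,1,0,3,2,1,4,3,2,5,2,3,4,1,2,3,0,1,2,5,6,5,2,1,0,3,2,1,4,3,2,5,2,3,4,1,2,3,0,1,2,5,6,5,2,1,0,3,2,1,4,3,2,5,2,3,4,1,2,3,0,1,2,5,1,5,2,1,0,3,2,1,4,3,2,5,2,3,4,1,2,3,0,1,2,5,6,5,2,1,0,3,2,1,4,3,2,5,2,3,4,1,2,3,0,1,2,5,6,5,2,1,0,3,2,1,4,3,2,5,2,3,4,1,2,3,0,1,2,5,6,1,6,5])
 (Tr.leaf [2,1,0,3,2,1,4,3,2,5,2,3,4,1,2,3,0,1,2,5,6,4,6,5,2,1,0,3,2,1,4,3,2,5,2,3,4,1,2,3,0,1,2,5,6,5,2,1,0,3,2,1,4,3,2,5,2,3,4,1,2,3,0,1,2,5,6,5,2,1,0,3,2,1,4,3,2,5,2,3,4,1,2,3,0,1,2,5,4,5,2,1,0,3,2,1,4,3,2,5,2,3,4,1,2,3,0,1,2,5,6,5,2,1,0,3,2,1,4,3,2,5,2,3,4,1,2,3,0,1,2,5,6,5]))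
 (Tr.node (Tr.leaf [4,1,2,3,0,1,2,5,6,2,6,5,2,1,0,3,2,1,4,3,2,5,2,3,4,1,2,3,0,1,2,5,6,5,2,1,0,3,2,1,4,3,2,5,2,3,4,1,2,3,0,1,2,5,6,5,2,1,0,3,2,1,4,3,2,5,2,3,4,1,2,3,0,1,2,5,2,5,2,1,0,3,2,1,4,3,2,5,2,3,4,1,2,3,0,1,2,5,6,5,2,1,0,3,2,1,4,3,2,5,2,3,4,1,2,3,0,1,2,5,6,5,2,1,0,3,2,1,4,3,2,5,2,3])
 (Tr.leaf [2,3,4,1,2,3,0,1,2,5,6,5,2,1,0,3,2,1,4,3,2,5,2,3,4,1,2,3,0,1,2,5,6,6,6,5,2,1,0,3,2,1,4,3,2,5,2,3,4,1,2,3,0,1,2,5,6,5,2,1,0,3,2,1,4,3,2,5,2,3,4,1,2,3,0,1,2,5,6,5,2,1,0,3,2,1,4,3,2,5,2,3,4,1,2,3,0,1,2,5,6,5,2,1,0,3,2,1,4,3,2,5,2,3,4,1,2,3,0,1,2,5,6,5,2,1,0,3,2,1,4,3,2,5]))))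
 (Tr.node (Tr.node (Tr.node (Tr.leaf [2,1,4,3,2,5,2,3,4,1,2,3,0,1,2,5,6,5,2,1,0,3,2,1,4,3,2,5,2,3,4,1,2,3,0,1,2,5,6,5,2,1,0,3,2,1,4,3,2,5,2,3,4,1,2,3,0,1,2,5,6,0,6,5,2,1,0,3,2,1,4,3,2,5,2,3,4,1,2,3,0,1,2,5,6,5,2,1,0,3,2,1,4,3,2,5,2,3,4,1,2,3,0,1,2,5,6,5,2,1,0,3,2,1,4,3,2,5,2,3,4,1,2,3,0,1,2,5,0,5,2,1,0,3])
 (Tr.leaf [0,3,2,1,4,3,2,5,2,3,4,1,2,3,0,1,2,5,4,5,2,1,0,3,2,1,4,3,2,5,2,3,4,1,2,3,0,1,2,5,6,5,2,1,0,3,2,1,4,3,2,5,2,3,4,1,2,3,0,1,2,5,6,5,2,1,0,3,2,1,4,3,2,5,2,3,4,1,2,3,0,1,2,5,6,4,6,5,2,1,0,3,2,1,4,3,2,5,2,3,4,1,2,3,0,1,2,5,6,5,2,1,0,3,2,1,4,3,2,5,2,3,4,1,2,3,0,1,2,5,6,5,2,1]))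
 (Tr.node (Tr.leaf [2,3,0,1,2,5,2,5,2,1,0,3,2,1,4,3,2,5,2,3,4,1,2,3,0,1,2,5,6,5,2,1,0,3,2,1,4,3,2,5,2,3,4,1,2,3,0,1,2,5,6,5,2,1,0,3,2,1,4,3,2,5,2,3,4,1,2,3,0,1,2,5,6,2,6,5,2,1,0,3,2,1,4,3,2,5,2,3,4,1,2,3,0,1,2,5,6,5,2,1,0,3,2,1,4,3,2,5,2,3,4,1,2,3,0,1,2,5,6,5,2,1,0,3,2,1,4,3,2,5,2,3,4,1])
 (Tr.leaf [4,1,2,3,0,1,2,5,6,5,2,1,0,3,2,1,4,3,2,5,2,3,4,1,2,3,0,1,2,5,6,5,2,1,0,3,2,1,4,3,2,5,2,3,4,1,2,3,0,1,2,5,6,5,2,1,0,3,2,1,4,3,2,5,2,3,4,1,2,3,0,1,2,5,6,5,2,1,0,3,2,1,4,3,2,5,2,3,4,1,2,3,0,1,2,5,6,6,6,5,2,1,0,3,2,1,4,3,2,5,2,3,4,1,2,3,0,1,2,5,6,5,2,1,0,3,2,1,4,3,2,5,2,3])))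
 (Tr.node (Tr.node (Tr.leaf [1,5,2,1,0,3,2,1,4,3,2,5,2,3,4,1,2,3,0,1,2,5,6,5,2,1,0,3,2,1,4,3,2,5,2,3,4,1,2,3,0,1,2,5,6,5,2,1,0,3,2,1,4,3,2,5,2,3,4,1,2,3,0,1,2,5,6,1,6,5,2,1,0,3,2,1,4,3,2,5,2,3,4,1,2,3,0,1,2,5,6,5,2,1,0,3,2,1,4,3,2,5,2,3,4,1,2,3,0,1,2,5,6,5,2,1,0,3,2,1,4,3,2,5,2,3,4,1,2,3,0,1,2,5])
 (Tr.leaf [2,5,6,5,2,1,0,3,2,1,4,3,2,5,2,3,4,1,2,3,0,1,2,5,5,5,2,1,0,3,2,1,4,3,2,5,2,3,4,1,2,3,0,1,2,5,6,5,2,1,0,3,2,1,4,3,2,5,2,3,4,1,2,3,0,1,2,5,6,5,2,1,0,3,2,1,4,3,2,5,2,3,4,1,2,3,0,1,2,5,6,5,6,5,2,1,0,3,2,1,4,3,2,5,2,3,4,1,2,3,0,1,2,5,6,5,2,1,0,3,2,1,4,3,2,5,2,3,4,1,2,3,0,1]))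
 (Tr.node (Tr.leaf [2,5,2,3,4,1,2,3,0,1,2,5,3,5,2,1,0,3,2,1,4,3,2,5,2,3,4,1,2,3,0,1,2,5,6,5,2,1,0,3,2,1,4,3,2,5,2,3,4,1,2,3,0,1,2,5,6,5,2,1,0,3,2,1,4,3,2,5,2,3,4,1,2,3,0,1,2,5,6,3,6,5,2,1,0,3,2,1,4,3,2,5,2,3,4,1,2,3,0,1,2,5,6,5,2,1,0,3,2,1,4,3,2,5,2,3,4,1,2,3,0,1,2,5,6,5,2,1,0,3,2,1,4,3])
 (Tr.leaf [6,6,6,5,2,1,0,3,2,1,4,3,2,5,2,3,4,1,2,3,0,1,2,5,6,5,2,1,0,3,2,1,4,3,2,5,2,3,4,1,2,3,0,1,2,5,6,5,2,1,0,3,2,1,4,3,2,5,2,3,4,1,2,3,0,1,2,5,6,5,2,1,0,3,2,1,4,3,2,5,2,3,4,1,2,3,0,1,2,5,6,5,2,1,0,3,2,1,4,3,2,5,2,3,4,1,2,3,0,1,2,5,6,5,2,1,0,3,2,1,4,3,2,5,2,3,4,1,2,3,0,1,2,5]))))))))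
 (Tr.node (Tr.node (Tr.node (Tr.node (Tr.node (Tr.node (Tr.node (Tr.leaf [6,6])
 (Tr.leaf [3,5,2,1,0,3,2,1,4,3,2,5,2,3,4,1,2,3,0,1,2,5,6,5,2,1,0,3,2,1,4,3,2,5,2,3,4,1,2,3,0,1,2,5,6,5,2,1,0,3,2,1,4,3,2,5,2,3,4,1,2,3,0,1,2,5,6,3,6,5,2,1,0,3,2,1,4,3,2,5,2,3,4,1,2,3,0,1,2,5,6,5,2,1,0,3,2,1,4,3,2,5,2,3,4,1,2,3,0,1,2,5,6,5,2,1,0,3,2,1,4,3,2,5,2,3,4,1,2,3,0,1,2,5]))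
 (Tr.node (Tr.leaf [2,3,4,1,2,3,0,1,2,5,6,5,2,1,0,3,2,1,4,3,2,5,2,3,4,1,2,3,0,1,2,5,6,5,2,1,0,3,2,1,4,3,2,5,2,3,4,1,2,3,0,1,2,5,6,1,6,5,2,1,0,3,2,1,4,3,2,5,2,3,4,1,2,3,0,1,2,5,6,5,2,1,0,3,2,1,4,3,2,5,2,3,4,1,2,3,0,1,2,5,6,5,2,1,0,3,2,1,4,3,2,5,2,3,4,1,2,3,0,1,2,5,1,5,2,1,0,3,2,1,4,3,2,5])
 (Tr.leaf [2,5,2,3,4,1,2,3,0,1,2,5,5,5,2,1,0,3,2,1,4,3,2,5,2,3,4,1,2,3,0,1,2,5,6,5,2,1,0,3,2,1,4,3,2,5,2,3,4,1,2,3,0,1,2,5,6,5,2,1,0,3,2,1,4,3,2,5,2,3,4,1,2,3,0,1,2,5,6,5,6,5,2,1,0,3,2,1,4,3,2,5,2,3,4,1,2,3,0,1,2,5,6,5,2,1,0,3,2,1,4,3,2,5,2,3,4,1,2,3,0,1,2,5,6,5,2,1,0,3,2,1,4,3])))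
 (Tr.node (Tr.node (Tr.leaf [0,1,2,5,6,5,2,1,0,3,2,1,4,3,2,5,2,3,4,1,2,3,0,1,2,5,6,5,2,1,0,3,2,1,4,3,2,5,2,3,4,1,2,3,0,1,2,5,6,0,6,5,2,1,0,3,2,1,4,3,2,5,2,3,4,1,2,3,0,1,2,5,6,5,2,1,0,3,2,1,4,3,2,5,2,3,4,1,2,3,0,1,2,5,6,5,2,1,0,3,2,1,4,3,2,5,2,3,4,1,2,3,0,1,2,5,0,5,2,1,0,3,2,1,4,3,2,5,2,3,4,1,2,3])
 (Tr.leaf [2,3,0,1,2,5,4,5,2,1,0,3,2,1,4,3,2,5,2,3,4,1,2,3,0,1,2,5,6,5,2,1,0,3,2,1,4,3,2,5,2,3,4,1,2,3,0,1,2,5,6,5,2,1,0,3,2,1,4,3,2,5,2,3,4,1,2,3,0,1,2,5,6,4,6,5,2,1,0,3,2,1,4,3,2,5,2,3,4,1,2,3,0,1,2,5,6,5,2,1,0,3,2,1,4,3,2,5,2,3,4,1,2,3,0,1,2,5,6,5,2,1,0,3,2,1,4,3,2,5,2,3,4,1]))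
 (Tr.node (Tr.leaf [2,1,4,3,2,5,2,3,4,1,2,3,0,1,2,5,6,5,2,1,0,3,2,1,4,3,2,5,2,3,4,1,2,3,0,1,2,5,6,5,2,1,0,3,2,1,4,3,2,5,2,3,4,1,2,3,0,1,2,5,6,2,6,5,2,1,0,3,2,1,4,3,2,5,2,3,4,1,2,3,0,1,2,5,6,5,2,1,0,3,2,1,4,3,2,5,2,3,4,1,2,3,0,1,2,5,6,5,2,1,0,3,2,1,4,3,2,5,2,3,4,1,2,3,0,1,2,5,2,5,2,1,0,3])
 (Tr.leaf [0,3,2,1,4,3,2,5,2,3,4,1,2,3,0,1,2,5,6,5,2,1,0,3,2,1,4,3,2,5,2,3,4,1,2,3,0,1,2,5,6,5,2,1,0,3,2,1,4,3,2,5,2,3,4,1,2,3,0,1,2,5,6,5,2,1,0,3,2,1,4,3,2,5,2,3,4,1,2,3,0,1,2,5,6,6,6,5,2,1,0,3,2,1,4,3,2,5,2,3,4,1,2,3,0,1,2,5,6,5,2,1,0,3,2,1,4,3,2,5,2,3,4,1,2,3,0,1,2,5,6,5,2,1]))))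
 (Tr.node (Tr.node (Tr.node (Tr.leaf [2,5,6,5,2,1,0,3,2,1,4,3,2,5,2,3,4,1,2,3,0,1,2,5,6,5,2,1,0,3,2,1,4,3,2,5,2,3,4,1,2,3,0,1,2,5,0,5,2,1,0,3,2,1,4,3,2,5,2,3,4,1,2,3,0,1,2,5,6,5,2,1,0,3,2,1,4,3,2,5,2,3,4,1,2,3,0,1,2,5,6,5,2,1,0,3,2,1,4,3,2,5,2,3,4,1,2,3,0,1,2,5,6,0,6,5,2,1,0,3,2,1,4,3,2,5,2,3,4,1,2,3,0,1])
 (Tr.leaf [2,5,6,3,6,5,2,1,0,3,2,1,4,3,2,5,2,3,4,1,2,3,0,1,2,5,6,5,2,1,0,3,2,1,4,3,2,5,2,3,4,1,2,3,0,1,2,5,6,5,2,1,0,3,2,1,4,3,2,5,2,3,4,1,2,3,0,1,2,5,3,5,2,1,0,3,2,1,4,3,2,5,2,3,4,1,2,3,0,1,2,5,6,5,2,1,0,3,2,1,4,3,2,5,2,3,4,1,2,3,0,1,2,5,6,5,2,1,0,3,2,1,4,3,2,5,2,3,4,1,2,3,0,1]))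
 (Tr.node (Tr.leaf [4,3,2,5,2,3,4,1,2,3,0,1,2,5,6,5,2,1,0,3,2,1,4,3,2,5,2,3,4,1,2,3,0,1,2,5,6,5,2,1,0,3,2,1,4,3,2,5,2,3,4,1,2,3,0,1,2,5,2,5,2,1,0,3,2,1,4,3,2,5,2,3,4,1,2,3,0,1,2,5,6,5,2,1,0,3,2,1,4,3,2,5,2,3,4,1,2,3,0,1,2,5,6,5,2,1,0,3,2,1,4,3,2,5,2,3,4,1,2,3,0,1,2,5,6,2,6,5,2,1,0,3,2,1])
 (Tr.leaf [4,3,2,5,2,3,4,1,2,3,0,1,2,5,6,5,6,5,2,1,0,3,2,1,4,3,2,5,2,3,4,1,2,3,0,1,2,5,6,5,2,1,0,3,2,1,4,3,2,5,2,3,4,1,2,3,0,1,2,5,6,5,2,1,0,3,2,1,4,3,2,5,2,3,4,1,2,3,0,1,2,5,5,5,2,1,0,3,2,1,4,3,2,5,2,3,4,1,2,3,0,1,2,5,6,5,2,1,0,3,2,1,4,3,2,5,2,3,4,1,2,3,0,1,2,5,6,5,2,1,0,3,2,1])))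
 (Tr.node (Tr.node (Tr.leaf [4,1,2,3,0,1,2,5,6,5,2,1,0,3,2,1,4,3,2,5,2,3,4,1,2,3,0,1,2,5,6,5,2,1,0,3,2,1,4,3,2,5,2,3,4,1,2,3,0,1,2,5,1,5,2,1,0,3,2,1,4,3,2,5,2,3,4,1,2,3,0,1,2,5,6,5,2,1,0,3,2,1,4,3,2,5,2,3,4,1,2,3,0,1,2,5,6,5,2,1,0,3,2,1,4,3,2,5,2,3,4,1,2,3,0,1,2,5,6,1,6,5,2,1,0,3,2,1,4,3,2,5,2,3])
 (Tr.leaf [4,1,2,3,0,1,2,5,6,4,6,5,2,1,0,3,2,1,4,3,2,5,2,3,4,1,2,3,0,1,2,5,6,5,2,1,0,3,2,1,4,3,2,5,2,3,4,1,2,3,0,1,2,5,6,5,2,1,0,3,2,1,4,3,2,5,2,3,4,1,2,3,0,1,2,5,4,5,2,1,0,3,2,1,4,3,2,5,2,3,4,1,2,3,0,1,2,5,6,5,2,1,0,3,2,1,4,3,2,5,2,3,4,1,2,3,0,1,2,5,6,5,2,1,0,3,2,1,4,3,2,5,2,3]))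
 (Tr.node (Tr.leaf [2,1,0,3,2,1,4,3,2,5,2,3,4,1,2,3,0,1,2,5,6,5,2,1,0,3,2,1,4,3,2,5,2,3,4,1,2,3,0,1,2,5,6,5,2,1,0,3,2,1,4,3,2,5,2,3,4,1,2,3,0,1,2,5,3,5,2,1,0,3,2,1,4,3,2,5,2,3,4,1,2,3,0,1,2,5,6,5,2,1,0,3,2,1,4,3,2,5,2,3,4,1,2,3,0,1,2,5,6,5,2,1,0,3,2,1,4,3,2,5,2,3,4,1,2,3,0,1,2,5,6,3,6,5])
 (Tr.leaf [2,1,0,3,2,1,4,3,2,5,2,3,4,1,2,3,0,1,2,5,6,6,6,5,2,1,0,3,2,1,4,3,2,5,2,3,4,1,2,3,0,1,2,5,6,5,2,1,0,3,2,1,4,3,2,5,2,3,4,1,2,3,0,1,2,5,6,5,2,1,0,3,2,1,4,3,2,5,2,3,4,1,2,3,0,1,2,5,6,5,2,1,0,3,2,1,4,3,2,5,2,3,4,1,2,3,0,1,2,5,6,5,2,1,0,3,2,1,4,3,2,5,2,3,4,1,2,3,0,1,2,5,6,5])))))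
 (Tr.node (Tr.node (Tr.node (Tr.node (Tr.leaf [4,3,4,3,4,3])
 (Tr.leaf [2,5,2,3,4,1,2,3,0,1,2,5,6,5,2,1,0,3,2,1,4,3,2,5,2,3,4,1,2,3,0,1,2,5,6,3,6,5,2,1,0,3,2,1,4,3,2,5,2,3,4,1,2,3,0,1,2,5,6,5,2,1,0,3,2,1,4,3,2,5,2,3,4,1,2,3,0,1,2,5,6,5,2,1,0,3,2,1,4,3,2,5,2,3,4,1,2,3,0,1,2,5,3,5,2,1,0,3,2,1,4,3,2,5,2,3,4,1,2,3,0,1,2,5,6,5,2,1,0,3,2,1,4,3]))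
 (Tr.node (Tr.leaf [6,5,2,1,0,3,2,1,4,3,2,5,2,3,4,1,2,3,0,1,2,5,6,1,6,5,2,1,0,3,2,1,4,3,2,5,2,3,4,1,2,3,0,1,2,5,6,5,2,1,0,3,2,1,4,3,2,5,2,3,4,1,2,3,0,1,2,5,6,5,2,1,0,3,2,1,4,3,2,5,2,3,4,1,2,3,0,1,2,5,1,5,2,1,0,3,2,1,4,3,2,5,2,3,4,1,2,3,0,1,2,5,6,5,2,1,0,3,2,1,4,3,2,5,2,3,4,1,2,3,0,1,2,5])
 (Tr.leaf [2,5,6,5,2,1,0,3,2,1,4,3,2,5,2,3,4,1,2,3,0,1,2,5,6,5,2,1,0,3,2,1,4,3,2,5,2,3,4,1,2,3,0,1,2,5,6,5,6,5,2,1,0,3,2,1,4,3,2,5,2,3,4,1,2,3,0,1,2,5,6,5,2,1,0,3,2,1,4,3,2,5,2,3,4,1,2,3,0,1,2,5,6,5,2,1,0,3,2,1,4,3,2,5,2,3,4,1,2,3,0,1,2,5,5,5,2,1,0,3,2,1,4,3,2,5,2,3,4,1,2,3,0,1])))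
 (Tr.node (Tr.node (Tr.leaf [2,1,4,3,2,5,2,3,4,1,2,3,0,1,2,5,6,0,6,5,2,1,0,3,2,1,4,3,2,5,2,3,4,1,2,3,0,1,2,5,6,5,2,1,0,3,2,1,4,3,2,5,2,3,4,1,2,3,0,1,2,5,6,5,2,1,0,3,2,1,4,3,2,5,2,3,4,1,2,3,0,1,2,5,0,5,2,1,0,3,2,1,4,3,2,5,2,3,4,1,2,3,0,1,2,5,6,5,2,1,0,3,2,1,4,3,2,5,2,3,4,1,2,3,0,1,2,5,6,5,2,1,0,3])
 (Tr.leaf [0,3,2,1,4,3,2,5,2,3,4,1,2,3,0,1,2,5,6,5,2,1,0,3,2,1,4,3,2,5,2,3,4,1,2,3,0,1,2,5,6,4,6,5,2,1,0,3,2,1,4,3,2,5,2,3,4,1,2,3,0,1,2,5,6,5,2,1,0,3,2,1,4,3,2,5,2,3,4,1,2,3,0,1,2,5,6,5,2,1,0,3,2,1,4,3,2,5,2,3,4,1,2,3,0,1,2,5,4,5,2,1,0,3,2,1,4,3,2,5,2,3,4,1,2,3,0,1,2,5,6,5,2,1]))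
 (Tr.node (Tr.leaf [2,3,0,1,2,5,6,5,2,1,0,3,2,1,4,3,2,5,2,3,4,1,2,3,0,1,2,5,6,2,6,5,2,1,0,3,2,1,4,3,2,5,2,3,4,1,2,3,0,1,2,5,6,5,2,1,0,3,2,1,4,3,2,5,2,3,4,1,2,3,0,1,2,5,6,5,2,1,0,3,2,1,4,3,2,5,2,3,4,1,2,3,0,1,2,5,2,5,2,1,0,3,2,1,4,3,2,5,2,3,4,1,2,3,0,1,2,5,6,5,2,1,0,3,2,1,4,3,2,5,2,3,4,1])
 (Tr.leaf [4,1,2,3,0,1,2,5,6,5,2,1,0,3,2,1,4,3,2,5,2,3,4,1,2,3,0,1,2,5,6,5,2,1,0,3,2,1,4,3,2,5,2,3,4,1,2,3,0,1,2,5,6,6,6,5,2,1,0,3,2,1,4,3,2,5,2,3,4,1,2,3,0,1,2,5,6,5,2,1,0,3,2,1,4,3,2,5,2,3,4,1,2,3,0,1,2,5,6,5,2,1,0,3,2,1,4,3,2,5,2,3,4,1,2,3,0,1,2,5,6,5,2,1,0,3,2,1,4,3,2,5,2,3]))))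
 (Tr.node (Tr.node (Tr.node (Tr.leaf [4,3,2,5,2,3,4,1,2,3,0,1,2,5,0,5,2,1,0,3,2,1,4,3,2,5,2,3,4,1,2,3,0,1,2,5,6,5,2,1,0,3,2,1,4,3,2,5,2,3,4,1,2,3,0,1,2,5,6,5,2,1,0,3,2,1,4,3,2,5,2,3,4,1,2,3,0,1,2,5,6,0,6,5,2,1,0,3,2,1,4,3,2,5,2,3,4,1,2,3,0,1,2,5,6,5,2,1,0,3,2,1,4,3,2,5,2,3,4,1,2,3,0,1,2,5,6,5,2,1,0,3,2,1])
 (Tr.leaf [2,1,4,3,2,5,2,3,4,1,2,3,0,1,2,5,6,5,2,1,0,3,2,1,4,3,2,5,2,3,4,1,2,3,0,1,2,5,4,5,2,1,0,3,2,1,4,3,2,5,2,3,4,1,2,3,0,1,2,5,6,5,2,1,0,3,2,1,4,3,2,5,2,3,4,1,2,3,0,1,2,5,6,5,2,1,0,3,2,1,4,3,2,5,2,3,4,1,2,3,0,1,2,5,6,4,6,5,2,1,0,3,2,1,4,3,2,5,2,3,4,1,2,3,0,1,2,5,6,5,2,1,0,3]))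
 (Tr.node (Tr.leaf [0,1,2,5,6,5,2,1,0,3,2,1,4,3,2,5,2,3,4,1,2,3,0,1,2,5,2,5,2,1,0,3,2,1,4,3,2,5,2,3,4,1,2,3,0,1,2,5,6,5,2,1,0,3,2,1,4,3,2,5,2,3,4,1,2,3,0,1,2,5,6,5,2,1,0,3,2,1,4,3,2,5,2,3,4,1,2,3,0,1,2,5,6,2,6,5,2,1,0,3,2,1,4,3,2,5,2,3,4,1,2,3,0,1,2,5,6,5,2,1,0,3,2,1,4,3,2,5,2,3,4,1,2,3])
 (Tr.leaf [2,3,0,1,2,5,6,5,2,1,0,3,2,1,4,3,2,5,2,3,4,1,2,3,0,1,2,5,6,5,2,1,0,3,2,1,4,3,2,5,2,3,4,1,2,3,0,1,2,5,6,5,2,1,0,3,2,1,4,3,2,5,2,3,4,1,2,3,0,1,2,5,6,5,2,1,0,3,2,1,4,3,2,5,2,3,4,1,2,3,0,1,2,5,6,5,2,1,0,3,2,1,4,3,2,5,2,3,4,1,2,3,0,1,2,5,6,6,6,5,2,1,0,3,2,1,4,3,2,5,2,3,4,1])))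
 (Tr.node (Tr.node (Tr.leaf [2,1,0,3,2,1,4,3,2,5,2,3,4,1,2,3,0,1,2,5,1,5,2,1,0,3,2,1,4,3,2,5,2,3,4,1,2,3,0,1,2,5,6,5,2,1,0,3,2,1,4,3,2,5,2,3,4,1,2,3,0,1,2,5,6,5,2,1,0,3,2,1,4,3,2,5,2,3,4,1,2,3,0,1,2,5,6,1,6,5,2,1,0,3,2,1,4,3,2,5,2,3,4,1,2,3,0,1,2,5,6,5,2,1,0,3,2,1,4,3,2,5,2,3,4,1,2,3,0,1,2,5,6,5])
 (Tr.leaf [6,5,2,1,0,3,2,1,4,3,2,5,2,3,4,1,2,3,0,1,2,5,6,5,2,1,0,3,2,1,4,3,2,5,2,3,4,1,2,3,0,1,2,5,5,5,2,1,0,3,2,1,4,3,2,5,2,3,4,1,2,3,0,1,2,5,6,5,2,1,0,3,2,1,4,3,2,5,2,3,4,1,2,3,0,1,2,5,6,5,2,1,0,3,2,1,4,3,2,5,2,3,4,1,2,3,0,1,2,5,6,5,6,5,2,1,0,3,2,1,4,3,2,5,2,3,4,1,2,3,0,1,2,5]))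
 (Tr.node (Tr.leaf [2,3,4,1,2,3,0,1,2,5,6,5,2,1,0,3,2,1,4,3,2,5,2,3,4,1,2,3,0,1,2,5,3,5,2,1,0,3,2,1,4,3,2,5,2,3,4,1,2,3,0,1,2,5,6,5,2,1,0,3,2,1,4,3,2,5,2,3,4,1,2,3,0,1,2,5,6,5,2,1,0,3,2,1,4,3,2,5,2,3,4,1,2,3,0,1,2,5,6,3,6,5,2,1,0,3,2,1,4,3,2,5,2,3,4,1,2,3,0,1,2,5,6,5,2,1,0,3,2,1,4,3,2,5])
 (Tr.leaf [6,6,6,5,2,1,0,3,2,1,4,3,2,5,2,3,4,1,2,3,0,1,2,5,6,5,2,1,0,3,2,1,4,3,2,5,2,3,4,1,2,3,0,1,2,5,6,5,2,1,0,3,2,1,4,3,2,5,2,3,4,1,2,3,0,1,2,5,6,5,2,1,0,3,2,1,4,3,2,5,2,3,4,1,2,3,0,1,2,5,6,5,2,1,0,3,2,1,4,3,2,5,2,3,4,1,2,3,0,1,2,5,6,5,2,1,0,3,2,1,4,3,2,5,2,3,4,1,2,3,0,1,2,5]))))))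
 (Tr.node (Tr.node (Tr.node (Tr.node (Tr.node (Tr.leaf [3,1,3,1])
 (Tr.leaf [2,3,0,1,2,5,6,5,2,1,0,3,2,1,4,3,2,5,2,3,4,1,2,3,0,1,2,5,6,5,2,1,0,3,2,1,4,3,2,5,2,3,4,1,2,3,0,1,2,5,6,3,6,5,2,1,0,3,2,1,4,3,2,5,2,3,4,1,2,3,0,1,2,5,6,5,2,1,0,3,2,1,4,3,2,5,2,3,4,1,2,3,0,1,2,5,6,5,2,1,0,3,2,1,4,3,2,5,2,3,4,1,2,3,0,1,2,5,3,5,2,1,0,3,2,1,4,3,2,5,2,3,4,1]))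
 (Tr.node (Tr.leaf [2,1,4,3,2,5,2,3,4,1,2,3,0,1,2,5,6,5,2,1,0,3,2,1,4,3,2,5,2,3,4,1,2,3,0,1,2,5,6,1,6,5,2,1,0,3,2,1,4,3,2,5,2,3,4,1,2,3,0,1,2,5,6,5,2,1,0,3,2,1,4,3,2,5,2,3,4,1,2,3,0,1,2,5,6,5,2,1,0,3,2,1,4,3,2,5,2,3,4,1,2,3,0,1,2,5,1,5,2,1,0,3,2,1,4,3,2,5,2,3,4,1,2,3,0,1,2,5,6,5,2,1,0,3])
 (Tr.leaf [0,3,2,1,4,3,2,5,2,3,4,1,2,3,0,1,2,5,6,5,2,1,0,3,2,1,4,3,2,5,2,3,4,1,2,3,0,1,2,5,6,5,2,1,0,3,2,1,4,3,2,5,2,3,4,1,2,3,0,1,2,5,6,5,6,5,2,1,0,3,2,1,4,3,2,5,2,3,4,1,2,3,0,1,2,5,6,5,2,1,0,3,2,1,4,3,2,5,2,3,4,1,2,3,0,1,2,5,6,5,2,1,0,3,2,1,4,3,2,5,2,3,4,1,2,3,0,1,2,5,5,5,2,1])))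
 (Tr.node (Tr.node (Tr.leaf [2,3,4,1,2,3,0,1,2,5,6,5,2,1,0,3,2,1,4,3,2,5,2,3,4,1,2,3,0,1,2,5,6,0,6,5,2,1,0,3,2,1,4,3,2,5,2,3,4,1,2,3,0,1,2,5,6,5,2,1,0,3,2,1,4,3,2,5,2,3,4,1,2,3,0,1,2,5,6,5,2,1,0,3,2,1,4,3,2,5,2,3,4,1,2,3,0,1,2,5,0,5,2,1,0,3,2,1,4,3,2,5,2,3,4,1,2,3,0,1,2,5,6,5,2,1,0,3,2,1,4,3,2,5])
 (Tr.leaf [2,5,2,3,4,1,2,3,0,1,2,5,6,5,2,1,0,3,2,1,4,3,2,5,2,3,4,1,2,3,0,1,2,5,6,5,2,1,0,3,2,1,4,3,2,5,2,3,4,1,2,3,0,1,2,5,6,4,6,5,2,1,0,3,2,1,4,3,2,5,2,3,4,1,2,3,0,1,2,5,6,5,2,1,0,3,2,1,4,3,2,5,2,3,4,1,2,3,0,1,2,5,6,5,2,1,0,3,2,1,4,3,2,5,2,3,4,1,2,3,0,1,2,5,4,5,2,1,0,3,2,1,4,3]))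
 (Tr.node (Tr.leaf [6,5,2,1,0,3,2,1,4,3,2,5,2,3,4,1,2,3,0,1,2,5,6,5,2,1,0,3,2,1,4,3,2,5,2,3,4,1,2,3,0,1,2,5,6,2,6,5,2,1,0,3,2,1,4,3,2,5,2,3,4,1,2,3,0,1,2,5,6,5,2,1,0,3,2,1,4,3,2,5,2,3,4,1,2,3,0,1,2,5,6,5,2,1,0,3,2,1,4,3,2,5,2,3,4,1,2,3,0,1,2,5,2,5,2,1,0,3,2,1,4,3,2,5,2,3,4,1,2,3,0,1,2,5])
 (Tr.leaf [2,5,6,5,2,1,0,3,2,1,4,3,2,5,2,3,4,1,2,3,0,1,2,5,6,5,2,1,0,3,2,1,4,3,2,5,2,3,4,1,2,3,0,1,2,5,6,5,2,1,0,3,2,1,4,3,2,5,2,3,4,1,2,3,0,1,2,5,6,6,6,5,2,1,0,3,2,1,4,3,2,5,2,3,4,1,2,3,0,1,2,5,6,5,2,1,0,3,2,1,4,3,2,5,2,3,4,1,2,3,0,1,2,5,6,5,2,1,0,3,2,1,4,3,2,5,2,3,4,1,2,3,0,1]))))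
 (Tr.node (Tr.node (Tr.node (Tr.leaf [4,1,2,3,0,1,2,5,6,5,2,1,0,3,2,1,4,3,2,5,2,3,4,1,2,3,0,1,2,5,0,5,2,1,0,3,2,1,4,3,2,5,2,3,4,1,2,3,0,1,2,5,6,5,2,1,0,3,2,1,4,3,2,5,2,3,4,1,2,3,0,1,2,5,6,5,2,1,0,3,2,1,4,3,2,5,2,3,4,1,2,3,0,1,2,5,6,0,6,5,2,1,0,3,2,1,4,3,2,5,2,3,4,1,2,3,0,1,2,5,6,5,2,1,0,3,2,1,4,3,2,5,2,3])
 (Tr.leaf [2,3,4,1,2,3,0,1,2,5,6,5,2,1,0,3,2,1,4,3,2,5,2,3,4,1,2,3,0,1,2,5,6,5,2,1,0,3,2,1,4,3,2,5,2,3,4,1,2,3,0,1,2,5,4,5,2,1,0,3,2,1,4,3,2,5,2,3,4,1,2,3,0,1,2,5,6,5,2,1,0,3,2,1,4,3,2,5,2,3,4,1,2,3,0,1,2,5,6,5,2,1,0,3,2,1,4,3,2,5,2,3,4,1,2,3,0,1,2,5,6,4,6,5,2,1,0,3,2,1,4,3,2,5]))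
 (Tr.node (Tr.leaf [2,1,0,3,2,1,4,3,2,5,2,3,4,1,2,3,0,1,2,5,6,5,2,1,0,3,2,1,4,3,2,5,2,3,4,1,2,3,0,1,2,5,2,5,2,1,0,3,2,1,4,3,2,5,2,3,4,1,2,3,0,1,2,5,6,5,2,1,0,3,2,1,4,3,2,5,2,3,4,1,2,3,0,1,2,5,6,5,2,1,0,3,2,1,4,3,2,5,2,3,4,1,2,3,0,1,2,5,6,2,6,5,2,1,0,3,2,1,4,3,2,5,2,3,4,1,2,3,0,1,2,5,6,5])
 (Tr.leaf [6,6,5,2,1,0,3,2,1,4,3,2,5,2,3,4,1,2,3,0,1,2,5,6,5,2,1,0,3,2,1,4,3,2,5,2,3,4,1,2,3,0,1,2,5,6,5,2,1,0,3,2,1,4,3,2,5,2,3,4,1,2,3,0,1,2,5,6,5,2,1,0,3,2,1,4,3,2,5,2,3,4,1,2,3,0,1,2,5,6,5,2,1,0,3,2,1,4,3,2,5,2,3,4,1,2,3,0,1,2,5,6,5,2,1,0,3,2,1,4,3,2,5,2,3,4,1,2,3,0,1,2,5,6])))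
 (Tr.node (Tr.node (Tr.leaf [4,3,2,5,2,3,4,1,2,3,0,1,2,5,6,5,2,1,0,3,2,1,4,3,2,5,2,3,4,1,2,3,0,1,2,5,1,5,2,1,0,3,2,1,4,3,2,5,2,3,4,1,2,3,0,1,2,5,6,5,2,1,0,3,2,1,4,3,2,5,2,3,4,1,2,3,0,1,2,5,6,5,2,1,0,3,2,1,4,3,2,5,2,3,4,1,2,3,0,1,2,5,6,1,6,5,2,1,0,3,2,1,4,3,2,5,2,3,4,1,2,3,0,1,2,5,6,5,2,1,0,3,2,1])
 (Tr.leaf [2,1,4,3,2,5,2,3,4,1,2,3,0,1,2,5,6,5,2,1,0,3,2,1,4,3,2,5,2,3,4,1,2,3,0,1,2,5,6,5,2,1,0,3,2,1,4,3,2,5,2,3,4,1,2,3,0,1,2,5,5,5,2,1,0,3,2,1,4,3,2,5,2,3,4,1,2,3,0,1,2,5,6,5,2,1,0,3,2,1,4,3,2,5,2,3,4,1,2,3,0,1,2,5,6,5,2,1,0,3,2,1,4,3,2,5,2,3,4,1,2,3,0,1,2,5,6,5,6,5,2,1,0,3]))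
 (Tr.node (Tr.leaf [0,1,2,5,6,5,2,1,0,3,2,1,4,3,2,5,2,3,4,1,2,3,0,1,2,5,6,5,2,1,0,3,2,1,4,3,2,5,2,3,4,1,2,3,0,1,2,5,3,5,2,1,0,3,2,1,4,3,2,5,2,3,4,1,2,3,0,1,2,5,6,5,2,1,0,3,2,1,4,3,2,5,2,3,4,1,2,3,0,1,2,5,6,5,2,1,0,3,2,1,4,3,2,5,2,3,4,1,2,3,0,1,2,5,6,3,6,5,2,1,0,3,2,1,4,3,2,5,2,3,4,1,2,3])
 (Tr.leaf [0,1,2,5,6,6,6,5,2,1,0,3,2,1,4,3,2,5,2,3,4,1,2,3,0,1,2,5,6,5,2,1,0,3,2,1,4,3,2,5,2,3,4,1,2,3,0,1,2,5,6,5,2,1,0,3,2,1,4,3,2,5,2,3,4,1,2,3,0,1,2,5,6,5,2,1,0,3,2,1,4,3,2,5,2,3,4,1,2,3,0,1,2,5,6,5,2,1,0,3,2,1,4,3,2,5,2,3,4,1,2,3,0,1,2,5,6,5,2,1,0,3,2,1,4,3,2,5,2,3,4,1,2,3])))))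
 (Tr.node (Tr.node (Tr.node (Tr.node (Tr.leaf [0,3,2,1,4,3,2,5,2,3,4,1,2,3,0,1,2,5,6,5,2,1,0,3,2,1,4,3,2,5,2,3,4,1,2,3,0,1,2,5,6,5,2,1,0,3,2,1,4,3,2,5,2,3,4,1,2,3,0,1,2,5,0,5,2,1,0,3,2,1,4,3,2,5,2,3,4,1,2,3,0,1,2,5,6,5,2,1,0,3,2,1,4,3,2,5,2,3,4,1,2,3,0,1,2,5,6,5,2,1,0,3,2,1,4,3,2,5,2,3,4,1,2,3,0,1,2,5,6,0,6,5,2,1])
 (Tr.leaf [0,3,2,1,4,3,2,5,2,3,4,1,2,3,0,1,2,5,6,3,6,5,2,1,0,3,2,1,4,3,2,5,2,3,4,1,2,3,0,1,2,5,6,5,2,1,0,3,2,1,4,3,2,5,2,3,4,1,2,3,0,1,2,5,6,5,2,1,0,3,2,1,4,3,2,5,2,3,4,1,2,3,0,1,2,5,3,5,2,1,0,3,2,1,4,3,2,5,2,3,4,1,2,3,0,1,2,5,6,5,2,1,0,3,2,1,4,3,2,5,2,3,4,1,2,3,0,1,2,5,6,5,2,1]))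
 (Tr.node (Tr.leaf [2,3,0,1,2,5,6,1,6,5,2,1,0,3,2,1,4,3,2,5,2,3,4,1,2,3,0,1,2,5,6,5,2,1,0,3,2,1,4,3,2,5,2,3,4,1,2,3,0,1,2,5,6,5,2,1,0,3,2,1,4,3,2,5,2,3,4,1,2,3,0,1,2,5,1,5,2,1,0,3,2,1,4,3,2,5,2,3,4,1,2,3,0,1,2,5,6,5,2,1,0,3,2,1,4,3,2,5,2,3,4,1,2,3,0,1,2,5,6,5,2,1,0,3,2,1,4,3,2,5,2,3,4,1])
 (Tr.leaf [4,1,2,3,0,1,2,5,6,5,2,1,0,3,2,1,4,3,2,5,2,3,4,1,2,3,0,1,2,5,6,5,6,5,2,1,0,3,2,1,4,3,2,5,2,3,4,1,2,3,0,1,2,5,6,5,2,1,0,3,2,1,4,3,2,5,2,3,4,1,2,3,0,1,2,5,6,5,2,1,0,3,2,1,4,3,2,5,2,3,4,1,2,3,0,1,2,5,5,5,2,1,0,3,2,1,4,3,2,5,2,3,4,1,2,3,0,1,2,5,6,5,2,1,0,3,2,1,4,3,2,5,2,3])))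
 (Tr.node (Tr.node (Tr.leaf [6,0,6,5,2,1,0,3,2,1,4,3,2,5,2,3,4,1,2,3,0,1,2,5,6,5,2,1,0,3,2,1,4,3,2,5,2,3,4,1,2,3,0,1,2,5,6,5,2,1,0,3,2,1,4,3,2,5,2,3,4,1,2,3,0,1,2,5,0,5,2,1,0,3,2,1,4,3,2,5,2,3,4,1,2,3,0,1,2,5,6,5,2,1,0,3,2,1,4,3,2,5,2,3,4,1,2,3,0,1,2,5,6,5,2,1,0,3,2,1,4,3,2,5,2,3,4,1,2,3,0,1,2,5])
 (Tr.leaf [2,5,6,5,2,1,0,3,2,1,4,3,2,5,2,3,4,1,2,3,0,1,2,5,6,4,6,5,2,1,0,3,2,1,4,3,2,5,2,3,4,1,2,3,0,1,2,5,6,5,2,1,0,3,2,1,4,3,2,5,2,3,4,1,2,3,0,1,2,5,6,5,2,1,0,3,2,1,4,3,2,5,2,3,4,1,2,3,0,1,2,5,4,5,2,1,0,3,2,1,4,3,2,5,2,3,4,1,2,3,0,1,2,5,6,5,2,1,0,3,2,1,4,3,2,5,2,3,4,1,2,3,0,1]))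
 (Tr.node (Tr.leaf [2,5,2,3,4,1,2,3,0,1,2,5,6,2,6,5,2,1,0,3,2,1,4,3,2,5,2,3,4,1,2,3,0,1,2,5,6,5,2,1,0,3,2,1,4,3,2,5,2,3,4,1,2,3,0,1,2,5,6,5,2,1,0,3,2,1,4,3,2,5,2,3,4,1,2,3,0,1,2,5,2,5,2,1,0,3,2,1,4,3,2,5,2,3,4,1,2,3,0,1,2,5,6,5,2,1,0,3,2,1,4,3,2,5,2,3,4,1,2,3,0,1,2,5,6,5,2,1,0,3,2,1,4,3])
 (Tr.leaf [4,3,2,5,2,3,4,1,2,3,0,1,2,5,6,5,2,1,0,3,2,1,4,3,2,5,2,3,4,1,2,3,0,1,2,5,6,6,6,5,2,1,0,3,2,1,4,3,2,5,2,3,4,1,2,3,0,1,2,5,6,5,2,1,0,3,2,1,4,3,2,5,2,3,4,1,2,3,0,1,2,5,6,5,2,1,0,3,2,1,4,3,2,5,2,3,4,1,2,3,0,1,2,5,6,5,2,1,0,3,2,1,4,3,2,5,2,3,4,1,2,3,0,1,2,5,6,5,2,1,0,3,2,1]))))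
 (Tr.node (Tr.node (Tr.node (Tr.leaf [2,1,0,3,2,1,4,3,2,5,2,3,4,1,2,3,0,1,2,5,6,5,2,1,0,3,2,1,4,3,2,5,2,3,4,1,2,3,0,1,2,5,6,5,2,1,0,3,2,1,4,3,2,5,2,3,4,1,2,3,0,1,2,5,6,0,6,5,2,1,0,3,2,1,4,3,2,5,2,3,4,1,2,3,0,1,2,5,6,5,2,1,0,3,2,1,4,3,2,5,2,3,4,1,2,3,0,1,2,5,6,5,2,1,0,3,2,1,4,3,2,5,2,3,4,1,2,3,0,1,2,5,0,5])
 (Tr.leaf [6,5,2,1,0,3,2,1,4,3,2,5,2,3,4,1,2,3,0,1,2,5,4,5,2,1,0,3,2,1,4,3,2,5,2,3,4,1,2,3,0,1,2,5,6,5,2,1,0,3,2,1,4,3,2,5,2,3,4,1,2,3,0,1,2,5,6,5,2,1,0,3,2,1,4,3,2,5,2,3,4,1,2,3,0,1,2,5,6,4,6,5,2,1,0,3,2,1,4,3,2,5,2,3,4,1,2,3,0,1,2,5,6,5,2,1,0,3,2,1,4,3,2,5,2,3,4,1,2,3,0,1,2,5]))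
 (Tr.node (Tr.leaf [2,3,4,1,2,3,0,1,2,5,2,5,2,1,0,3,2,1,4,3,2,5,2,3,4,1,2,3,0,1,2,5,6,5,2,1,0,3,2,1,4,3,2,5,2,3,4,1,2,3,0,1,2,5,6,5,2,1,0,3,2,1,4,3,2,5,2,3,4,1,2,3,0,1,2,5,6,2,6,5,2,1,0,3,2,1,4,3,2,5,2,3,4,1,2,3,0,1,2,5,6,5,2,1,0,3,2,1,4,3,2,5,2,3,4,1,2,3,0,1,2,5,6,5,2,1,0,3,2,1,4,3,2,5])
 (Tr.leaf [2,5,2,3,4,1,2,3,0,1,2,5,6,5,2,1,0,3,2,1,4,3,2,5,2,3,4,1,2,3,0,1,2,5,6,5,2,1,0,3,2,1,4,3,2,5,2,3,4,1,2,3,0,1,2,5,6,5,2,1,0,3,2,1,4,3,2,5,2,3,4,1,2,3,0,1,2,5,6,5,2,1,0,3,2,1,4,3,2,5,2,3,4,1,2,3,0,1,2,5,6,6,6,5,2,1,0,3,2,1,4,3,2,5,2,3,4,1,2,3,0,1,2,5,6,5,2,1,0,3,2,1,4,3])))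
 (Tr.node (Tr.node (Tr.leaf [0,1,2,5,1,5,2,1,0,3,2,1,4,3,2,5,2,3,4,1,2,3,0,1,2,5,6,5,2,1,0,3,2,1,4,3,2,5,2,3,4,1,2,3,0,1,2,5,6,5,2,1,0,3,2,1,4,3,2,5,2,3,4,1,2,3,0,1,2,5,6,1,6,5,2,1,0,3,2,1,4,3,2,5,2,3,4,1,2,3,0,1,2,5,6,5,2,1,0,3,2,1,4,3,2,5,2,3,4,1,2,3,0,1,2,5,6,5,2,1,0,3,2,1,4,3,2,5,2,3,4,1,2,3])
 (Tr.leaf [2,3,0,1,2,5,6,5,2,1,0,3,2,1,4,3,2,5,2,3,4,1,2,3,0,1,2,5,5,5,2,1,0,3,2,1,4,3,2,5,2,3,4,1,2,3,0,1,2,5,6,5,2,1,0,3,2,1,4,3,2,5,2,3,4,1,2,3,0,1,2,5,6,5,2,1,0,3,2,1,4,3,2,5,2,3,4,1,2,3,0,1,2,5,6,5,6,5,2,1,0,3,2,1,4,3,2,5,2,3,4,1,2,3,0,1,2,5,6,5,2,1,0,3,2,1,4,3,2,5,2,3,4,1]))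
 (Tr.node (Tr.leaf [2,1,4,3,2,5,2,3,4,1,2,3,0,1,2,5,3,5,2,1,0,3,2,1,4,3,2,5,2,3,4,1,2,3,0,1,2,5,6,5,2,1,0,3,2,1,4,3,2,5,2,3,4,1,2,3,0,1,2,5,6,5,2,1,0,3,2,1,4,3,2,5,2,3,4,1,2,3,0,1,2,5,6,3,6,5,2,1,0,3,2,1,4,3,2,5,2,3,4,1,2,3,0,1,2,5,6,5,2,1,0,3,2,1,4,3,2,5,2,3,4,1,2,3,0,1,2,5,6,5,2,1,0,3])
 (Tr.leaf [6,6,6,5,2,1,0,3,2,1,4,3,2,5,2,3,4,1,2,3,0,1,2,5,6,5,2,1,0,3,2,1,4,3,2,5,2,3,4,1,2,3,0,1,2,5,6,5,2,1,0,3,2,1,4,3,2,5,2,3,4,1,2,3,0,1,2,5,6,5,2,1,0,3,2,1,4,3,2,5,2,3,4,1,2,3,0,1,2,5,6,5,2,1,0,3,2,1,4,3,2,5,2,3,4,1,2,3,0,1,2,5,6,5,2,1,0,3,2,1,4,3,2,5,2,3,4,1,2,3,0,1,2,5])))))))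
 (Tr.node (Tr.node (Tr.node (Tr.node (Tr.node (Tr.node (Tr.leaf [4,0,4,0])
 (Tr.leaf [4,3,2,5,2,3,4,1,2,3,0,1,2,5,6,5,2,1,0,3,2,1,4,3,2,5,2,3,4,1,2,3,0,1,2,5,6,5,2,1,0,3,2,1,4,3,2,5,2,3,4,1,2,3,0,1,2,5,6,3,6,5,2,1,0,3,2,1,4,3,2,5,2,3,4,1,2,3,0,1,2,5,6,5,2,1,0,3,2,1,4,3,2,5,2,3,4,1,2,3,0,1,2,5,6,5,2,1,0,3,2,1,4,3,2,5,2,3,4,1,2,3,0,1,2,5,3,5,2,1,0,3,2,1]))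
 (Tr.node (Tr.leaf [2,5,6,5,2,1,0,3,2,1,4,3,2,5,2,3,4,1,2,3,0,1,2,5,6,5,2,1,0,3,2,1,4,3,2,5,2,3,4,1,2,3,0,1,2,5,6,1,6,5,2,1,0,3,2,1,4,3,2,5,2,3,4,1,2,3,0,1,2,5,6,5,2,1,0,3,2,1,4,3,2,5,2,3,4,1,2,3,0,1,2,5,6,5,2,1,0,3,2,1,4,3,2,5,2,3,4,1,2,3,0,1,2,5,1,5,2,1,0,3,2,1,4,3,2,5,2,3,4,1,2,3,0,1])
 (Tr.leaf [0,1,2,5,5,5,2,1,0,3,2,1,4,3,2,5,2,3,4,1,2,3,0,1,2,5,6,5,2,1,0,3,2,1,4,3,2,5,2,3,4,1,2,3,0,1,2,5,6,5,2,1,0,3,2,1,4,3,2,5,2,3,4,1,2,3,0,1,2,5,6,5,6,5,2,1,0,3,2,1,4,3,2,5,2,3,4,1,2,3,0,1,2,5,6,5,2,1,0,3,2,1,4,3,2,5,2,3,4,1,2,3,0,1,2,5,6,5,2,1,0,3,2,1,4,3,2,5,2,3,4,1,2,3])))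
 (Tr.node (Tr.node (Tr.leaf [0,3,2,1,4,3,2,5,2,3,4,1,2,3,0,1,2,5,6,5,2,1,0,3,2,1,4,3,2,5,2,3,4,1,2,3,0,1,2,5,6,0,6,5,2,1,0,3,2,1,4,3,2,5,2,3,4,1,2,3,0,1,2,5,6,5,2,1,0,3,2,1,4,3,2,5,2,3,4,1,2,3,0,1,2,5,6,5,2,1,0,3,2,1,4,3,2,5,2,3,4,1,2,3,0,1,2,5,0,5,2,1,0,3,2,1,4,3,2,5,2,3,4,1,2,3,0,1,2,5,6,5,2,1])
 (Tr.leaf [2,1,0,3,2,1,4,3,2,5,2,3,4,1,2,3,0,1,2,5,6,5,2,1,0,3,2,1,4,3,2,5,2,3,4,1,2,3,0,1,2,5,6,5,2,1,0,3,2,1,4,3,2,5,2,3,4,1,2,3,0,1,2,5,6,4,6,5,2,1,0,3,2,1,4,3,2,5,2,3,4,1,2,3,0,1,2,5,6,5,2,1,0,3,2,1,4,3,2,5,2,3,4,1,2,3,0,1,2,5,6,5,2,1,0,3,2,1,4,3,2,5,2,3,4,1,2,3,0,1,2,5,4,5]))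
 (Tr.node (Tr.leaf [4,1,2,3,0,1,2,5,6,5,2,1,0,3,2,1,4,3,2,5,2,3,4,1,2,3,0,1,2,5,6,5,2,1,0,3,2,1,4,3,2,5,2,3,4,1,2,3,0,1,2,5,6,2,6,5,2,1,0,3,2,1,4,3,2,5,2,3,4,1,2,3,0,1,2,5,6,5,2,1,0,3,2,1,4,3,2,5,2,3,4,1,2,3,0,1,2,5,6,5,2,1,0,3,2,1,4,3,2,5,2,3,4,1,2,3,0,1,2,5,2,5,2,1,0,3,2,1,4,3,2,5,2,3])
 (Tr.leaf [2,3,4,1,2,3,0,1,2,5,6,5,2,1,0,3,2,1,4,3,2,5,2,3,4,1,2,3,0,1,2,5,6,5,2,1,0,3,2,1,4,3,2,5,2,3,4,1,2,3,0,1,2,5,6,5,2,1,0,3,2,1,4,3,2,5,2,3,4,1,2,3,0,1,2,5,6,6,6,5,2,1,0,3,2,1,4,3,2,5,2,3,4,1,2,3,0,1,2,5,6,5,2,1,0,3,2,1,4,3,2,5,2,3,4,1,2,3,0,1,2,5,6,5,2,1,0,3,2,1,4,3,2,5]))))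
 (Tr.node (Tr.node (Tr.node (Tr.leaf [2,1,4,3,2,5,2,3,4,1,2,3,0,1,2,5,6,5,2,1,0,3,2,1,4,3,2,5,2,3,4,1,2,3,0,1,2,5,0,5,2,1,0,3,2,1,4,3,2,5,2,3,4,1,2,3,0,1,2,5,6,5,2,1,0,3,2,1,4,3,2,5,2,3,4,1,2,3,0,1,2,5,6,5,2,1,0,3,2,1,4,3,2,5,2,3,4,1,2,3,0,1,2,5,6,0,6,5,2,1,0,3,2,1,4,3,2,5,2,3,4,1,2,3,0,1,2,5,6,5,2,1,0,3])
 (Tr.leaf [0,3,2,1,4,3,2,5,2,3,4,1,2,3,0,1,2,5,6,5,2,1,0,3,2,1,4,3,2,5,2,3,4,1,2,3,0,1,2,5,6,5,2,1,0,3,2,1,4,3,2,5,2,3,4,1,2,3,0,1,2,5,4,5,2,1,0,3,2,1,4,3,2,5,2,3,4,1,2,3,0,1,2,5,6,5,2,1,0,3,2,1,4,3,2,5,2,3,4,1,2,3,0,1,2,5,6,5,2,1,0,3,2,1,4,3,2,5,2,3,4,1,2,3,0,1,2,5,6,4,6,5,2,1]))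
 (Tr.node (Tr.leaf [2,3,0,1,2,5,6,5,2,1,0,3,2,1,4,3,2,5,2,3,4,1,2,3,0,1,2,5,6,5,2,1,0,3,2,1,4,3,2,5,2,3,4,1,2,3,0,1,2,5,2,5,2,1,0,3,2,1,4,3,2,5,2,3,4,1,2,3,0,1,2,5,6,5,2,1,0,3,2,1,4,3,2,5,2,3,4,1,2,3,0,1,2,5,6,5,2,1,0,3,2,1,4,3,2,5,2,3,4,1,2,3,0,1,2,5,6,2,6,5,2,1,0,3,2,1,4,3,2,5,2,3,4,1])
 (Tr.leaf [2,3,0,1,2,5,6,5,6,5,2,1,0,3,2,1,4,3,2,5,2,3,4,1,2,3,0,1,2,5,6,5,2,1,0,3,2,1,4,3,2,5,2,3,4,1,2,3,0,1,2,5,6,5,2,1,0,3,2,1,4,3,2,5,2,3,4,1,2,3,0,1,2,5,5,5,2,1,0,3,2,1,4,3,2,5,2,3,4,1,2,3,0,1,2,5,6,5,2,1,0,3,2,1,4,3,2,5,2,3,4,1,2,3,0,1,2,5,6,5,2,1,0,3,2,1,4,3,2,5,2,3,4,1])))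
 (Tr.node (Tr.node (Tr.leaf [6,5,2,1,0,3,2,1,4,3,2,5,2,3,4,1,2,3,0,1,2,5,6,5,2,1,0,3,2,1,4,3,2,5,2,3,4,1,2,3,0,1,2,5,1,5,2,1,0,3,2,1,4,3,2,5,2,3,4,1,2,3,0,1,2,5,6,5,2,1,0,3,2,1,4,3,2,5,2,3,4,1,2,3,0,1,2,5,6,5,2,1,0,3,2,1,4,3,2,5,2,3,4,1,2,3,0,1,2,5,6,1,6,5,2,1,0,3,2,1,4,3,2,5,2,3,4,1,2,3,0,1,2,5])
 (Tr.leaf [6,4,6,5,2,1,0,3,2,1,4,3,2,5,2,3,4,1,2,3,0,1,2,5,6,5,2,1,0,3,2,1,4,3,2,5,2,3,4,1,2,3,0,1,2,5,6,5,2,1,0,3,2,1,4,3,2,5,2,3,4,1,2,3,0,1,2,5,4,5,2,1,0,3,2,1,4,3,2,5,2,3,4,1,2,3,0,1,2,5,6,5,2,1,0,3,2,1,4,3,2,5,2,3,4,1,2,3,0,1,2,5,6,5,2,1,0,3,2,1,4,3,2,5,2,3,4,1,2,3,0,1,2,5]))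
 (Tr.node (Tr.leaf [2,5,2,3,4,1,2,3,0,1,2,5,6,5,2,1,0,3,2,1,4,3,2,5,2,3,4,1,2,3,0,1,2,5,6,5,2,1,0,3,2,1,4,3,2,5,2,3,4,1,2,3,0,1,2,5,3,5,2,1,0,3,2,1,4,3,2,5,2,3,4,1,2,3,0,1,2,5,6,5,2,1,0,3,2,1,4,3,2,5,2,3,4,1,2,3,0,1,2,5,6,5,2,1,0,3,2,1,4,3,2,5,2,3,4,1,2,3,0,1,2,5,6,3,6,5,2,1,0,3,2,1,4,3])
 (Tr.leaf [2,5,2,3,4,1,2,3,0,1,2,5,6,6,6,5,2,1,0,3,2,1,4,3,2,5,2,3,4,1,2,3,0,1,2,5,6,5,2,1,0,3,2,1,4,3,2,5,2,3,4,1,2,3,0,1,2,5,6,5,2,1,0,3,2,1,4,3,2,5,2,3,4,1,2,3,0,1,2,5,6,5,2,1,0,3,2,1,4,3,2,5,2,3,4,1,2,3,0,1,2,5,6,5,2,1,0,3,2,1,4,3,2,5,2,3,4,1,2,3,0,1,2,5,6,5,2,1,0,3,2,1,4,3])))))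
 (Tr.node (Tr.node (Tr.node (Tr.node (Tr.leaf [6,4,6,4])
 (Tr.leaf [0,1,2,5,6,5,2,1,0,3,2,1,4,3,2,5,2,3,4,1,2,3,0,1,2,5,6,3,6,5,2,1,0,3,2,1,4,3,2,5,2,3,4,1,2,3,0,1,2,5,6,5,2,1,0,3,2,1,4,3,2,5,2,3,4,1,2,3,0,1,2,5,6,5,2,1,0,3,2,1,4,3,2,5,2,3,4,1,2,3,0,1,2,5,3,5,2,1,0,3,2,1,4,3,2,5,2,3,4,1,2,3,0,1,2,5,6,5,2,1,0,3,2,1,4,3,2,5,2,3,4,1,2,3]))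
 (Tr.node (Tr.leaf [4,3,2,5,2,3,4,1,2,3,0,1,2,5,6,1,6,5,2,1,0,3,2,1,4,3,2,5,2,3,4,1,2,3,0,1,2,5,6,5,2,1,0,3,2,1,4,3,2,5,2,3,4,1,2,3,0,1,2,5,6,5,2,1,0,3,2,1,4,3,2,5,2,3,4,1,2,3,0,1,2,5,1,5,2,1,0,3,2,1,4,3,2,5,2,3,4,1,2,3,0,1,2,5,6,5,2,1,0,3,2,1,4,3,2,5,2,3,4,1,2,3,0,1,2,5,6,5,2,1,0,3,2,1])
 (Tr.leaf [2,1,4,3,2,5,2,3,4,1,2,3,0,1,2,5,6,5,2,1,0,3,2,1,4,3,2,5,2,3,4,1,2,3,0,1,2,5,6,5,6,5,2,1,0,3,2,1,4,3,2,5,2,3,4,1,2,3,0,1,2,5,6,5,2,1,0,3,2,1,4,3,2,5,2,3,4,1,2,3,0,1,2,5,6,5,2,1,0,3,2,1,4,3,2,5,2,3,4,1,2,3,0,1,2,5,5,5,2,1,0,3,2,1,4,3,2,5,2,3,4,1,2,3,0,1,2,5,6,5,2,1,0,3])))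
 (Tr.node (Tr.node (Tr.leaf [4,1,2,3,0,1,2,5,6,0,6,5,2,1,0,3,2,1,4,3,2,5,2,3,4,1,2,3,0,1,2,5,6,5,2,1,0,3,2,1,4,3,2,5,2,3,4,1,2,3,0,1,2,5,6,5,2,1,0,3,2,1,4,3,2,5,2,3,4,1,2,3,0,1,2,5,0,5,2,1,0,3,2,1,4,3,2,5,2,3,4,1,2,3,0,1,2,5,6,5,2,1,0,3,2,1,4,3,2,5,2,3,4,1,2,3,0,1,2,5,6,5,2,1,0,3,2,1,4,3,2,5,2,3])
 (Tr.leaf [2,3,4,1,2,3,0,1,2,5,6,5,2,1,0,3,2,1,4,3,2,5,2,3,4,1,2,3,0,1,2,5,6,4,6,5,2,1,0,3,2,1,4,3,2,5,2,3,4,1,2,3,0,1,2,5,6,5,2,1,0,3,2,1,4,3,2,5,2,3,4,1,2,3,0,1,2,5,6,5,2,1,0,3,2,1,4,3,2,5,2,3,4,1,2,3,0,1,2,5,4,5,2,1,0,3,2,1,4,3,2,5,2,3,4,1,2,3,0,1,2,5,6,5,2,1,0,3,2,1,4,3,2,5]))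
 (Tr.node (Tr.leaf [2,1,0,3,2,1,4,3,2,5,2,3,4,1,2,3,0,1,2,5,6,2,6,5,2,1,0,3,2,1,4,3,2,5,2,3,4,1,2,3,0,1,2,5,6,5,2,1,0,3,2,1,4,3,2,5,2,3,4,1,2,3,0,1,2,5,6,5,2,1,0,3,2,1,4,3,2,5,2,3,4,1,2,3,0,1,2,5,2,5,2,1,0,3,2,1,4,3,2,5,2,3,4,1,2,3,0,1,2,5,6,5,2,1,0,3,2,1,4,3,2,5,2,3,4,1,2,3,0,1,2,5,6,5])
 (Tr.leaf [6,5,2,1,0,3,2,1,4,3,2,5,2,3,4,1,2,3,0,1,2,5,6,5,2,1,0,3,2,1,4,3,2,5,2,3,4,1,2,3,0,1,2,5,6,6,6,5,2,1,0,3,2,1,4,3,2,5,2,3,4,1,2,3,0,1,2,5,6,5,2,1,0,3,2,1,4,3,2,5,2,3,4,1,2,3,0,1,2,5,6,5,2,1,0,3,2,1,4,3,2,5,2,3,4,1,2,3,0,1,2,5,6,5,2,1,0,3,2,1,4,3,2,5,2,3,4,1,2,3,0,1,2,5]))))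
 (Tr.node (Tr.node (Tr.node (Tr.leaf [2,3,0,1,2,5,0,5,2,1,0,3,2,1,4,3,2,5,2,3,4,1,2,3,0,1,2,5,6,5,2,1,0,3,2,1,4,3,2,5,2,3,4,1,2,3,0,1,2,5,6,5,2,1,0,3,2,1,4,3,2,5,2,3,4,1,2,3,0,1,2,5,6,0,6,5,2,1,0,3,2,1,4,3,2,5,2,3,4,1,2,3,0,1,2,5,6,5,2,1,0,3,2,1,4,3,2,5,2,3,4,1,2,3,0,1,2,5,6,5,2,1,0,3,2,1,4,3,2,5,2,3,4,1])
 (Tr.leaf [4,1,2,3,0,1,2,5,6,5,2,1,0,3,2,1,4,3,2,5,2,3,4,1,2,3,0,1,2,5,4,5,2,1,0,3,2,1,4,3,2,5,2,3,4,1,2,3,0,1,2,5,6,5,2,1,0,3,2,1,4,3,2,5,2,3,4,1,2,3,0,1,2,5,6,5,2,1,0,3,2,1,4,3,2,5,2,3,4,1,2,3,0,1,2,5,6,4,6,5,2,1,0,3,2,1,4,3,2,5,2,3,4,1,2,3,0,1,2,5,6,5,2,1,0,3,2,1,4,3,2,5,2,3]))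
 (Tr.node (Tr.leaf [0,3,2,1,4,3,2,5,2,3,4,1,2,3,0,1,2,5,2,5,2,1,0,3,2,1,4,3,2,5,2,3,4,1,2,3,0,1,2,5,6,5,2,1,0,3,2,1,4,3,2,5,2,3,4,1,2,3,0,1,2,5,6,5,2,1,0,3,2,1,4,3,2,5,2,3,4,1,2,3,0,1,2,5,6,2,6,5,2,1,0,3,2,1,4,3,2,5,2,3,4,1,2,3,0,1,2,5,6,5,2,1,0,3,2,1,4,3,2,5,2,3,4,1,2,3,0,1,2,5,6,5,2,1])
 (Tr.leaf [2,1,0,3,2,1,4,3,2,5,2,3,4,1,2,3,0,1,2,5,6,5,2,1,0,3,2,1,4,3,2,5,2,3,4,1,2,3,0,1,2,5,6,5,2,1,0,3,2,1,4,3,2,5,2,3,4,1,2,3,0,1,2,5,6,5,2,1,0,3,2,1,4,3,2,5,2,3,4,1,2,3,0,1,2,5,6,5,2,1,0,3,2,1,4,3,2,5,2,3,4,1,2,3,0,1,2,5,6,6,6,5,2,1,0,3,2,1,4,3,2,5,2,3,4,1,2,3,0,1,2,5,6,5])))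
 (Tr.node (Tr.node (Tr.leaf [2,5,2,3,4,1,2,3,0,1,2,5,1,5,2,1,0,3,2,1,4,3,2,5,2,3,4,1,2,3,0,1,2,5,6,5,2,1,0,3,2,1,4,3,2,5,2,3,4,1,2,3,0,1,2,5,6,5,2,1,0,3,2,1,4,3,2,5,2,3,4,1,2,3,0,1,2,5,6,1,6,5,2,1,0,3,2,1,4,3,2,5,2,3,4,1,2,3,0,1,2,5,6,5,2,1,0,3,2,1,4,3,2,5,2,3,4,1,2,3,0,1,2,5,6,5,2,1,0,3,2,1,4,3])
 (Tr.leaf [4,3,2,5,2,3,4,1,2,3,0,1,2,5,6,5,2,1,0,3,2,1,4,3,2,5,2,3,4,1,2,3,0,1,2,5,5,5,2,1,0,3,2,1,4,3,2,5,2,3,4,1,2,3,0,1,2,5,6,5,2,1,0,3,2,1,4,3,2,5,2,3,4,1,2,3,0,1,2,5,6,5,2,1,0,3,2,1,4,3,2,5,2,3,4,1,2,3,0,1,2,5,6,5,6,5,2,1,0,3,2,1,4,3,2,5,2,3,4,1,2,3,0,1,2,5,6,5,2,1,0,3,2,1]))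
 (Tr.node (Tr.leaf [2,5,6,5,2,1,0,3,2,1,4,3,2,5,2,3,4,1,2,3,0,1,2,5,3,5,2,1,0,3,2,1,4,3,2,5,2,3,4,1,2,3,0,1,2,5,6,5,2,1,0,3,2,1,4,3,2,5,2,3,4,1,2,3,0,1,2,5,6,5,2,1,0,3,2,1,4,3,2,5,2,3,4,1,2,3,0,1,2,5,6,3,6,5,2,1,0,3,2,1,4,3,2,5,2,3,4,1,2,3,0,1,2,5,6,5,2,1,0,3,2,1,4,3,2,5,2,3,4,1,2,3,0,1])
 (Tr.leaf [6,6,6,5,2,1,0,3,2,1,4,3,2,5,2,3,4,1,2,3,0,1,2,5,6,5,2,1,0,3,2,1,4,3,2,5,2,3,4,1,2,3,0,1,2,5,6,5,2,1,0,3,2,1,4,3,2,5,2,3,4,1,2,3,0,1,2,5,6,5,2,1,0,3,2,1,4,3,2,5,2,3,4,1,2,3,0,1,2,5,6,5,2,1,0,3,2,1,4,3,2,5,2,3,4,1,2,3,0,1,2,5,6,5,2,1,0,3,2,1,4,3,2,5,2,3,4,1,2,3,0,1,2,5]))))))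
 (Tr.node (Tr.node (Tr.node (Tr.node (Tr.node (Tr.leaf [3,2,3,2,3,2])
 (Tr.leaf [2,1,0,3,2,1,4,3,2,5,2,3,4,1,2,3,0,1,2,5,6,5,2,1,0,3,2,1,4,3,2,5,2,3,4,1,2,3,0,1,2,5,6,3,6,5,2,1,0,3,2,1,4,3,2,5,2,3,4,1,2,3,0,1,2,5,6,5,2,1,0,3,2,1,4,3,2,5,2,3,4,1,2,3,0,1,2,5,6,5,2,1,0,3,2,1,4,3,2,5,2,3,4,1,2,3,0,1,2,5,3,5,2,1,0,3,2,1,4,3,2,5,2,3,4,1,2,3,0,1,2,5,6,5]))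
 (Tr.node (Tr.leaf [4,1,2,3,0,1,2,5,6,5,2,1,0,3,2,1,4,3,2,5,2,3,4,1,2,3,0,1,2,5,6,1,6,5,2,1,0,3,2,1,4,3,2,5,2,3,4,1,2,3,0,1,2,5,6,5,2,1,0,3,2,1,4,3,2,5,2,3,4,1,2,3,0,1,2,5,6,5,2,1,0,3,2,1,4,3,2,5,2,3,4,1,2,3,0,1,2,5,1,5,2,1,0,3,2,1,4,3,2,5,2,3,4,1,2,3,0,1,2,5,6,5,2,1,0,3,2,1,4,3,2,5,2,3])
 (Tr.leaf [2,3,4,1,2,3,0,1,2,5,6,5,2,1,0,3,2,1,4,3,2,5,2,3,4,1,2,3,0,1,2,5,6,5,2,1,0,3,2,1,4,3,2,5,2,3,4,1,2,3,0,1,2,5,6,5,6,5,2,1,0,3,2,1,4,3,2,5,2,3,4,1,2,3,0,1,2,5,6,5,2,1,0,3,2,1,4,3,2,5,2,3,4,1,2,3,0,1,2,5,6,5,2,1,0,3,2,1,4,3,2,5,2,3,4,1,2,3,0,1,2,5,5,5,2,1,0,3,2,1,4,3,2,5])))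
 (Tr.node (Tr.node (Tr.leaf [2,5,6,5,2,1,0,3,2,1,4,3,2,5,2,3,4,1,2,3,0,1,2,5,6,0,6,5,2,1,0,3,2,1,4,3,2,5,2,3,4,1,2,3,0,1,2,5,6,5,2,1,0,3,2,1,4,3,2,5,2,3,4,1,2,3,0,1,2,5,6,5,2,1,0,3,2,1,4,3,2,5,2,3,4,1,2,3,0,1,2,5,0,5,2,1,0,3,2,1,4,3,2,5,2,3,4,1,2,3,0,1,2,5,6,5,2,1,0,3,2,1,4,3,2,5,2,3,4,1,2,3,0,1])
 (Tr.leaf [0,1,2,5,6,5,2,1,0,3,2,1,4,3,2,5,2,3,4,1,2,3,0,1,2,5,6,5,2,1,0,3,2,1,4,3,2,5,2,3,4,1,2,3,0,1,2,5,6,4,6,5,2,1,0,3,2,1,4,3,2,5,2,3,4,1,2,3,0,1,2,5,6,5,2,1,0,3,2,1,4,3,2,5,2,3,4,1,2,3,0,1,2,5,6,5,2,1,0,3,2,1,4,3,2,5,2,3,4,1,2,3,0,1,2,5,4,5,2,1,0,3,2,1,4,3,2,5,2,3,4,1,2,3]))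
 (Tr.node (Tr.leaf [4,3,2,5,2,3,4,1,2,3,0,1,2,5,6,5,2,1,0,3,2,1,4,3,2,5,2,3,4,1,2,3,0,1,2,5,6,2,6,5,2,1,0,3,2,1,4,3,2,5,2,3,4,1,2,3,0,1,2,5,6,5,2,1,0,3,2,1,4,3,2,5,2,3,4,1,2,3,0,1,2,5,6,5,2,1,0,3,2,1,4,3,2,5,2,3,4,1,2,3,0,1,2,5,2,5,2,1,0,3,2,1,4,3,2,5,2,3,4,1,2,3,0,1,2,5,6,5,2,1,0,3,2,1])
 (Tr.leaf [2,1,4,3,2,5,2,3,4,1,2,3,0,1,2,5,6,5,2,1,0,3,2,1,4,3,2,5,2,3,4,1,2,3,0,1,2,5,6,5,2,1,0,3,2,1,4,3,2,5,2,3,4,1,2,3,0,1,2,5,6,6,6,5,2,1,0,3,2,1,4,3,2,5,2,3,4,1,2,3,0,1,2,5,6,5,2,1,0,3,2,1,4,3,2,5,2,3,4,1,2,3,0,1,2,5,6,5,2,1,0,3,2,1,4,3,2,5,2,3,4,1,2,3,0,1,2,5,6,5,2,1,0,3]))))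
 (Tr.node (Tr.node (Tr.node (Tr.leaf [6,5,2,1,0,3,2,1,4,3,2,5,2,3,4,1,2,3,0,1,2,5,0,5,2,1,0,3,2,1,4,3,2,5,2,3,4,1,2,3,0,1,2,5,6,5,2,1,0,3,2,1,4,3,2,5,2,3,4,1,2,3,0,1,2,5,6,5,2,1,0,3,2,1,4,3,2,5,2,3,4,1,2,3,0,1,2,5,6,0,6,5,2,1,0,3,2,1,4,3,2,5,2,3,4,1,2,3,0,1,2,5,6,5,2,1,0,3,2,1,4,3,2,5,2,3,4,1,2,3,0,1,2,5])
 (Tr.leaf [2,5,6,5,2,1,0,3,2,1,4,3,2,5,2,3,4,1,2,3,0,1,2,5,6,5,2,1,0,3,2,1,4,3,2,5,2,3,4,1,2,3,0,1,2,5,4,5,2,1,0,3,2,1,4,3,2,5,2,3,4,1,2,3,0,1,2,5,6,5,2,1,0,3,2,1,4,3,2,5,2,3,4,1,2,3,0,1,2,5,6,5,2,1,0,3,2,1,4,3,2,5,2,3,4,1,2,3,0,1,2,5,6,4,6,5,2,1,0,3,2,1,4,3,2,5,2,3,4,1,2,3,0,1]))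
 (Tr.node (Tr.leaf [2,5,2,3,4,1,2,3,0,1,2,5,6,5,2,1,0,3,2,1,4,3,2,5,2,3,4,1,2,3,0,1,2,5,2,5,2,1,0,3,2,1,4,3,2,5,2,3,4,1,2,3,0,1,2,5,6,5,2,1,0,3,2,1,4,3,2,5,2,3,4,1,2,3,0,1,2,5,6,5,2,1,0,3,2,1,4,3,2,5,2,3,4,1,2,3,0,1,2,5,6,2,6,5,2,1,0,3,2,1,4,3,2,5,2,3,4,1,2,3,0,1,2,5,6,5,2,1,0,3,2,1,4,3])
 (Tr.leaf [4,3,2,5,2,3,4,1,2,3,0,1,2,5,6,5,2,1,0,3,2,1,4,3,2,5,2,3,4,1,2,3,0,1,2,5,6,5,2,1,0,3,2,1,4,3,2,5,2,3,4,1,2,3,0,1,2,5,6,5,2,1,0,3,2,1,4,3,2,5,2,3,4,1,2,3,0,1,2,5,6,5,2,1,0,3,2,1,4,3,2,5,2,3,4,1,2,3,0,1,2,5,6,5,2,1,0,3,2,1,4,3,2,5,2,3,4,1,2,3,0,1,2,5,6,6,6,5,2,1,0,3,2,1])))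
 (Tr.node (Tr.node (Tr.leaf [2,3,0,1,2,5,6,5,2,1,0,3,2,1,4,3,2,5,2,3,4,1,2,3,0,1,2,5,1,5,2,1,0,3,2,1,4,3,2,5,2,3,4,1,2,3,0,1,2,5,6,5,2,1,0,3,2,1,4,3,2,5,2,3,4,1,2,3,0,1,2,5,6,5,2,1,0,3,2,1,4,3,2,5,2,3,4,1,2,3,0,1,2,5,6,1,6,5,2,1,0,3,2,1,4,3,2,5,2,3,4,1,2,3,0,1,2,5,6,5,2,1,0,3,2,1,4,3,2,5,2,3,4,1])
 (Tr.leaf [4,1,2,3,0,1,2,5,6,5,2,1,0,3,2,1,4,3,2,5,2,3,4,1,2,3,0,1,2,5,6,5,2,1,0,3,2,1,4,3,2,5,2,3,4,1,2,3,0,1,2,5,5,5,2,1,0,3,2,1,4,3,2,5,2,3,4,1,2,3,0,1,2,5,6,5,2,1,0,3,2,1,4,3,2,5,2,3,4,1,2,3,0,1,2,5,6,5,2,1,0,3,2,1,4,3,2,5,2,3,4,1,2,3,0,1,2,5,6,5,6,5,2,1,0,3,2,1,4,3,2,5,2,3]))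
 (Tr.node (Tr.leaf [0,3,2,1,4,3,2,5,2,3,4,1,2,3,0,1,2,5,6,5,2,1,0,3,2,1,4,3,2,5,2,3,4,1,2,3,0,1,2,5,3,5,2,1,0,3,2,1,4,3,2,5,2,3,4,1,2,3,0,1,2,5,6,5,2,1,0,3,2,1,4,3,2,5,2,3,4,1,2,3,0,1,2,5,6,5,2,1,0,3,2,1,4,3,2,5,2,3,4,1,2,3,0,1,2,5,6,3,6,5,2,1,0,3,2,1,4,3,2,5,2,3,4,1,2,3,0,1,2,5,6,5,2,1])
 (Tr.leaf [6,6,6,5,2,1,0,3,2,1,4,3,2,5,2,3,4,1,2,3,0,1,2,5,6,5,2,1,0,3,2,1,4,3,2,5,2,3,4,1,2,3,0,1,2,5,6,5,2,1,0,3,2,1,4,3,2,5,2,3,4,1,2,3,0,1,2,5,6,5,2,1,0,3,2,1,4,3,2,5,2,3,4,1,2,3,0,1,2,5,6,5,2,1,0,3,2,1,4,3,2,5,2,3,4,1,2,3,0,1,2,5,6,5,2,1,0,3,2,1,4,3,2,5,2,3,4,1,2,3,0,1,2,5])))))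
 (Tr.node (Tr.node (Tr.node (Tr.node (Tr.leaf [2,3,4,1,2,3,0,1,2,5,6,5,2,1,0,3,2,1,4,3,2,5,2,3,4,1,2,3,0,1,2,5,6,5,2,1,0,3,2,1,4,3,2,5,2,3,4,1,2,3,0,1,2,5,0,5,2,1,0,3,2,1,4,3,2,5,2,3,4,1,2,3,0,1,2,5,6,5,2,1,0,3,2,1,4,3,2,5,2,3,4,1,2,3,0,1,2,5,6,5,2,1,0,3,2,1,4,3,2,5,2,3,4,1,2,3,0,1,2,5,6,0,6,5,2,1,0,3,2,1,4,3,2,5])
 (Tr.leaf [2,3,4,1,2,3,0,1,2,5,6,3,6,5,2,1,0,3,2,1,4,3,2,5,2,3,4,1,2,3,0,1,2,5,6,5,2,1,0,3,2,1,4,3,2,5,2,3,4,1,2,3,0,1,2,5,6,5,2,1,0,3,2,1,4,3,2,5,2,3,4,1,2,3,0,1,2,5,3,5,2,1,0,3,2,1,4,3,2,5,2,3,4,1,2,3,0,1,2,5,6,5,2,1,0,3,2,1,4,3,2,5,2,3,4,1,2,3,0,1,2,5,6,5,2,1,0,3,2,1,4,3,2,5]))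
 (Tr.node (Tr.leaf [2,6,5,2,1,0,3,2,1,4,3,2,5,2,3,4,1,2,3,0,1,2,5,6,5,2,1,0,3,2,1,4,3,2,5,2,3,4,1,2,3,0,1,2,5,6,5,2,1,0,3,2,1,4,3,2,5,2,3,4,1,2,3,0,1,2,5,2,5,2,1,0,3,2,1,4,3,2,5,2,3,4,1,2,3,0,1,2,5,6,5,2,1,0,3,2,1,4,3,2,5,2,3,4,1,2,3,0,1,2,5,6,5,2,1,0,3,2,1,4,3,2,5,2,3,4,1,2,3,0,1,2,5,6])
 (Tr.leaf [6,5,2,1,0,3,2,1,4,3,2,5,2,3,4,1,2,3,0,1,2,5,6,5,6,5,2,1,0,3,2,1,4,3,2,5,2,3,4,1,2,3,0,1,2,5,6,5,2,1,0,3,2,1,4,3,2,5,2,3,4,1,2,3,0,1,2,5,6,5,2,1,0,3,2,1,4,3,2,5,2,3,4,1,2,3,0,1,2,5,5,5,2,1,0,3,2,1,4,3,2,5,2,3,4,1,2,3,0,1,2,5,6,5,2,1,0,3,2,1,4,3,2,5,2,3,4,1,2,3,0,1,2,5])))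
 (Tr.node (Tr.node (Tr.leaf [2,1,4,3,2,5,2,3,4,1,2,3,0,1,2,5,6,5,2,1,0,3,2,1,4,3,2,5,2,3,4,1,2,3,0,1,2,5,6,5,2,1,0,3,2,1,4,3,2,5,2,3,4,1,2,3,0,1,2,5,1,5,2,1,0,3,2,1,4,3,2,5,2,3,4,1,2,3,0,1,2,5,6,5,2,1,0,3,2,1,4,3,2,5,2,3,4,1,2,3,0,1,2,5,6,5,2,1,0,3,2,1,4,3,2,5,2,3,4,1,2,3,0,1,2,5,6,1,6,5,2,1,0,3])
 (Tr.leaf [2,1,4,3,2,5,2,3,4,1,2,3,0,1,2,5,6,4,6,5,2,1,0,3,2,1,4,3,2,5,2,3,4,1,2,3,0,1,2,5,6,5,2,1,0,3,2,1,4,3,2,5,2,3,4,1,2,3,0,1,2,5,6,5,2,1,0,3,2,1,4,3,2,5,2,3,4,1,2,3,0,1,2,5,4,5,2,1,0,3,2,1,4,3,2,5,2,3,4,1,2,3,0,1,2,5,6,5,2,1,0,3,2,1,4,3,2,5,2,3,4,1,2,3,0,1,2,5,6,5,2,1,0,3]))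
 (Tr.node (Tr.leaf [0,1,2,5,6,2,6,5,2,1,0,3,2,1,4,3,2,5,2,3,4,1,2,3,0,1,2,5,6,5,2,1,0,3,2,1,4,3,2,5,2,3,4,1,2,3,0,1,2,5,6,5,2,1,0,3,2,1,4,3,2,5,2,3,4,1,2,3,0,1,2,5,2,5,2,1,0,3,2,1,4,3,2,5,2,3,4,1,2,3,0,1,2,5,6,5,2,1,0,3,2,1,4,3,2,5,2,3,4,1,2,3,0,1,2,5,6,5,2,1,0,3,2,1,4,3,2,5,2,3,4,1,2,3])
 (Tr.leaf [2,3,0,1,2,5,6,5,2,1,0,3,2,1,4,3,2,5,2,3,4,1,2,3,0,1,2,5,6,6,6,5,2,1,0,3,2,1,4,3,2,5,2,3,4,1,2,3,0,1,2,5,6,5,2,1,0,3,2,1,4,3,2,5,2,3,4,1,2,3,0,1,2,5,6,5,2,1,0,3,2,1,4,3,2,5,2,3,4,1,2,3,0,1,2,5,6,5,2,1,0,3,2,1,4,3,2,5,2,3,4,1,2,3,0,1,2,5,6,5,2,1,0,3,2,1,4,3,2,5,2,3,4,1]))))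
 (Tr.node (Tr.node (Tr.node (Tr.leaf [2,5,2,3,4,1,2,3,0,1,2,5,6,5,2,1,0,3,2,1,4,3,2,5,2,3,4,1,2,3,0,1,2,5,6,5,2,1,0,3,2,1,4,3,2,5,2,3,4,1,2,3,0,1,2,5,6,0,6,5,2,1,0,3,2,1,4,3,2,5,2,3,4,1,2,3,0,1,2,5,6,5,2,1,0,3,2,1,4,3,2,5,2,3,4,1,2,3,0,1,2,5,6,5,2,1,0,3,2,1,4,3,2,5,2,3,4,1,2,3,0,1,2,5,0,5,2,1,0,3,2,1,4,3])
 (Tr.leaf [4,3,2,5,2,3,4,1,2,3,0,1,2,5,4,5,2,1,0,3,2,1,4,3,2,5,2,3,4,1,2,3,0,1,2,5,6,5,2,1,0,3,2,1,4,3,2,5,2,3,4,1,2,3,0,1,2,5,6,5,2,1,0,3,2,1,4,3,2,5,2,3,4,1,2,3,0,1,2,5,6,4,6,5,2,1,0,3,2,1,4,3,2,5,2,3,4,1,2,3,0,1,2,5,6,5,2,1,0,3,2,1,4,3,2,5,2,3,4,1,2,3,0,1,2,5,6,5,2,1,0,3,2,1]))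
 (Tr.node (Tr.leaf [2,5,2,5,2,1,0,3,2,1,4,3,2,5,2,3,4,1,2,3,0,1,2,5,6,5,2,1,0,3,2,1,4,3,2,5,2,3,4,1,2,3,0,1,2,5,6,5,2,1,0,3,2,1,4,3,2,5,2,3,4,1,2,3,0,1,2,5,6,2,6,5,2,1,0,3,2,1,4,3,2,5,2,3,4,1,2,3,0,1,2,5,6,5,2,1,0,3,2,1,4,3,2,5,2,3,4,1,2,3,0,1,2,5,6,5,2,1,0,3,2,1,4,3,2,5,2,3,4,1,2,3,0,1])
 (Tr.leaf [0,1,2,5,6,5,2,1,0,3,2,1,4,3,2,5,2,3,4,1,2,3,0,1,2,5,6,5,2,1,0,3,2,1,4,3,2,5,2,3,4,1,2,3,0,1,2,5,6,5,2,1,0,3,2,1,4,3,2,5,2,3,4,1,2,3,0,1,2,5,6,5,2,1,0,3,2,1,4,3,2,5,2,3,4,1,2,3,0,1,2,5,6,6,6,5,2,1,0,3,2,1,4,3,2,5,2,3,4,1,2,3,0,1,2,5,6,5,2,1,0,3,2,1,4,3,2,5,2,3,4,1,2,3])))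
 (Tr.node (Tr.node (Tr.leaf [0,3,2,1,4,3,2,5,2,3,4,1,2,3,0,1,2,5,6,5,2,1,0,3,2,1,4,3,2,5,2,3,4,1,2,3,0,1,2,5,6,5,2,1,0,3,2,1,4,3,2,5,2,3,4,1,2,3,0,1,2,5,6,1,6,5,2,1,0,3,2,1,4,3,2,5,2,3,4,1,2,3,0,1,2,5,6,5,2,1,0,3,2,1,4,3,2,5,2,3,4,1,2,3,0,1,2,5,6,5,2,1,0,3,2,1,4,3,2,5,2,3,4,1,2,3,0,1,2,5,1,5,2,1])
 (Tr.leaf [2,1,0,3,2,1,4,3,2,5,2,3,4,1,2,3,0,1,2,5,5,5,2,1,0,3,2,1,4,3,2,5,2,3,4,1,2,3,0,1,2,5,6,5,2,1,0,3,2,1,4,3,2,5,2,3,4,1,2,3,0,1,2,5,6,5,2,1,0,3,2,1,4,3,2,5,2,3,4,1,2,3,0,1,2,5,6,5,6,5,2,1,0,3,2,1,4,3,2,5,2,3,4,1,2,3,0,1,2,5,6,5,2,1,0,3,2,1,4,3,2,5,2,3,4,1,2,3,0,1,2,5,6,5]))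
 (Tr.node (Tr.leaf [4,1,2,3,0,1,2,5,3,5,2,1,0,3,2,1,4,3,2,5,2,3,4,1,2,3,0,1,2,5,6,5,2,1,0,3,2,1,4,3,2,5,2,3,4,1,2,3,0,1,2,5,6,5,2,1,0,3,2,1,4,3,2,5,2,3,4,1,2,3,0,1,2,5,6,3,6,5,2,1,0,3,2,1,4,3,2,5,2,3,4,1,2,3,0,1,2,5,6,5,2,1,0,3,2,1,4,3,2,5,2,3,4,1,2,3,0,1,2,5,6,5,2,1,0,3,2,1,4,3,2,5,2,3])
 (Tr.leaf [6,6,6,5,2,1,0,3,2,1,4,3,2,5,2,3,4,1,2,3,0,1,2,5,6,5,2,1,0,3,2,1,4,3,2,5,2,3,4,1,2,3,0,1,2,5,6,5,2,1,0,3,2,1,4,3,2,5,2,3,4,1,2,3,0,1,2,5,6,5,2,1,0,3,2,1,4,3,2,5,2,3,4,1,2,3,0,1,2,5,6,5,2,1,0,3,2,1,4,3,2,5,2,3,4,1,2,3,0,1,2,5,6,5,2,1,0,3,2,1,4,3,2,5,2,3,4,1,2,3,0,1,2,5])))))))))))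

/-- The subgroup rotations. -/
noncomputable def srotT : Tr (List Nat × Nat × List Nat) := (Tr.node (Tr.node (Tr.node (Tr.leaf ([],0,[]))
 (Tr.leaf ([],4,[])))
 (Tr.node (Tr.leaf ([],2,[]))
 (Tr.leaf ([],5,[]))))
 (Tr.node (Tr.node (Tr.leaf ([],1,[]))
 (Tr.leaf ([],5,[])))
 (Tr.node (Tr.leaf ([],3,[]))
 (Tr.leaf ([],5,[])))))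

/-- The certificate. -/
noncomputable def cert : Cert :=
  mkCert 7 741 5130 3 988 994 4 15 297 34 238 284 17179869183 70368744177663 13 10 8191 1023 23 20 7 ctree.get rotT.get srotT.get

/-- The witnesses of the rotations. -/
noncomputable def witT : Tr (Nat × Nat × Bool) := (Tr.node (Tr.node (Tr.node (Tr.node (Tr.node (Tr.node (Tr.node (Tr.node (Tr.node (Tr.node (Tr.leaf (0,0,false))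
 (Tr.leaf (31,59,false)))
 (Tr.node (Tr.leaf (29,71,false))
 (Tr.leaf (33,47,false))))
 (Tr.node (Tr.node (Tr.leaf (28,77,false))
 (Tr.leaf (32,53,false)))
 (Tr.node (Tr.leaf (30,65,false))
 (Tr.leaf (34,41,false)))))
 (Tr.node (Tr.node (Tr.node (Tr.leaf (28,13,false))
 (Tr.leaf (31,123,false)))
 (Tr.node (Tr.leaf (30,1,false))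
 (Tr.leaf (33,111,false))))
 (Tr.node (Tr.node (Tr.leaf (29,7,false))
 (Tr.leaf (32,117,false)))
 (Tr.node (Tr.leaf (30,129,false))
 (Tr.leaf (34,105,false))))))
 (Tr.node (Tr.node (Tr.node (Tr.node (Tr.leaf (19,0,false))
 (Tr.leaf (31,91,false)))
 (Tr.node (Tr.leaf (29,103,false))
 (Tr.leaf (33,79,false))))
 (Tr.node (Tr.node (Tr.leaf (28,109,false))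
 (Tr.leaf (32,85,false)))
 (Tr.node (Tr.leaf (30,97,false))
 (Tr.leaf (34,73,false)))))
 (Tr.node (Tr.node (Tr.node (Tr.leaf (28,45,false))
 (Tr.leaf (32,21,false)))
 (Tr.node (Tr.leaf (30,33,false))
 (Tr.leaf (34,9,false))))
 (Tr.node (Tr.node (Tr.leaf (29,39,false))
 (Tr.leaf (33,15,false)))
 (Tr.node (Tr.leaf (31,27,false))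
 (Tr.leaf (34,132,false)))))))
 (Tr.node (Tr.node (Tr.node (Tr.node (Tr.node (Tr.leaf (11,0,false))
 (Tr.leaf (31,75,false)))
 (Tr.node (Tr.leaf (29,87,false))
 (Tr.leaf (33,63,false))))
 (Tr.node (Tr.node (Tr.leaf (28,93,false))
 (Tr.leaf (32,69,false)))
 (Tr.node (Tr.leaf (30,81,false))
 (Tr.leaf (34,57,false)))))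
 (Tr.node (Tr.node (Tr.node (Tr.leaf (28,29,false))
 (Tr.leaf (32,5,false)))
 (Tr.node (Tr.leaf (30,17,false))
 (Tr.leaf (33,127,false))))
 (Tr.node (Tr.node (Tr.leaf (29,23,false))
 (Tr.leaf (33,0,false)))
 (Tr.node (Tr.leaf (31,11,false))
 (Tr.leaf (34,121,false))))))
 (Tr.node (Tr.node (Tr.node (Tr.node (Tr.leaf (27,0,false))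
 (Tr.leaf (31,107,false)))
 (Tr.node (Tr.leaf (29,119,false))
 (Tr.leaf (33,95,false))))
 (Tr.node (Tr.node (Tr.leaf (28,125,false))
 (Tr.leaf (32,101,false)))
 (Tr.node (Tr.leaf (30,113,false))
 (Tr.leaf (34,89,false)))))
 (Tr.node (Tr.node (Tr.node (Tr.leaf (28,61,false))
 (Tr.leaf (32,37,false)))
 (Tr.node (Tr.leaf (30,49,false))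
 (Tr.leaf (34,25,false))))
 (Tr.node (Tr.node (Tr.leaf (29,55,false))
 (Tr.leaf (33,31,false)))
 (Tr.node (Tr.leaf (31,43,false))
 (Tr.leaf (34,132,false))))))))
 (Tr.node (Tr.node (Tr.node (Tr.node (Tr.node (Tr.node (Tr.leaf (7,0,false))
 (Tr.leaf (31,67,false)))
 (Tr.node (Tr.leaf (29,79,false))
 (Tr.leaf (33,55,false))))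
 (Tr.node (Tr.node (Tr.leaf (28,85,false))
 (Tr.leaf (32,61,false)))
 (Tr.node (Tr.leaf (30,73,false))
 (Tr.leaf (34,49,false)))))
 (Tr.node (Tr.node (Tr.node (Tr.leaf (28,21,false))
 (Tr.leaf (31,131,false)))
 (Tr.node (Tr.leaf (30,9,false))
 (Tr.leaf (33,119,false))))
 (Tr.node (Tr.node (Tr.leaf (29,15,false))
 (Tr.leaf (32,125,false)))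
 (Tr.node (Tr.leaf (31,3,false))
 (Tr.leaf (34,113,false))))))
 (Tr.node (Tr.node (Tr.node (Tr.node (Tr.leaf (23,0,false))
 (Tr.leaf (31,99,false)))
 (Tr.node (Tr.leaf (29,111,false))
 (Tr.leaf (33,87,false))))
 (Tr.node (Tr.node (Tr.leaf (28,117,false))
 (Tr.leaf (32,93,false)))
 (Tr.node (Tr.leaf (30,105,false))
 (Tr.leaf (34,81,false)))))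
 (Tr.node (Tr.node (Tr.node (Tr.leaf (28,53,false))
 (Tr.leaf (32,29,false)))
 (Tr.node (Tr.leaf (30,41,false))
 (Tr.leaf (34,17,false))))
 (Tr.node (Tr.node (Tr.leaf (29,47,false))
 (Tr.leaf (33,23,false)))
 (Tr.node (Tr.leaf (31,35,false))
 (Tr.leaf (34,132,false)))))))
 (Tr.node (Tr.node (Tr.node (Tr.node (Tr.node (Tr.leaf (15,0,false))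
 (Tr.leaf (31,83,false)))
 (Tr.node (Tr.leaf (29,95,false))
 (Tr.leaf (33,71,false))))
 (Tr.node (Tr.node (Tr.leaf (28,101,false))
 (Tr.leaf (32,77,false)))
 (Tr.node (Tr.leaf (30,89,false))
 (Tr.leaf (34,65,false)))))
 (Tr.node (Tr.node (Tr.node (Tr.leaf (28,37,false))
 (Tr.leaf (32,13,false)))
 (Tr.node (Tr.leaf (30,25,false))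
 (Tr.leaf (34,1,false))))
 (Tr.node (Tr.node (Tr.leaf (29,31,false))
 (Tr.leaf (33,7,false)))
 (Tr.node (Tr.leaf (31,19,false))
 (Tr.leaf (34,129,false))))))
 (Tr.node (Tr.node (Tr.node (Tr.node (Tr.leaf (28,5,false))
 (Tr.leaf (31,115,false)))
 (Tr.node (Tr.leaf (29,127,false))
 (Tr.leaf (33,103,false))))
 (Tr.node (Tr.node (Tr.leaf (29,0,false))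
 (Tr.leaf (32,109,false)))
 (Tr.node (Tr.leaf (30,121,false))
 (Tr.leaf (34,97,false)))))
 (Tr.node (Tr.node (Tr.node (Tr.leaf (28,69,false))
 (Tr.leaf (32,45,false)))
 (Tr.node (Tr.leaf (30,57,false))
 (Tr.leaf (34,33,false))))
 (Tr.node (Tr.node (Tr.leaf (29,63,false))
 (Tr.leaf (33,39,false)))
 (Tr.node (Tr.leaf (31,51,false))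
 (Tr.leaf (34,132,false)))))))))
 (Tr.node (Tr.node (Tr.node (Tr.node (Tr.node (Tr.node (Tr.node (Tr.leaf (3,0,false))
 (Tr.leaf (31,63,false)))
 (Tr.node (Tr.leaf (29,75,false))
 (Tr.leaf (33,51,false))))
 (Tr.node (Tr.node (Tr.leaf (28,81,false))
 (Tr.leaf (32,57,false)))
 (Tr.node (Tr.leaf (30,69,false))
 (Tr.leaf (34,45,false)))))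
 (Tr.node (Tr.node (Tr.node (Tr.leaf (28,17,false))
 (Tr.leaf (31,127,false)))
 (Tr.node (Tr.leaf (30,5,false))
 (Tr.leaf (33,115,false))))
 (Tr.node (Tr.node (Tr.leaf (29,11,false))
 (Tr.leaf (32,121,false)))
 (Tr.node (Tr.leaf (31,0,false))
 (Tr.leaf (34,109,false))))))
 (Tr.node (Tr.node (Tr.node (Tr.node (Tr.leaf (21,0,false))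
 (Tr.leaf (31,95,false)))
 (Tr.node (Tr.leaf (29,107,false))
 (Tr.leaf (33,83,false))))
 (Tr.node (Tr.node (Tr.leaf (28,113,false))
 (Tr.leaf (32,89,false)))
 (Tr.node (Tr.leaf (30,101,false))
 (Tr.leaf (34,77,false)))))
 (Tr.node (Tr.node (Tr.node (Tr.leaf (28,49,false))
 (Tr.leaf (32,25,false)))
 (Tr.node (Tr.leaf (30,37,false))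
 (Tr.leaf (34,13,false))))
 (Tr.node (Tr.node (Tr.leaf (29,43,false))
 (Tr.leaf (33,19,false)))
 (Tr.node (Tr.leaf (31,31,false))
 (Tr.leaf (34,132,false)))))))
 (Tr.node (Tr.node (Tr.node (Tr.node (Tr.node (Tr.leaf (13,0,false))
 (Tr.leaf (31,79,false)))
 (Tr.node (Tr.leaf (29,91,false))
 (Tr.leaf (33,67,false))))
 (Tr.node (Tr.node (Tr.leaf (28,97,false))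
 (Tr.leaf (32,73,false)))
 (Tr.node (Tr.leaf (30,85,false))
 (Tr.leaf (34,61,false)))))
 (Tr.node (Tr.node (Tr.node (Tr.leaf (28,33,false))
 (Tr.leaf (32,9,false)))
 (Tr.node (Tr.leaf (30,21,false))
 (Tr.leaf (33,131,false))))
 (Tr.node (Tr.node (Tr.leaf (29,27,false))
 (Tr.leaf (33,3,false)))
 (Tr.node (Tr.leaf (31,15,false))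
 (Tr.leaf (34,125,false))))))
 (Tr.node (Tr.node (Tr.node (Tr.node (Tr.leaf (28,1,false))
 (Tr.leaf (31,111,false)))
 (Tr.node (Tr.leaf (29,123,false))
 (Tr.leaf (33,99,false))))
 (Tr.node (Tr.node (Tr.leaf (28,129,false))
 (Tr.leaf (32,105,false)))
 (Tr.node (Tr.leaf (30,117,false))
 (Tr.leaf (34,93,false)))))
 (Tr.node (Tr.node (Tr.node (Tr.leaf (28,65,false))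
 (Tr.leaf (32,41,false)))
 (Tr.node (Tr.leaf (30,53,false))
 (Tr.leaf (34,29,false))))
 (Tr.node (Tr.node (Tr.leaf (29,59,false))
 (Tr.leaf (33,35,false)))
 (Tr.node (Tr.leaf (31,47,false))
 (Tr.leaf (34,132,false))))))))
 (Tr.node (Tr.node (Tr.node (Tr.node (Tr.node (Tr.node (Tr.leaf (9,0,false))
 (Tr.leaf (31,71,false)))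
 (Tr.node (Tr.leaf (29,83,false))
 (Tr.leaf (33,59,false))))
 (Tr.node (Tr.node (Tr.leaf (28,89,false))
 (Tr.leaf (32,65,false)))
 (Tr.node (Tr.leaf (30,77,false))
 (Tr.leaf (34,53,false)))))
 (Tr.node (Tr.node (Tr.node (Tr.leaf (28,25,false))
 (Tr.leaf (32,1,false)))
 (Tr.node (Tr.leaf (30,13,false))
 (Tr.leaf (33,123,false))))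
 (Tr.node (Tr.node (Tr.leaf (29,19,false))
 (Tr.leaf (32,129,false)))
 (Tr.node (Tr.leaf (31,7,false))
 (Tr.leaf (34,117,false))))))
 (Tr.node (Tr.node (Tr.node (Tr.node (Tr.leaf (25,0,false))
 (Tr.leaf (31,103,false)))
 (Tr.node (Tr.leaf (29,115,false))
 (Tr.leaf (33,91,false))))
 (Tr.node (Tr.node (Tr.leaf (28,121,false))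
 (Tr.leaf (32,97,false)))
 (Tr.node (Tr.leaf (30,109,false))
 (Tr.leaf (34,85,false)))))
 (Tr.node (Tr.node (Tr.node (Tr.leaf (28,57,false))
 (Tr.leaf (32,33,false)))
 (Tr.node (Tr.leaf (30,45,false))
 (Tr.leaf (34,21,false))))
 (Tr.node (Tr.node (Tr.leaf (29,51,false))
 (Tr.leaf (33,27,false)))
 (Tr.node (Tr.leaf (31,39,false))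
 (Tr.leaf (34,132,false)))))))
 (Tr.node (Tr.node (Tr.node (Tr.node (Tr.node (Tr.leaf (17,0,false))
 (Tr.leaf (31,87,false)))
 (Tr.node (Tr.leaf (29,99,false))
 (Tr.leaf (33,75,false))))
 (Tr.node (Tr.node (Tr.leaf (28,105,false))
 (Tr.leaf (32,81,false)))
 (Tr.node (Tr.leaf (30,93,false))
 (Tr.leaf (34,69,false)))))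
 (Tr.node (Tr.node (Tr.node (Tr.leaf (28,41,false))
 (Tr.leaf (32,17,false)))
 (Tr.node (Tr.leaf (30,29,false))
 (Tr.leaf (34,5,false))))
 (Tr.node (Tr.node (Tr.leaf (29,35,false))
 (Tr.leaf (33,11,false)))
 (Tr.node (Tr.leaf (31,23,false))
 (Tr.leaf (34,132,false))))))
 (Tr.node (Tr.node (Tr.node (Tr.node (Tr.leaf (28,9,false))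
 (Tr.leaf (31,119,false)))
 (Tr.node (Tr.leaf (29,131,false))
 (Tr.leaf (33,107,false))))
 (Tr.node (Tr.node (Tr.leaf (29,3,false))
 (Tr.leaf (32,113,false)))
 (Tr.node (Tr.leaf (30,125,false))
 (Tr.leaf (34,101,false)))))
 (Tr.node (Tr.node (Tr.node (Tr.leaf (28,73,false))
 (Tr.leaf (32,49,false)))
 (Tr.node (Tr.leaf (30,61,false))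
 (Tr.leaf (34,37,false))))
 (Tr.node (Tr.node (Tr.leaf (29,67,false))
 (Tr.leaf (33,43,false)))
 (Tr.node (Tr.leaf (31,55,false))
 (Tr.leaf (34,132,false))))))))))
 (Tr.node (Tr.node (Tr.node (Tr.node (Tr.node (Tr.node (Tr.node (Tr.node (Tr.leaf (1,0,false))
 (Tr.leaf (31,61,false)))
 (Tr.node (Tr.leaf (29,73,false))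
 (Tr.leaf (33,49,false))))
 (Tr.node (Tr.node (Tr.leaf (28,79,false))
 (Tr.leaf (32,55,false)))
 (Tr.node (Tr.leaf (30,67,false))
 (Tr.leaf (34,43,false)))))
 (Tr.node (Tr.node (Tr.node (Tr.leaf (28,15,false))
 (Tr.leaf (31,125,false)))
 (Tr.node (Tr.leaf (30,3,false))
 (Tr.leaf (33,113,false))))
 (Tr.node (Tr.node (Tr.leaf (29,9,false))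
 (Tr.leaf (32,119,false)))
 (Tr.node (Tr.leaf (30,131,false))
 (Tr.leaf (34,107,false))))))
 (Tr.node (Tr.node (Tr.node (Tr.node (Tr.leaf (20,0,false))
 (Tr.leaf (31,93,false)))
 (Tr.node (Tr.leaf (29,105,false))
 (Tr.leaf (33,81,false))))
 (Tr.node (Tr.node (Tr.leaf (28,111,false))
 (Tr.leaf (32,87,false)))
 (Tr.node (Tr.leaf (30,99,false))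
 (Tr.leaf (34,75,false)))))
 (Tr.node (Tr.node (Tr.node (Tr.leaf (28,47,false))
 (Tr.leaf (32,23,false)))
 (Tr.node (Tr.leaf (30,35,false))
 (Tr.leaf (34,11,false))))
 (Tr.node (Tr.node (Tr.leaf (29,41,false))
 (Tr.leaf (33,17,false)))
 (Tr.node (Tr.leaf (31,29,false))
 (Tr.leaf (34,132,false)))))))
 (Tr.node (Tr.node (Tr.node (Tr.node (Tr.node (Tr.leaf (12,0,false))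
 (Tr.leaf (31,77,false)))
 (Tr.node (Tr.leaf (29,89,false))
 (Tr.leaf (33,65,false))))
 (Tr.node (Tr.node (Tr.leaf (28,95,false))
 (Tr.leaf (32,71,false)))
 (Tr.node (Tr.leaf (30,83,false))
 (Tr.leaf (34,59,false)))))
 (Tr.node (Tr.node (Tr.node (Tr.leaf (28,31,false))
 (Tr.leaf (32,7,false)))
 (Tr.node (Tr.leaf (30,19,false))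
 (Tr.leaf (33,129,false))))
 (Tr.node (Tr.node (Tr.leaf (29,25,false))
 (Tr.leaf (33,1,false)))
 (Tr.node (Tr.leaf (31,13,false))
 (Tr.leaf (34,123,false))))))
 (Tr.node (Tr.node (Tr.node (Tr.node (Tr.leaf (28,0,false))
 (Tr.leaf (31,109,false)))
 (Tr.node (Tr.leaf (29,121,false))
 (Tr.leaf (33,97,false))))
 (Tr.node (Tr.node (Tr.leaf (28,127,false))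
 (Tr.leaf (32,103,false)))
 (Tr.node (Tr.leaf (30,115,false))
 (Tr.leaf (34,91,false)))))
 (Tr.node (Tr.node (Tr.node (Tr.leaf (28,63,false))
 (Tr.leaf (32,39,false)))
 (Tr.node (Tr.leaf (30,51,false))
 (Tr.leaf (34,27,false))))
 (Tr.node (Tr.node (Tr.leaf (29,57,false))
 (Tr.leaf (33,33,false)))
 (Tr.node (Tr.leaf (31,45,false))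
 (Tr.leaf (34,132,false))))))))
 (Tr.node (Tr.node (Tr.node (Tr.node (Tr.node (Tr.node (Tr.leaf (8,0,false))
 (Tr.leaf (31,69,false)))
 (Tr.node (Tr.leaf (29,81,false))
 (Tr.leaf (33,57,false))))
 (Tr.node (Tr.node (Tr.leaf (28,87,false))
 (Tr.leaf (32,63,false)))
 (Tr.node (Tr.leaf (30,75,false))
 (Tr.leaf (34,51,false)))))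
 (Tr.node (Tr.node (Tr.node (Tr.leaf (28,23,false))
 (Tr.leaf (32,0,false)))
 (Tr.node (Tr.leaf (30,11,false))
 (Tr.leaf (33,121,false))))
 (Tr.node (Tr.node (Tr.leaf (29,17,false))
 (Tr.leaf (32,127,false)))
 (Tr.node (Tr.leaf (31,5,false))
 (Tr.leaf (34,115,false))))))
 (Tr.node (Tr.node (Tr.node (Tr.node (Tr.leaf (24,0,false))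
 (Tr.leaf (31,101,false)))
 (Tr.node (Tr.leaf (29,113,false))
 (Tr.leaf (33,89,false))))
 (Tr.node (Tr.node (Tr.leaf (28,119,false))
 (Tr.leaf (32,95,false)))
 (Tr.node (Tr.leaf (30,107,false))
 (Tr.leaf (34,83,false)))))
 (Tr.node (Tr.node (Tr.node (Tr.leaf (28,55,false))
 (Tr.leaf (32,31,false)))
 (Tr.node (Tr.leaf (30,43,false))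
 (Tr.leaf (34,19,false))))
 (Tr.node (Tr.node (Tr.leaf (29,49,false))
 (Tr.leaf (33,25,false)))
 (Tr.node (Tr.leaf (31,37,false))
 (Tr.leaf (34,132,false)))))))
 (Tr.node (Tr.node (Tr.node (Tr.node (Tr.node (Tr.leaf (16,0,false))
 (Tr.leaf (31,85,false)))
 (Tr.node (Tr.leaf (29,97,false))
 (Tr.leaf (33,73,false))))
 (Tr.node (Tr.node (Tr.leaf (28,103,false))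
 (Tr.leaf (32,79,false)))
 (Tr.node (Tr.leaf (30,91,false))
 (Tr.leaf (34,67,false)))))
 (Tr.node (Tr.node (Tr.node (Tr.leaf (28,39,false))
 (Tr.leaf (32,15,false)))
 (Tr.node (Tr.leaf (30,27,false))
 (Tr.leaf (34,3,false))))
 (Tr.node (Tr.node (Tr.leaf (29,33,false))
 (Tr.leaf (33,9,false)))
 (Tr.node (Tr.leaf (31,21,false))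
 (Tr.leaf (34,131,false))))))
 (Tr.node (Tr.node (Tr.node (Tr.node (Tr.leaf (28,7,false))
 (Tr.leaf (31,117,false)))
 (Tr.node (Tr.leaf (29,129,false))
 (Tr.leaf (33,105,false))))
 (Tr.node (Tr.node (Tr.leaf (29,1,false))
 (Tr.leaf (32,111,false)))
 (Tr.node (Tr.leaf (30,123,false))
 (Tr.leaf (34,99,false)))))
 (Tr.node (Tr.node (Tr.node (Tr.leaf (28,71,false))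
 (Tr.leaf (32,47,false)))
 (Tr.node (Tr.leaf (30,59,false))
 (Tr.leaf (34,35,false))))
 (Tr.node (Tr.node (Tr.leaf (29,65,false))
 (Tr.leaf (33,41,false)))
 (Tr.node (Tr.leaf (31,53,false))
 (Tr.leaf (34,132,false)))))))))
 (Tr.node (Tr.node (Tr.node (Tr.node (Tr.node (Tr.node (Tr.node (Tr.leaf (5,0,false))
 (Tr.leaf (31,65,false)))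
 (Tr.node (Tr.leaf (29,77,false))
 (Tr.leaf (33,53,false))))
 (Tr.node (Tr.node (Tr.leaf (28,83,false))
 (Tr.leaf (32,59,false)))
 (Tr.node (Tr.leaf (30,71,false))
 (Tr.leaf (34,47,false)))))
 (Tr.node (Tr.node (Tr.node (Tr.leaf (28,19,false))
 (Tr.leaf (31,129,false)))
 (Tr.node (Tr.leaf (30,7,false))
 (Tr.leaf (33,117,false))))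
 (Tr.node (Tr.node (Tr.leaf (29,13,false))
 (Tr.leaf (32,123,false)))
 (Tr.node (Tr.leaf (31,1,false))
 (Tr.leaf (34,111,false))))))
 (Tr.node (Tr.node (Tr.node (Tr.node (Tr.leaf (22,0,false))
 (Tr.leaf (31,97,false)))
 (Tr.node (Tr.leaf (29,109,false))
 (Tr.leaf (33,85,false))))
 (Tr.node (Tr.node (Tr.leaf (28,115,false))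
 (Tr.leaf (32,91,false)))
 (Tr.node (Tr.leaf (30,103,false))
 (Tr.leaf (34,79,false)))))
 (Tr.node (Tr.node (Tr.node (Tr.leaf (28,51,false))
 (Tr.leaf (32,27,false)))
 (Tr.node (Tr.leaf (30,39,false))
 (Tr.leaf (34,15,false))))
 (Tr.node (Tr.node (Tr.leaf (29,45,false))
 (Tr.leaf (33,21,false)))
 (Tr.node (Tr.leaf (31,33,false))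
 (Tr.leaf (34,132,false)))))))
 (Tr.node (Tr.node (Tr.node (Tr.node (Tr.node (Tr.leaf (14,0,false))
 (Tr.leaf (31,81,false)))
 (Tr.node (Tr.leaf (29,93,false))
 (Tr.leaf (33,69,false))))
 (Tr.node (Tr.node (Tr.leaf (28,99,false))
 (Tr.leaf (32,75,false)))
 (Tr.node (Tr.leaf (30,87,false))
 (Tr.leaf (34,63,false)))))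
 (Tr.node (Tr.node (Tr.node (Tr.leaf (28,35,false))
 (Tr.leaf (32,11,false)))
 (Tr.node (Tr.leaf (30,23,false))
 (Tr.leaf (34,0,false))))
 (Tr.node (Tr.node (Tr.leaf (29,29,false))
 (Tr.leaf (33,5,false)))
 (Tr.node (Tr.leaf (31,17,false))
 (Tr.leaf (34,127,false))))))
 (Tr.node (Tr.node (Tr.node (Tr.node (Tr.leaf (28,3,false))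
 (Tr.leaf (31,113,false)))
 (Tr.node (Tr.leaf (29,125,false))
 (Tr.leaf (33,101,false))))
 (Tr.node (Tr.node (Tr.leaf (28,131,false))
 (Tr.leaf (32,107,false)))
 (Tr.node (Tr.leaf (30,119,false))
 (Tr.leaf (34,95,false)))))
 (Tr.node (Tr.node (Tr.node (Tr.leaf (28,67,false))
 (Tr.leaf (32,43,false)))
 (Tr.node (Tr.leaf (30,55,false))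
 (Tr.leaf (34,31,false))))
 (Tr.node (Tr.node (Tr.leaf (29,61,false))
 (Tr.leaf (33,37,false)))
 (Tr.node (Tr.leaf (31,49,false))
 (Tr.leaf (34,132,false))))))))
 (Tr.node (Tr.node (Tr.node (Tr.node (Tr.node (Tr.node (Tr.leaf (10,0,false))
 (Tr.leaf (31,73,false)))
 (Tr.node (Tr.leaf (29,85,false))
 (Tr.leaf (33,61,false))))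
 (Tr.node (Tr.node (Tr.leaf (28,91,false))
 (Tr.leaf (32,67,false)))
 (Tr.node (Tr.leaf (30,79,false))
 (Tr.leaf (34,55,false)))))
 (Tr.node (Tr.node (Tr.node (Tr.leaf (28,27,false))
 (Tr.leaf (32,3,false)))
 (Tr.node (Tr.leaf (30,15,false))
 (Tr.leaf (33,125,false))))
 (Tr.node (Tr.node (Tr.leaf (29,21,false))
 (Tr.leaf (32,131,false)))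
 (Tr.node (Tr.leaf (31,9,false))
 (Tr.leaf (34,119,false))))))
 (Tr.node (Tr.node (Tr.node (Tr.node (Tr.leaf (26,0,false))
 (Tr.leaf (31,105,false)))
 (Tr.node (Tr.leaf (29,117,false))
 (Tr.leaf (33,93,false))))
 (Tr.node (Tr.node (Tr.leaf (28,123,false))
 (Tr.leaf (32,99,false)))
 (Tr.node (Tr.leaf (30,111,false))
 (Tr.leaf (34,87,false)))))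
 (Tr.node (Tr.node (Tr.node (Tr.leaf (28,59,false))
 (Tr.leaf (32,35,false)))
 (Tr.node (Tr.leaf (30,47,false))
 (Tr.leaf (34,23,false))))
 (Tr.node (Tr.node (Tr.leaf (29,53,false))
 (Tr.leaf (33,29,false)))
 (Tr.node (Tr.leaf (31,41,false))
 (Tr.leaf (34,132,false)))))))
 (Tr.node (Tr.node (Tr.node (Tr.node (Tr.node (Tr.leaf (18,0,false))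
 (Tr.leaf (31,89,false)))
 (Tr.node (Tr.leaf (29,101,false))
 (Tr.leaf (33,77,false))))
 (Tr.node (Tr.node (Tr.leaf (28,107,false))
 (Tr.leaf (32,83,false)))
 (Tr.node (Tr.leaf (30,95,false))
 (Tr.leaf (34,71,false)))))
 (Tr.node (Tr.node (Tr.node (Tr.leaf (28,43,false))
 (Tr.leaf (32,19,false)))
 (Tr.node (Tr.leaf (30,31,false))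
 (Tr.leaf (34,7,false))))
 (Tr.node (Tr.node (Tr.leaf (29,37,false))
 (Tr.leaf (33,13,false)))
 (Tr.node (Tr.leaf (31,25,false))
 (Tr.leaf (34,132,false))))))
 (Tr.node (Tr.node (Tr.node (Tr.node (Tr.leaf (28,11,false))
 (Tr.leaf (31,121,false)))
 (Tr.node (Tr.leaf (30,0,false))
 (Tr.leaf (33,109,false))))
 (Tr.node (Tr.node (Tr.leaf (29,5,false))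
 (Tr.leaf (32,115,false)))
 (Tr.node (Tr.leaf (30,127,false))
 (Tr.leaf (34,103,false)))))
 (Tr.node (Tr.node (Tr.node (Tr.leaf (28,75,false))
 (Tr.leaf (32,51,false)))
 (Tr.node (Tr.leaf (30,63,false))
 (Tr.leaf (34,39,false))))
 (Tr.node (Tr.node (Tr.leaf (29,69,false))
 (Tr.leaf (33,45,false)))
 (Tr.node (Tr.leaf (31,57,false))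
 (Tr.leaf (34,132,false)))))))))))
 (Tr.node (Tr.node (Tr.node (Tr.node (Tr.node (Tr.node (Tr.node (Tr.node (Tr.node (Tr.leaf (0,0,false))
 (Tr.leaf (31,60,false)))
 (Tr.node (Tr.leaf (29,72,false))
 (Tr.leaf (33,48,false))))
 (Tr.node (Tr.node (Tr.leaf (28,78,false))
 (Tr.leaf (32,54,false)))
 (Tr.node (Tr.leaf (30,66,false))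
 (Tr.leaf (34,42,false)))))
 (Tr.node (Tr.node (Tr.node (Tr.leaf (28,14,false))
 (Tr.leaf (31,124,false)))
 (Tr.node (Tr.leaf (30,2,false))
 (Tr.leaf (33,112,false))))
 (Tr.node (Tr.node (Tr.leaf (29,8,false))
 (Tr.leaf (32,118,false)))
 (Tr.node (Tr.leaf (30,130,false))
 (Tr.leaf (34,106,false))))))
 (Tr.node (Tr.node (Tr.node (Tr.node (Tr.leaf (19,1,false))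
 (Tr.leaf (31,92,false)))
 (Tr.node (Tr.leaf (29,104,false))
 (Tr.leaf (33,80,false))))
 (Tr.node (Tr.node (Tr.leaf (28,110,false))
 (Tr.leaf (32,86,false)))
 (Tr.node (Tr.leaf (30,98,false))
 (Tr.leaf (34,74,false)))))
 (Tr.node (Tr.node (Tr.node (Tr.leaf (28,46,false))
 (Tr.leaf (32,22,false)))
 (Tr.node (Tr.leaf (30,34,false))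
 (Tr.leaf (34,10,false))))
 (Tr.node (Tr.node (Tr.leaf (29,40,false))
 (Tr.leaf (33,16,false)))
 (Tr.node (Tr.leaf (31,28,false))
 (Tr.leaf (34,132,false)))))))
 (Tr.node (Tr.node (Tr.node (Tr.node (Tr.node (Tr.leaf (11,1,false))
 (Tr.leaf (31,76,false)))
 (Tr.node (Tr.leaf (29,88,false))
 (Tr.leaf (33,64,false))))
 (Tr.node (Tr.node (Tr.leaf (28,94,false))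
 (Tr.leaf (32,70,false)))
 (Tr.node (Tr.leaf (30,82,false))
 (Tr.leaf (34,58,false)))))
 (Tr.node (Tr.node (Tr.node (Tr.leaf (28,30,false))
 (Tr.leaf (32,6,false)))
 (Tr.node (Tr.leaf (30,18,false))
 (Tr.leaf (33,128,false))))
 (Tr.node (Tr.node (Tr.leaf (29,24,false))
 (Tr.leaf (33,133,false)))
 (Tr.node (Tr.leaf (31,12,false))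
 (Tr.leaf (34,122,false))))))
 (Tr.node (Tr.node (Tr.node (Tr.node (Tr.leaf (27,1,false))
 (Tr.leaf (31,108,false)))
 (Tr.node (Tr.leaf (29,120,false))
 (Tr.leaf (33,96,false))))
 (Tr.node (Tr.node (Tr.leaf (28,126,false))
 (Tr.leaf (32,102,false)))
 (Tr.node (Tr.leaf (30,114,false))
 (Tr.leaf (34,90,false)))))
 (Tr.node (Tr.node (Tr.node (Tr.leaf (28,62,false))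
 (Tr.leaf (32,38,false)))
 (Tr.node (Tr.leaf (30,50,false))
 (Tr.leaf (34,26,false))))
 (Tr.node (Tr.node (Tr.leaf (29,56,false))
 (Tr.leaf (33,32,false)))
 (Tr.node (Tr.leaf (31,44,false))
 (Tr.leaf (34,132,false))))))))
 (Tr.node (Tr.node (Tr.node (Tr.node (Tr.node (Tr.node (Tr.leaf (7,1,false))
 (Tr.leaf (31,68,false)))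
 (Tr.node (Tr.leaf (29,80,false))
 (Tr.leaf (33,56,false))))
 (Tr.node (Tr.node (Tr.leaf (28,86,false))
 (Tr.leaf (32,62,false)))
 (Tr.node (Tr.leaf (30,74,false))
 (Tr.leaf (34,50,false)))))
 (Tr.node (Tr.node (Tr.node (Tr.leaf (28,22,false))
 (Tr.leaf (31,132,false)))
 (Tr.node (Tr.leaf (30,10,false))
 (Tr.leaf (33,120,false))))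
 (Tr.node (Tr.node (Tr.leaf (29,16,false))
 (Tr.leaf (32,126,false)))
 (Tr.node (Tr.leaf (31,4,false))
 (Tr.leaf (34,114,false))))))
 (Tr.node (Tr.node (Tr.node (Tr.node (Tr.leaf (23,1,false))
 (Tr.leaf (31,100,false)))
 (Tr.node (Tr.leaf (29,112,false))
 (Tr.leaf (33,88,false))))
 (Tr.node (Tr.node (Tr.leaf (28,118,false))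
 (Tr.leaf (32,94,false)))
 (Tr.node (Tr.leaf (30,106,false))
 (Tr.leaf (34,82,false)))))
 (Tr.node (Tr.node (Tr.node (Tr.leaf (28,54,false))
 (Tr.leaf (32,30,false)))
 (Tr.node (Tr.leaf (30,42,false))
 (Tr.leaf (34,18,false))))
 (Tr.node (Tr.node (Tr.leaf (29,48,false))
 (Tr.leaf (33,24,false)))
 (Tr.node (Tr.leaf (31,36,false))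
 (Tr.leaf (34,132,false)))))))
 (Tr.node (Tr.node (Tr.node (Tr.node (Tr.node (Tr.leaf (15,1,false))
 (Tr.leaf (31,84,false)))
 (Tr.node (Tr.leaf (29,96,false))
 (Tr.leaf (33,72,false))))
 (Tr.node (Tr.node (Tr.leaf (28,102,false))
 (Tr.leaf (32,78,false)))
 (Tr.node (Tr.leaf (30,90,false))
 (Tr.leaf (34,66,false)))))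
 (Tr.node (Tr.node (Tr.node (Tr.leaf (28,38,false))
 (Tr.leaf (32,14,false)))
 (Tr.node (Tr.leaf (30,26,false))
 (Tr.leaf (34,2,false))))
 (Tr.node (Tr.node (Tr.leaf (29,32,false))
 (Tr.leaf (33,8,false)))
 (Tr.node (Tr.leaf (31,20,false))
 (Tr.leaf (34,130,false))))))
 (Tr.node (Tr.node (Tr.node (Tr.node (Tr.leaf (28,6,false))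
 (Tr.leaf (31,116,false)))
 (Tr.node (Tr.leaf (29,128,false))
 (Tr.leaf (33,104,false))))
 (Tr.node (Tr.node (Tr.leaf (29,133,false))
 (Tr.leaf (32,110,false)))
 (Tr.node (Tr.leaf (30,122,false))
 (Tr.leaf (34,98,false)))))
 (Tr.node (Tr.node (Tr.node (Tr.leaf (28,70,false))
 (Tr.leaf (32,46,false)))
 (Tr.node (Tr.leaf (30,58,false))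
 (Tr.leaf (34,34,false))))
 (Tr.node (Tr.node (Tr.leaf (29,64,false))
 (Tr.leaf (33,40,false)))
 (Tr.node (Tr.leaf (31,52,false))
 (Tr.leaf (34,132,false)))))))))
 (Tr.node (Tr.node (Tr.node (Tr.node (Tr.node (Tr.node (Tr.node (Tr.leaf (4,0,false))
 (Tr.leaf (31,64,false)))
 (Tr.node (Tr.leaf (29,76,false))
 (Tr.leaf (33,52,false))))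
 (Tr.node (Tr.node (Tr.leaf (28,82,false))
 (Tr.leaf (32,58,false)))
 (Tr.node (Tr.leaf (30,70,false))
 (Tr.leaf (34,46,false)))))
 (Tr.node (Tr.node (Tr.node (Tr.leaf (28,18,false))
 (Tr.leaf (31,128,false)))
 (Tr.node (Tr.leaf (30,6,false))
 (Tr.leaf (33,116,false))))
 (Tr.node (Tr.node (Tr.leaf (29,12,false))
 (Tr.leaf (32,122,false)))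
 (Tr.node (Tr.leaf (31,133,false))
 (Tr.leaf (34,110,false))))))
 (Tr.node (Tr.node (Tr.node (Tr.node (Tr.leaf (21,1,false))
 (Tr.leaf (31,96,false)))
 (Tr.node (Tr.leaf (29,108,false))
 (Tr.leaf (33,84,false))))
 (Tr.node (Tr.node (Tr.leaf (28,114,false))
 (Tr.leaf (32,90,false)))
 (Tr.node (Tr.leaf (30,102,false))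
 (Tr.leaf (34,78,false)))))
 (Tr.node (Tr.node (Tr.node (Tr.leaf (28,50,false))
 (Tr.leaf (32,26,false)))
 (Tr.node (Tr.leaf (30,38,false))
 (Tr.leaf (34,14,false))))
 (Tr.node (Tr.node (Tr.leaf (29,44,false))
 (Tr.leaf (33,20,false)))
 (Tr.node (Tr.leaf (31,32,false))
 (Tr.leaf (34,132,false)))))))
 (Tr.node (Tr.node (Tr.node (Tr.node (Tr.node (Tr.leaf (13,1,false))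
 (Tr.leaf (31,80,false)))
 (Tr.node (Tr.leaf (29,92,false))
 (Tr.leaf (33,68,false))))
 (Tr.node (Tr.node (Tr.leaf (28,98,false))
 (Tr.leaf (32,74,false)))
 (Tr.node (Tr.leaf (30,86,false))
 (Tr.leaf (34,62,false)))))
 (Tr.node (Tr.node (Tr.node (Tr.leaf (28,34,false))
 (Tr.leaf (32,10,false)))
 (Tr.node (Tr.leaf (30,22,false))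
 (Tr.leaf (33,132,false))))
 (Tr.node (Tr.node (Tr.leaf (29,28,false))
 (Tr.leaf (33,4,false)))
 (Tr.node (Tr.leaf (31,16,false))
 (Tr.leaf (34,126,false))))))
 (Tr.node (Tr.node (Tr.node (Tr.node (Tr.leaf (28,2,false))
 (Tr.leaf (31,112,false)))
 (Tr.node (Tr.leaf (29,124,false))
 (Tr.leaf (33,100,false))))
 (Tr.node (Tr.node (Tr.leaf (28,130,false))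
 (Tr.leaf (32,106,false)))
 (Tr.node (Tr.leaf (30,118,false))
 (Tr.leaf (34,94,false)))))
 (Tr.node (Tr.node (Tr.node (Tr.leaf (28,66,false))
 (Tr.leaf (32,42,false)))
 (Tr.node (Tr.leaf (30,54,false))
 (Tr.leaf (34,30,false))))
 (Tr.node (Tr.node (Tr.leaf (29,60,false))
 (Tr.leaf (33,36,false)))
 (Tr.node (Tr.leaf (31,48,false))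
 (Tr.leaf (34,132,false))))))))
 (Tr.node (Tr.node (Tr.node (Tr.node (Tr.node (Tr.node (Tr.leaf (9,1,false))
 (Tr.leaf (31,72,false)))
 (Tr.node (Tr.leaf (29,84,false))
 (Tr.leaf (33,60,false))))
 (Tr.node (Tr.node (Tr.leaf (28,90,false))
 (Tr.leaf (32,66,false)))
 (Tr.node (Tr.leaf (30,78,false))
 (Tr.leaf (34,54,false)))))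
 (Tr.node (Tr.node (Tr.node (Tr.leaf (28,26,false))
 (Tr.leaf (32,2,false)))
 (Tr.node (Tr.leaf (30,14,false))
 (Tr.leaf (33,124,false))))
 (Tr.node (Tr.node (Tr.leaf (29,20,false))
 (Tr.leaf (32,130,false)))
 (Tr.node (Tr.leaf (31,8,false))
 (Tr.leaf (34,118,false))))))
 (Tr.node (Tr.node (Tr.node (Tr.node (Tr.leaf (25,1,false))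
 (Tr.leaf (31,104,false)))
 (Tr.node (Tr.leaf (29,116,false))
 (Tr.leaf (33,92,false))))
 (Tr.node (Tr.node (Tr.leaf (28,122,false))
 (Tr.leaf (32,98,false)))
 (Tr.node (Tr.leaf (30,110,false))
 (Tr.leaf (34,86,false)))))
 (Tr.node (Tr.node (Tr.node (Tr.leaf (28,58,false))
 (Tr.leaf (32,34,false)))
 (Tr.node (Tr.leaf (30,46,false))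
 (Tr.leaf (34,22,false))))
 (Tr.node (Tr.node (Tr.leaf (29,52,false))
 (Tr.leaf (33,28,false)))
 (Tr.node (Tr.leaf (31,40,false))
 (Tr.leaf (34,132,false)))))))
 (Tr.node (Tr.node (Tr.node (Tr.node (Tr.node (Tr.leaf (17,1,false))
 (Tr.leaf (31,88,false)))
 (Tr.node (Tr.leaf (29,100,false))
 (Tr.leaf (33,76,false))))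
 (Tr.node (Tr.node (Tr.leaf (28,106,false))
 (Tr.leaf (32,82,false)))
 (Tr.node (Tr.leaf (30,94,false))
 (Tr.leaf (34,70,false)))))
 (Tr.node (Tr.node (Tr.node (Tr.leaf (28,42,false))
 (Tr.leaf (32,18,false)))
 (Tr.node (Tr.leaf (30,30,false))
 (Tr.leaf (34,6,false))))
 (Tr.node (Tr.node (Tr.leaf (29,36,false))
 (Tr.leaf (33,12,false)))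
 (Tr.node (Tr.leaf (31,24,false))
 (Tr.leaf (34,132,false))))))
 (Tr.node (Tr.node (Tr.node (Tr.node (Tr.leaf (28,10,false))
 (Tr.leaf (31,120,false)))
 (Tr.node (Tr.leaf (29,132,false))
 (Tr.leaf (33,108,false))))
 (Tr.node (Tr.node (Tr.leaf (29,4,false))
 (Tr.leaf (32,114,false)))
 (Tr.node (Tr.leaf (30,126,false))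
 (Tr.leaf (34,102,false)))))
 (Tr.node (Tr.node (Tr.node (Tr.leaf (28,74,false))
 (Tr.leaf (32,50,false)))
 (Tr.node (Tr.leaf (30,62,false))
 (Tr.leaf (34,38,false))))
 (Tr.node (Tr.node (Tr.leaf (29,68,false))
 (Tr.leaf (33,44,false)))
 (Tr.node (Tr.leaf (31,56,false))
 (Tr.leaf (34,132,false))))))))))
 (Tr.node (Tr.node (Tr.node (Tr.node (Tr.node (Tr.node (Tr.node (Tr.node (Tr.leaf (2,0,false))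
 (Tr.leaf (31,62,false)))
 (Tr.node (Tr.leaf (29,74,false))
 (Tr.leaf (33,50,false))))
 (Tr.node (Tr.node (Tr.leaf (28,80,false))
 (Tr.leaf (32,56,false)))
 (Tr.node (Tr.leaf (30,68,false))
 (Tr.leaf (34,44,false)))))
 (Tr.node (Tr.node (Tr.node (Tr.leaf (28,16,false))
 (Tr.leaf (31,126,false)))
 (Tr.node (Tr.leaf (30,4,false))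
 (Tr.leaf (33,114,false))))
 (Tr.node (Tr.node (Tr.leaf (29,10,false))
 (Tr.leaf (32,120,false)))
 (Tr.node (Tr.leaf (30,132,false))
 (Tr.leaf (34,108,false))))))
 (Tr.node (Tr.node (Tr.node (Tr.node (Tr.leaf (20,1,false))
 (Tr.leaf (31,94,false)))
 (Tr.node (Tr.leaf (29,106,false))
 (Tr.leaf (33,82,false))))
 (Tr.node (Tr.node (Tr.leaf (28,112,false))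
 (Tr.leaf (32,88,false)))
 (Tr.node (Tr.leaf (30,100,false))
 (Tr.leaf (34,76,false)))))
 (Tr.node (Tr.node (Tr.node (Tr.leaf (28,48,false))
 (Tr.leaf (32,24,false)))
 (Tr.node (Tr.leaf (30,36,false))
 (Tr.leaf (34,12,false))))
 (Tr.node (Tr.node (Tr.leaf (29,42,false))
 (Tr.leaf (33,18,false)))
 (Tr.node (Tr.leaf (31,30,false))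
 (Tr.leaf (34,132,false)))))))
 (Tr.node (Tr.node (Tr.node (Tr.node (Tr.node (Tr.leaf (12,1,false))
 (Tr.leaf (31,78,false)))
 (Tr.node (Tr.leaf (29,90,false))
 (Tr.leaf (33,66,false))))
 (Tr.node (Tr.node (Tr.leaf (28,96,false))
 (Tr.leaf (32,72,false)))
 (Tr.node (Tr.leaf (30,84,false))
 (Tr.leaf (34,60,false)))))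
 (Tr.node (Tr.node (Tr.node (Tr.leaf (28,32,false))
 (Tr.leaf (32,8,false)))
 (Tr.node (Tr.leaf (30,20,false))
 (Tr.leaf (33,130,false))))
 (Tr.node (Tr.node (Tr.leaf (29,26,false))
 (Tr.leaf (33,2,false)))
 (Tr.node (Tr.leaf (31,14,false))
 (Tr.leaf (34,124,false))))))
 (Tr.node (Tr.node (Tr.node (Tr.node (Tr.leaf (28,133,false))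
 (Tr.leaf (31,110,false)))
 (Tr.node (Tr.leaf (29,122,false))
 (Tr.leaf (33,98,false))))
 (Tr.node (Tr.node (Tr.leaf (28,128,false))
 (Tr.leaf (32,104,false)))
 (Tr.node (Tr.leaf (30,116,false))
 (Tr.leaf (34,92,false)))))
 (Tr.node (Tr.node (Tr.node (Tr.leaf (28,64,false))
 (Tr.leaf (32,40,false)))
 (Tr.node (Tr.leaf (30,52,false))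
 (Tr.leaf (34,28,false))))
 (Tr.node (Tr.node (Tr.leaf (29,58,false))
 (Tr.leaf (33,34,false)))
 (Tr.node (Tr.leaf (31,46,false))
 (Tr.leaf (34,132,false))))))))
 (Tr.node (Tr.node (Tr.node (Tr.node (Tr.node (Tr.node (Tr.leaf (8,1,false))
 (Tr.leaf (31,70,false)))
 (Tr.node (Tr.leaf (29,82,false))
 (Tr.leaf (33,58,false))))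
 (Tr.node (Tr.node (Tr.leaf (28,88,false))
 (Tr.leaf (32,64,false)))
 (Tr.node (Tr.leaf (30,76,false))
 (Tr.leaf (34,52,false)))))
 (Tr.node (Tr.node (Tr.node (Tr.leaf (28,24,false))
 (Tr.leaf (32,133,false)))
 (Tr.node (Tr.leaf (30,12,false))
 (Tr.leaf (33,122,false))))
 (Tr.node (Tr.node (Tr.leaf (29,18,false))
 (Tr.leaf (32,128,false)))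
 (Tr.node (Tr.leaf (31,6,false))
 (Tr.leaf (34,116,false))))))
 (Tr.node (Tr.node (Tr.node (Tr.node (Tr.leaf (24,1,false))
 (Tr.leaf (31,102,false)))
 (Tr.node (Tr.leaf (29,114,false))
 (Tr.leaf (33,90,false))))
 (Tr.node (Tr.node (Tr.leaf (28,120,false))
 (Tr.leaf (32,96,false)))
 (Tr.node (Tr.leaf (30,108,false))
 (Tr.leaf (34,84,false)))))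
 (Tr.node (Tr.node (Tr.node (Tr.leaf (28,56,false))
 (Tr.leaf (32,32,false)))
 (Tr.node (Tr.leaf (30,44,false))
 (Tr.leaf (34,20,false))))
 (Tr.node (Tr.node (Tr.leaf (29,50,false))
 (Tr.leaf (33,26,false)))
 (Tr.node (Tr.leaf (31,38,false))
 (Tr.leaf (34,132,false)))))))
 (Tr.node (Tr.node (Tr.node (Tr.node (Tr.node (Tr.leaf (16,1,false))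
 (Tr.leaf (31,86,false)))
 (Tr.node (Tr.leaf (29,98,false))
 (Tr.leaf (33,74,false))))
 (Tr.node (Tr.node (Tr.leaf (28,104,false))
 (Tr.leaf (32,80,false)))
 (Tr.node (Tr.leaf (30,92,false))
 (Tr.leaf (34,68,false)))))
 (Tr.node (Tr.node (Tr.node (Tr.leaf (28,40,false))
 (Tr.leaf (32,16,false)))
 (Tr.node (Tr.leaf (30,28,false))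
 (Tr.leaf (34,4,false))))
 (Tr.node (Tr.node (Tr.leaf (29,34,false))
 (Tr.leaf (33,10,false)))
 (Tr.node (Tr.leaf (31,22,false))
 (Tr.leaf (34,132,false))))))
 (Tr.node (Tr.node (Tr.node (Tr.node (Tr.leaf (28,8,false))
 (Tr.leaf (31,118,false)))
 (Tr.node (Tr.leaf (29,130,false))
 (Tr.leaf (33,106,false))))
 (Tr.node (Tr.node (Tr.leaf (29,2,false))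
 (Tr.leaf (32,112,false)))
 (Tr.node (Tr.leaf (30,124,false))
 (Tr.leaf (34,100,false)))))
 (Tr.node (Tr.node (Tr.node (Tr.leaf (28,72,false))
 (Tr.leaf (32,48,false)))
 (Tr.node (Tr.leaf (30,60,false))
 (Tr.leaf (34,36,false))))
 (Tr.node (Tr.node (Tr.leaf (29,66,false))
 (Tr.leaf (33,42,false)))
 (Tr.node (Tr.leaf (31,54,false))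
 (Tr.leaf (34,132,false)))))))))
 (Tr.node (Tr.node (Tr.node (Tr.node (Tr.node (Tr.node (Tr.node (Tr.leaf (6,0,false))
 (Tr.leaf (31,66,false)))
 (Tr.node (Tr.leaf (29,78,false))
 (Tr.leaf (33,54,false))))
 (Tr.node (Tr.node (Tr.leaf (28,84,false))
 (Tr.leaf (32,60,false)))
 (Tr.node (Tr.leaf (30,72,false))
 (Tr.leaf (34,48,false)))))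
 (Tr.node (Tr.node (Tr.node (Tr.leaf (28,20,false))
 (Tr.leaf (31,130,false)))
 (Tr.node (Tr.leaf (30,8,false))
 (Tr.leaf (33,118,false))))
 (Tr.node (Tr.node (Tr.leaf (29,14,false))
 (Tr.leaf (32,124,false)))
 (Tr.node (Tr.leaf (31,2,false))
 (Tr.leaf (34,112,false))))))
 (Tr.node (Tr.node (Tr.node (Tr.node (Tr.leaf (22,1,false))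
 (Tr.leaf (31,98,false)))
 (Tr.node (Tr.leaf (29,110,false))
 (Tr.leaf (33,86,false))))
 (Tr.node (Tr.node (Tr.leaf (28,116,false))
 (Tr.leaf (32,92,false)))
 (Tr.node (Tr.leaf (30,104,false))
 (Tr.leaf (34,80,false)))))
 (Tr.node (Tr.node (Tr.node (Tr.leaf (28,52,false))
 (Tr.leaf (32,28,false)))
 (Tr.node (Tr.leaf (30,40,false))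
 (Tr.leaf (34,16,false))))
 (Tr.node (Tr.node (Tr.leaf (29,46,false))
 (Tr.leaf (33,22,false)))
 (Tr.node (Tr.leaf (31,34,false))
 (Tr.leaf (34,132,false)))))))
 (Tr.node (Tr.node (Tr.node (Tr.node (Tr.node (Tr.leaf (14,1,false))
 (Tr.leaf (31,82,false)))
 (Tr.node (Tr.leaf (29,94,false))
 (Tr.leaf (33,70,false))))
 (Tr.node (Tr.node (Tr.leaf (28,100,false))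
 (Tr.leaf (32,76,false)))
 (Tr.node (Tr.leaf (30,88,false))
 (Tr.leaf (34,64,false)))))
 (Tr.node (Tr.node (Tr.node (Tr.leaf (28,36,false))
 (Tr.leaf (32,12,false)))
 (Tr.node (Tr.leaf (30,24,false))
 (Tr.leaf (34,133,false))))
 (Tr.node (Tr.node (Tr.leaf (29,30,false))
 (Tr.leaf (33,6,false)))
 (Tr.node (Tr.leaf (31,18,false))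
 (Tr.leaf (34,128,false))))))
 (Tr.node (Tr.node (Tr.node (Tr.node (Tr.leaf (28,4,false))
 (Tr.leaf (31,114,false)))
 (Tr.node (Tr.leaf (29,126,false))
 (Tr.leaf (33,102,false))))
 (Tr.node (Tr.node (Tr.leaf (28,132,false))
 (Tr.leaf (32,108,false)))
 (Tr.node (Tr.leaf (30,120,false))
 (Tr.leaf (34,96,false)))))
 (Tr.node (Tr.node (Tr.node (Tr.leaf (28,68,false))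
 (Tr.leaf (32,44,false)))
 (Tr.node (Tr.leaf (30,56,false))
 (Tr.leaf (34,32,false))))
 (Tr.node (Tr.node (Tr.leaf (29,62,false))
 (Tr.leaf (33,38,false)))
 (Tr.node (Tr.leaf (31,50,false))
 (Tr.leaf (34,132,false))))))))
 (Tr.node (Tr.node (Tr.node (Tr.node (Tr.node (Tr.node (Tr.leaf (10,1,false))
 (Tr.leaf (31,74,false)))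
 (Tr.node (Tr.leaf (29,86,false))
 (Tr.leaf (33,62,false))))
 (Tr.node (Tr.node (Tr.leaf (28,92,false))
 (Tr.leaf (32,68,false)))
 (Tr.node (Tr.leaf (30,80,false))
 (Tr.leaf (34,56,false)))))
 (Tr.node (Tr.node (Tr.node (Tr.leaf (28,28,false))
 (Tr.leaf (32,4,false)))
 (Tr.node (Tr.leaf (30,16,false))
 (Tr.leaf (33,126,false))))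
 (Tr.node (Tr.node (Tr.leaf (29,22,false))
 (Tr.leaf (32,132,false)))
 (Tr.node (Tr.leaf (31,10,false))
 (Tr.leaf (34,120,false))))))
 (Tr.node (Tr.node (Tr.node (Tr.node (Tr.leaf (26,1,false))
 (Tr.leaf (31,106,false)))
 (Tr.node (Tr.leaf (29,118,false))
 (Tr.leaf (33,94,false))))
 (Tr.node (Tr.node (Tr.leaf (28,124,false))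
 (Tr.leaf (32,100,false)))
 (Tr.node (Tr.leaf (30,112,false))
 (Tr.leaf (34,88,false)))))
 (Tr.node (Tr.node (Tr.node (Tr.leaf (28,60,false))
 (Tr.leaf (32,36,false)))
 (Tr.node (Tr.leaf (30,48,false))
 (Tr.leaf (34,24,false))))
 (Tr.node (Tr.node (Tr.leaf (29,54,false))
 (Tr.leaf (33,30,false)))
 (Tr.node (Tr.leaf (31,42,false))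
 (Tr.leaf (34,132,false)))))))
 (Tr.node (Tr.node (Tr.node (Tr.node (Tr.node (Tr.leaf (18,1,false))
 (Tr.leaf (31,90,false)))
 (Tr.node (Tr.leaf (29,102,false))
 (Tr.leaf (33,78,false))))
 (Tr.node (Tr.node (Tr.leaf (28,108,false))
 (Tr.leaf (32,84,false)))
 (Tr.node (Tr.leaf (30,96,false))
 (Tr.leaf (34,72,false)))))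
 (Tr.node (Tr.node (Tr.node (Tr.leaf (28,44,false))
 (Tr.leaf (32,20,false)))
 (Tr.node (Tr.leaf (30,32,false))
 (Tr.leaf (34,8,false))))
 (Tr.node (Tr.node (Tr.leaf (29,38,false))
 (Tr.leaf (33,14,false)))
 (Tr.node (Tr.leaf (31,26,false))
 (Tr.leaf (34,132,false))))))
 (Tr.node (Tr.node (Tr.node (Tr.node (Tr.leaf (28,12,false))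
 (Tr.leaf (31,122,false)))
 (Tr.node (Tr.leaf (30,133,false))
 (Tr.leaf (33,110,false))))
 (Tr.node (Tr.node (Tr.leaf (29,6,false))
 (Tr.leaf (32,116,false)))
 (Tr.node (Tr.leaf (30,128,false))
 (Tr.leaf (34,104,false)))))
 (Tr.node (Tr.node (Tr.node (Tr.leaf (28,76,false))
 (Tr.leaf (32,52,false)))
 (Tr.node (Tr.leaf (30,64,false))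
 (Tr.leaf (34,40,false))))
 (Tr.node (Tr.node (Tr.leaf (29,70,false))
 (Tr.leaf (33,46,false)))
 (Tr.node (Tr.leaf (31,58,false))
 (Tr.leaf (34,132,false))))))))))))

/-- The letters. -/
def ls : List Nat := [0,1,2,3,4,5,6]

/-- The smaller letters. -/
def ls' : List Nat := [0,1,2,3,4,5]

/-- The inverses. -/
def inv' (c : Nat) : Nat := [0,1,2,3,4,5,6].getD c 0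

/-- The relators. -/
def rels' : List (List Nat) :=
  [[0,0],
   [1,1],
   [2,2],
   [3,3],
   [4,4],
   [5,5],
   [6,6],
   [0,1,0,1,0,1],
   [0,2,0,2],
   [0,3,0,3],
   [0,4,0,4],
   [0,5,0,5],
   [0,6,0,6],
   [1,2,1,2,1,2],
   [1,3,1,3],
   [1,4,1,4],
   [1,5,1,5],
   [1,6,1,6],
   [2,3,2,3,2,3],
   [2,4,2,4],
   [2,5,2,5,2,5],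
   [2,6,2,6],
   [3,4,3,4,3,4],
   [3,5,3,5],
   [3,6,3,6],
   [4,5,4,5],
   [4,6,4,6],
   [5,6,5,6,5,6],
   [6,5,2,1,0,3,2,1,4,3,2,5,2,3,4,1,2,3,0,1,2,5,6,5,2,1,0,3,2,1,4,3,2,5,2,3,4,1,2,3,0,1,2,5,6,5,2,1,0,3,2,1,4,3,2,5,2,3,4,1,2,3,0,1,2,5,0,5,2,1,0,3,2,1,4,3,2,5,2,3,4,1,2,3,0,1,2,5,6,5,2,1,0,3,2,1,4,3,2,5,2,3,4,1,2,3,0,1,2,5,6,5,2,1,0,3,2,1,4,3,2,5,2,3,4,1,2,3,0,1,2,5,6,0],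
   [6,5,2,1,0,3,2,1,4,3,2,5,2,3,4,1,2,3,0,1,2,5,6,5,2,1,0,3,2,1,4,3,2,5,2,3,4,1,2,3,0,1,2,5,6,5,2,1,0,3,2,1,4,3,2,5,2,3,4,1,2,3,0,1,2,5,1,5,2,1,0,3,2,1,4,3,2,5,2,3,4,1,2,3,0,1,2,5,6,5,2,1,0,3,2,1,4,3,2,5,2,3,4,1,2,3,0,1,2,5,6,5,2,1,0,3,2,1,4,3,2,5,2,3,4,1,2,3,0,1,2,5,6,1],
   [6,5,2,1,0,3,2,1,4,3,2,5,2,3,4,1,2,3,0,1,2,5,6,5,2,1,0,3,2,1,4,3,2,5,2,3,4,1,2,3,0,1,2,5,6,5,2,1,0,3,2,1,4,3,2,5,2,3,4,1,2,3,0,1,2,5,2,5,2,1,0,3,2,1,4,3,2,5,2,3,4,1,2,3,0,1,2,5,6,5,2,1,0,3,2,1,4,3,2,5,2,3,4,1,2,3,0,1,2,5,6,5,2,1,0,3,2,1,4,3,2,5,2,3,4,1,2,3,0,1,2,5,6,2],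
   [6,5,2,1,0,3,2,1,4,3,2,5,2,3,4,1,2,3,0,1,2,5,6,5,2,1,0,3,2,1,4,3,2,5,2,3,4,1,2,3,0,1,2,5,6,5,2,1,0,3,2,1,4,3,2,5,2,3,4,1,2,3,0,1,2,5,3,5,2,1,0,3,2,1,4,3,2,5,2,3,4,1,2,3,0,1,2,5,6,5,2,1,0,3,2,1,4,3,2,5,2,3,4,1,2,3,0,1,2,5,6,5,2,1,0,3,2,1,4,3,2,5,2,3,4,1,2,3,0,1,2,5,6,3],
   [6,5,2,1,0,3,2,1,4,3,2,5,2,3,4,1,2,3,0,1,2,5,6,5,2,1,0,3,2,1,4,3,2,5,2,3,4,1,2,3,0,1,2,5,6,5,2,1,0,3,2,1,4,3,2,5,2,3,4,1,2,3,0,1,2,5,4,5,2,1,0,3,2,1,4,3,2,5,2,3,4,1,2,3,0,1,2,5,6,5,2,1,0,3,2,1,4,3,2,5,2,3,4,1,2,3,0,1,2,5,6,5,2,1,0,3,2,1,4,3,2,5,2,3,4,1,2,3,0,1,2,5,6,4],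
   [6,5,2,1,0,3,2,1,4,3,2,5,2,3,4,1,2,3,0,1,2,5,6,5,2,1,0,3,2,1,4,3,2,5,2,3,4,1,2,3,0,1,2,5,6,5,2,1,0,3,2,1,4,3,2,5,2,3,4,1,2,3,0,1,2,5,5,5,2,1,0,3,2,1,4,3,2,5,2,3,4,1,2,3,0,1,2,5,6,5,2,1,0,3,2,1,4,3,2,5,2,3,4,1,2,3,0,1,2,5,6,5,2,1,0,3,2,1,4,3,2,5,2,3,4,1,2,3,0,1,2,5,6,5],
   [6,5,2,1,0,3,2,1,4,3,2,5,2,3,4,1,2,3,0,1,2,5,6,5,2,1,0,3,2,1,4,3,2,5,2,3,4,1,2,3,0,1,2,5,6,5,2,1,0,3,2,1,4,3,2,5,2,3,4,1,2,3,0,1,2,5,6,5,2,1,0,3,2,1,4,3,2,5,2,3,4,1,2,3,0,1,2,5,6,5,2,1,0,3,2,1,4,3,2,5,2,3,4,1,2,3,0,1,2,5,6,5,2,1,0,3,2,1,4,3,2,5,2,3,4,1,2,3,0,1,2,5,6,6]]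

/-- The subgroup. -/
def subs' : List (List Nat) :=
  [[0],[1],[2],[3],[4],[5]]


end Cfsg.Agent.Lib.TC.D.XE6.S1_Tab
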