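import Cfsg.Agent.Lib.TC.Enc

namespace Cfsg.Agent.Lib.TC.D.XE6.S2_T0

open Cfsg.Agent.Lib.TC.Enc

set_option maxRecDepth 100000

/-- A part of a table. -/
noncomputable def tree : Tr Nat :=
  (Tr.node (Tr.leaf (nat_lit 0xc000028883d702b96c0458c53d6443d600b15c2c0000a220e551cf5a18e5414e5310e5202b516a00002891353d035382292ccb5349c17c5b530a80000a230c490ab480105d24c4604a4500f56290000288c2d0cb311ca2d0892d041250003941200000a23ca3e0a93d00d4a0683a00c4412a3b470000288f24e0e28f0d24dc19cd402cfc4a4da980000a20c62e0a7334283100a392e8301e82fa40000288310a11a0c8214b0024d0b9ca879ca6100000a20082d0a4223e626366252a6241a623a3000028830c711948109cace947cb9478794758c0000a20072700621083173241a26419164184200002880146ce0c54010581884888c5048c4c840000a2302102c20f2820e003110410c0e20d0000002888042870424604205041c0082c08018000000a252004500034e0024c0014a00000105))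
 (Tr.leaf (nat_lit 0x2640000a249aa10b99c3faa037a9f2ba9e1ba9d7800002891666806a6c26258ce6649e6605e65d5c0000a23d8943989301995077902389213891b50000288356251de390de340623c15a307de2acc0000a20d38247687436863b6852f78b0348433000028805e20b5600a55fc955f814df03d5f6c80000a20d2764747a434793b4782f4771f68351000028805a04e4dd0d4dcc1c5c0055ec0c9c9400000a2014753926e3526d0706b2326c133716f0000289145a5045a023d9004dbc9c59c0c199b00000a2450624106108c5e0126a04d6017165)))

end Cfsg.Agent.Lib.TC.D.XE6.S2_T0
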