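import Cfsg.Agent.Lib.TC.Enc

namespace Cfsg.Agent.Lib.TC.D.XE6.S3_T0

open Cfsg.Agent.Lib.TC.Enc

set_option maxRecDepth 100000

/-- A part of a table. -/
noncomputable def tree : Tr Nat :=
  (Tr.leaf (nat_lit 0x8e0000280ae96c3e7acf9c93e698f985a00005001f2917493dd2026c619d1d2c0000a0bb622ad861ae000e8a0b21248000141763e558f434bb398f086c1090000281ab72229c00d7e3adb0296a10000050354ccb5b7254c87531050c09c0000a09a570885a031d0475602da1300001413429452b0f42808c9c052f850000280a5422192ac746025518745060000501467183a40c87c042630c758c0000a001d00832ea14d20532514c410000140511260855631e48850c2134200002800636014b0621c70c81031e4200005000845110c00634208a1842c000000a068441610e4843002120802800000141d00370009b001680000084))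

end Cfsg.Agent.Lib.TC.D.XE6.S3_T0
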